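import Cfsg.Agent.H20.FC4
import Cfsg.Agent.H26.NFr2
import Cfsg.Agent.H18.FT
/-! `H26.FC`: step C1 (`|V| = 4`) and the theorem `H120.fc`. -/
set_option autoImplicit false
set_option linter.unusedSectionVars false
namespace H120.FC
open Cfsg Subgroup H26 H4 H118 H13.FFa
open scoped Pointwise commutatorElement
universe u

section
variable {Γ W : Type*} [Group Γ] [AddCommGroup W] [DistribMulAction Γ W]

/-- `η` has order three and `[W, η] = {0, w, t, w + t}` -/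
structure Tv (η : Γ) (w t : W) : Prop where
  two : ∀ w : W, w + w = 0
  faith : ∀ γ : Γ, (∀ w : W, γ • w = w) → γ = 1
  w0 : w ≠ 0
  e1 : η • w = t
  e2 : η • t = w + t
  rg : ∀ x, η • x + x = 0 ∨ η • x + x = w ∨ η • x + x = t ∨ η • x + x = w + t

namespace Tv
variable {η θ : Γ} {w t b : W} (h : Tv η w t)
include h

theorem e3 : η • (w + t) = w := by rw [smul_add, h.e1, h.e2]; have := h.two t; grind
theorem t0 : t ≠ 0 := fun e => h.w0 ((smul_eq_zero_iff_eq η).1 (h.e1.trans e))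
theorem tw : t ≠ w := fun e => h.w0 (by have := h.e1; have := h.e2; grind)

theorem cube : η * η * η = 1 := h.faith _ fun x => by
  have k : ∀ y, η • x + x = y → y + η • y + η • η • y = 0 → (η * η * η) • x = x := fun y e j => by
    have e' : η • x = x + y := by have := h.two x; grind
    rw [mul_smul, mul_smul, e', smul_add, e', smul_add, smul_add, e']
    grind
  have := h.two w; have := h.two t
  rcases h.rg x with j | j | j | j <;> refine k _ j ?_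
  · simp
  · rw [h.e1, h.e2]; grind
  · rw [h.e2, h.e3]; grind
  · rw [h.e3, h.e1]; grind

theorem inv : Tv η⁻¹ w (w + t) := by
  refine ⟨h.two, h.faith, h.w0, inv_smul_eq_iff.2 h.e3.symm, inv_smul_eq_iff.2 ?_, fun x => ?_⟩
  · rw [← add_assoc, h.two, zero_add, h.e2]
  · have := h.rg (η⁻¹ • x)
    rw [smul_inv_smul] at this
    have := h.two w
    grind

theorem conj (σ : Γ) : Tv (σ * η * σ⁻¹) (σ • w) (σ • t) := by
  refine ⟨h.two, h.faith, fun e => h.w0 ((smul_eq_zero_iff_eq σ).1 e), by rw [mul_smul, mul_smul, inv_smul_smul, h.e1],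
    by rw [mul_smul, mul_smul, inv_smul_smul, h.e2, smul_add], fun x => ?_⟩
  have : (σ * η * σ⁻¹) • x + x = σ • (η • σ⁻¹ • x + σ⁻¹ • x) := by rw [smul_add, smul_inv_smul, mul_smul, mul_smul]
  rw [this, ← smul_add]
  rcases h.rg (σ⁻¹ • x) with j | j | j | j <;> simp [j]

theorem eq (h' : Tv θ w t) (o : Odd (orderOf (η⁻¹ * θ))) : θ = η := by
  refine (inv_mul_eq_one.1 (one_of_tr h.two h.faith o fun x => ?_)).symm
  have k : ∀ y, θ • y = η • y → y ∈ fx W (η⁻¹ * θ) := fun y e => by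
    change _ • y = y
    rw [mul_smul, e, inv_smul_smul]
  have a := k w (h'.e1.trans h.e1.symm)
  have b := k t (h'.e2.trans h.e2.symm)
  have : (η⁻¹ * θ) • x - x = η⁻¹ • θ • x + θ • x + (θ • x + x) := by
    rw [sub_eq h.two, mul_smul]; have := h.two (θ • x); grind
  rw [this]
  refine add_mem ?_ ?_
  · rcases h.inv.rg (θ • x) with j | j | j | j <;> rw [j]
    exacts [zero_mem _, a, add_mem a b, add_mem a (add_mem a b)]
  · rcases h'.rg x with j | j | j | j <;> rw [j]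
    exacts [zero_mem _, a, b, add_mem a b]

theorem plane [Finite Γ] [Finite W] (h' : Tv θ w b) {P : Subgroup Γ} (hP : IsPGroup 3 P) (h1 : η ∈ P) (h2 : θ ∈ P) :
    b = t ∨ b = w + t := by
  classical
  by_contra! n
  haveI : Fact (Nat.Prime 3) := ⟨Nat.prime_three⟩
  let X : Set W := {w, t, w + t, b, w + b, t + b, w + t + b}
  have mX : ∀ x, x ∈ X ↔ x = w ∨ x = t ∨ x = w + t ∨ x = b ∨ x = w + b ∨ x = t + b ∨ x = w + t + b := fun x => Iff.rfl
  have t1 := h.two w; have t2 := h.two t; have t3 := h.two b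
  have k : ∀ g : Γ, (∀ x, g • x + x = 0 ∨ g • x + x ∈ X) → g ∈ MulAction.stabilizer Γ X := fun g hg =>
    (MulAction.mem_stabilizer_set_iff_smul_set_subset (Set.toFinite X)).2 (by
      rintro _ ⟨x, hx, rfl⟩
      have n0 : x ≠ 0 := by have := h.w0; have := h.t0; have := h.tw; have := h'.t0; have := h'.tw; rw [mX] at hx; grind
      have n1 : g • x ≠ 0 := fun j => n0 ((smul_eq_zero_iff_eq g).1 j)
      have := hg x
      have := h.two x
      change g • x ∈ X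
      rw [mX] at *
      generalize g • x = y at *
      rcases hx with j | j | j | j | j | j | j <;> grind)
  have a1 := k η fun x => by have := h.rg x; rw [mX]; grind
  have a2 := k θ fun x => by have := h'.rg x; rw [mX]; grind
  let L := P ⊓ MulAction.stabilizer Γ X
  obtain ⟨n, e⟩ := (hP.to_le (inf_le_left : L ≤ P)).card_orbit w
  have c1 : (MulAction.orbit L w).ncard ≤ 7 := by
    refine (Set.ncard_le_ncard (t := X) ?_).trans ?_
    · rintro _ ⟨g, rfl⟩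
      rw [← show g.1 • X = X from g.2.2]; exact Set.smul_mem_smul_set (.inl rfl)
    · iterate 6 refine (Set.ncard_insert_le _ _).trans (Nat.succ_le_succ ?_)
      simp
  have c2 : 5 ≤ (MulAction.orbit L w).ncard := by
    refine le_trans ?_ (Set.ncard_le_ncard (s := {w, t, w + t, b, w + b}) ?_)
    · have := h.w0; have := h.t0; have := h.tw; have := h'.t0; have := h'.tw
      rw [Set.ncard_insert_of_notMem (by simp; grind), Set.ncard_insert_of_notMem (by simp; grind),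
        Set.ncard_insert_of_notMem (by simp; grind), Set.ncard_pair (by grind)]
    · have m1 : η ∈ L := ⟨h1, a1⟩
      have m2 : θ ∈ L := ⟨h2, a2⟩
      rintro x (rfl | rfl | rfl | rfl | rfl)
      exacts [MulAction.mem_orbit_self _, ⟨⟨η, m1⟩, h.e1⟩, ⟨⟨η * η, mul_mem m1 m1⟩, by
        change (η * η) • w = _; rw [mul_smul, h.e1, h.e2]⟩, ⟨⟨θ, m2⟩, h'.e1⟩, ⟨⟨θ * θ, mul_mem m2 m2⟩, by
        change (θ * θ) • w = _; rw [mul_smul, h'.e1, h'.e2]⟩]
  rw [← Nat.card_coe_set_eq, e] at c1 c2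
  rcases n with _ | _ | n
  · omega
  · omega
  · rw [pow_add, pow_add] at c1; have : 0 < 3 ^ n := by positivity
    omega

theorem fix [Finite Γ] [Finite W] {p : ℕ} (hp : p.Prime) (h1 : η ∈ pCoreOf p (⊤ : Subgroup Γ)) {σ : Γ} (e : σ • w = w)
    {c : W} (hc : η • c = c) : η • σ • c = σ • c := by
  haveI : Fact p.Prime := ⟨hp⟩
  have P := isPGroup_pCoreOf p (⊤ : Subgroup Γ)
  obtain rfl : p = 3 := by
    obtain ⟨k, hk⟩ := isPGroup_iff_mem.1 P η h1
    have o : orderOf η = 3 := haveI : Fact (Nat.Prime 3) := ⟨Nat.prime_three⟩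
      orderOf_eq_prime (by rw [pow_three', h.cube]) fun j => h.tw (by rw [← h.e1, j, one_smul])
    exact ((Nat.prime_dvd_prime_iff_eq Nat.prime_three hp).1
      (Nat.prime_three.dvd_of_dvd_pow (o ▸ orderOf_dvd_of_pow_eq_one hk))).symm
  have h2 := conj_mem_of_mem_normalizer (le_normalizer_pCoreOf 3 ⊤ (mem_top σ)) h1
  have o : ∀ x ∈ pCoreOf 3 (⊤ : Subgroup Γ), Odd (orderOf x) := fun x hx => by
    obtain ⟨k, hk⟩ := isPGroup_iff_mem.1 P x hx
    exact (Odd.pow (by decide : Odd 3)).of_dvd_nat (orderOf_dvd_of_pow_eq_one hk)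
  have h' := h.conj σ
  rw [e] at h'
  have k : (σ * η * σ⁻¹) • σ • c = σ • c := by rw [mul_smul, mul_smul, inv_smul_smul, hc]
  rcases h.plane h' P h1 h2 with j | j <;> rw [j] at h'
  · rwa [h.eq h' (o _ (mul_mem (inv_mem h1) h2))] at k
  · rw [h.inv.eq h' (o _ (mul_mem (inv_mem (inv_mem h1)) h2)), inv_smul_eq_iff] at k; exact k.symm
end Tv
end

variable {G : Type u} [Group G] [Finite G] {S V B : Subgroup G} {a : G}

/-- the plane `{1, w, t, w t}` of `V` given by the dihedral lemma -/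
structure Hf (S V B B₁ : Subgroup G) (a e w t : G) : Prop where
  wV : w ∈ V
  tV : t ∈ V
  w1 : w ≠ 1
  two : ∀ b ∈ B, b ∈ B₁ ∨ a * b ∈ B₁
  na : a ∉ B₁
  cen : ∀ b ∈ B₁, b * t * b⁻¹ = t
  ea : a * t * a⁻¹ = w * t
  g : ∀ b ∈ B, b ∉ B₁ → ⁅b, e⁆ * w * ⁅b, e⁆⁻¹ = t ∧ ⁅b, e⁆ * t * ⁅b, e⁆⁻¹ = w * t
  z : ∀ z ∈ oz S, z ≠ 1 → e * (z * w) * e⁻¹ = z * w
  fin : w ∈ oz S → Nat.card V = 4

theorem half (h : Fr S V) (hV : IsPGroup 2 V) (eB : IsElementaryAbelian 2 B) (h1 : B ≤ pCoreOf 2 (fH S))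
    (h2 : B ≤ ncl (fR S V) (fH S)) (h3 : V ≤ 𝐍 B) (h4 : (𝐂 B).relIndex V ≤ (𝐂 V).relIndex B) (ha : a ∈ B)
    (na : a ∉ 𝐂 V) : ∃ B₁ e w t, Hf S V B B₁ a e w t := by
  obtain ⟨Γ, W, _, _, _, _, _, mk, ac, m⟩ := exists_md (H := 𝐍 V) (z := 1) (h.ea hV) le_rfl (by
    rw [zpowers_one_eq_bot, centralizer_bot']; exact le_top)
  have BM : B ≤ 𝐍 V := h1.trans (h.Q_le.trans h.le)
  have inj : ∀ u ∈ V, ∀ v ∈ V, mk u = mk v → u = v := fun u hu v hv e => by
    simpa [mul_inv_eq_one] using (m.mk_eq hu hv).1 e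
  have fix : ∀ x ∈ 𝐍 V, ∀ u ∈ V, ac x • mk u = mk u ↔ x * u * x⁻¹ = u := fun x hx u hu => by
    rw [m.smul x hx u hu]; exact ⟨inj _ (m.cU hx hu) _ hu, fun e => by rw [e]⟩
  have ker : ∀ x ∈ 𝐍 V, ac x = 1 ↔ x ∈ 𝐂 V := fun x hx => by
    rw [m.ac_eq_one hx]
    simp only [zpowers_one_eq_bot, mem_bot, commutatorElement_eq_one_iff_mul_comm]
    exact ⟨fun e u hu => (e u hu).symm, fun e u hu => (e u hu).symm⟩
  have odd2 : ∀ x ∈ 𝐍 V, ∀ k : ℕ, ac x ^ 2 ^ k = 1 → Odd (orderOf (ac x)) → ac x = 1 := fun x hx k e o =>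
    orderOf_eq_one_iff.1 (((Nat.coprime_two_right.2 o).pow_right k).eq_one_of_dvd (orderOf_dvd_of_pow_eq_one e))
  haveI := h.solM hV
  haveI : Group.IsSolvable Γ := Group.isSolvable_of_surjective m.hom_surj
  have hO : pCoreOf 2 (⊤ : Subgroup Γ) = ⊥ := by
    have := h.red hV (m.pg (pCoreOf 2 ⊤)) (fun _ k => k.1) (fun g hg => mem_normalizer_of_conj_mem fun x hx =>
      ⟨mul_mem (mul_mem hg hx.1) (inv_mem hg), m.ac_conj hg hx.1 ▸
        conj_mem_of_mem_normalizer (le_normalizer_pCoreOf 2 ⊤ (mem_top _)) hx.2⟩)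
      (pResidualOf_le_iff.2 fun x hx o => by
        obtain ⟨k, hk⟩ := isPGroup_iff_mem.1 (isPGroup_pCoreOf 2 ⊤) _ hx.2
        exact (ker x hx.1).1 (odd2 x hx.1 k hk ((Nat.coprime_two_right.1 o).of_dvd_nat
          (orderOf_map_dvd m.hom ⟨x, hx.1⟩ |>.trans (by rw [← orderOf_coe])))))
    refine eq_bot_iff.2 fun γ hγ => ?_
    obtain ⟨x, hx, rfl⟩ := m.ac_surj γ
    exact (ker x hx).2 (this ⟨hx, hγ⟩)
  let A : Subgroup Γ := (B.subgroupOf (𝐍 V)).map m.hom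
  have mA : ∀ b ∈ B, ac b ∈ A := fun b hb => ⟨⟨b, BM hb⟩, hb, rfl⟩
  obtain ⟨η, A₁, et, p, hp, hη⟩ := exists_et (A := A) hO (by
    rintro _ ⟨b, hb, rfl⟩
    rw [← map_mul, show b * b = 1 from Subtype.ext (by simpa [pow_two] using eB.2 b hb), map_one]) (mA a ha)
    (mt (ker a (BM ha)).1 na)
  obtain ⟨e, he, rfl⟩ := m.ac_surj η
  have aM := BM ha
  have na1 : ac a ∉ A₁ := fun k => et.ne (one_of_sq et.odd (by
    have := et.inv
    rw [et.cen _ k, mul_assoc, et.aa, mul_one] at this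
    nth_rewrite 2 [this]; rw [mul_inv_cancel]))
  have two : ∀ b ∈ B, b ∈ B ⊓ m.pg A₁ ∨ a * b ∈ B ⊓ m.pg A₁ := fun b hb => (et.two _ (mA b hb)).imp
    (fun k => ⟨hb, BM hb, k⟩) fun k => ⟨mul_mem ha hb, BM (mul_mem ha hb), m.ac_mul a aM b (BM hb) ▸ k⟩
  have quad : ∀ b ∈ B, ∀ x, ac a • (ac b • x + x) = ac b • x + x := fun b hb x => by
    obtain ⟨v, hv, rfl⟩ := m.mk_surj x
    rw [← sub_eq m.two, ← m.comm (BM hb) hv, fix a aM _ (cmL (BM hb) hv),
      elemAb_le_centralizer eB (cmR (h3 hv) hb) a ha, mul_inv_cancel_right]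
  have cen : ∀ b ∈ B ⊓ m.pg A₁, ∀ x ∈ rg W (ac e), ac b • x = x := fun b hb x hx =>
    eq_of_add m.two (rg_fix m.two et.odd (add_mem (et.rgA (mA b hb.1) hx) hx) (key et.odd et.inv (quad b hb.1 x) (by
      rw [smul_add (ac e), smul_smul (ac e), ← et.cen _ hb.2.2, mul_smul]; exact quad b hb.1 _)))
  have idx : (𝐂 B ⊓ V).relIndex (𝐂 (B ⊓ m.pg A₁) ⊓ V) ≤ 2 := by
    have i1 : (B ⊓ m.pg A₁).relIndex B = 2 := relIndex_eq_two_iff.2 ⟨a, ha, fun b hb => by
      rw [← elemAb_le_centralizer eB hb a ha]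
      by_cases j : b ∈ B ⊓ m.pg A₁
      · exact .inr ⟨j, fun i => na1 (by simpa using mul_mem i (inv_mem j) : a ∈ B ⊓ m.pg A₁).2.2⟩
      · exact .inl ⟨(two b hb).resolve_left j, j⟩⟩
    have i2 := relIndex_mul_relIndex (𝐂 V ⊓ B) (B ⊓ m.pg A₁) B
      (fun x hx => ⟨hx.2, BM hx.2, (ker x (BM hx.2)).2 hx.1 ▸ one_mem _⟩) inf_le_left
    rw [i1, inf_relIndex_right, ← inf_relIndex_right (𝐂 V ⊓ B), inf_assoc, ← inf_assoc B, inf_idem,
      inf_relIndex_right] at i2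
    have i3 := no_over (h.ea hV) le_rfl (pSol_of_solvable (h.solM hV)) (h.red hV) (inf_le_left.trans BM)
      (elemAb_mono eB (inf_le_left : B ⊓ m.pg A₁ ≤ B))
    have i4 := relIndex_mul_relIndex (𝐂 B ⊓ V) (𝐂 (B ⊓ m.pg A₁) ⊓ V) V
      (inf_le_inf_right _ (centralizer_anti inf_le_left)) inf_le_right
    rw [inf_relIndex_right, inf_relIndex_right] at i4
    have i5 := relIndex_pos (𝐂 (B ⊓ m.pg A₁)) V
    nlinarith
  obtain ⟨x, hx, nx⟩ : ∃ x ∈ rg W (ac e), ac a • x ≠ x := by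
    by_contra! k
    exact et.ne (m.faith _ fun x => sub_eq_zero.1 (rg_fix m.two et.odd ⟨x, rfl⟩
      (key et.odd et.inv (k _ ⟨x, rfl⟩) (k _ (smul_mem_rg_comm rfl ⟨x, rfl⟩)))))
  obtain ⟨w, wV, ew⟩ := m.mk_surj (ac a • x + x)
  have w0 : mk w ≠ 0 := fun k => nx (eq_of_add m.two (ew ▸ k))
  have wY : mk w ∈ rg W (ac e) := ew ▸ add_mem (et.rgA et.aA hx) hx
  have aw : ac a • mk w = mk w := ew ▸ quad a ha x
  have fo : ∀ x ∈ rg W (ac e), x = 0 ∨ x = mk w ∨ x = ac e • mk w ∨ x = mk w + ac e • mk w := fun x hx =>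
    four m.two et.odd et.inv (fun _ => smul_mem_rg_comm rfl) (fun x => rg_fix m.two et.odd) (fun x hx y hy n n' => by
      obtain ⟨u, hu, rfl⟩ := m.mk_surj x
      obtain ⟨v, hv, rfl⟩ := m.mk_surj y
      have k : ∀ u ∈ V, mk u ∈ rg W (ac e) → u ∈ 𝐂 (B ⊓ m.pg A₁) ⊓ V := fun u hu j => ⟨fun b hb =>
        mul_inv_eq_iff_eq_mul.1 ((fix b (BM hb.1) u hu).1 (cen b hb _ j)), hu⟩
      have k2 : ∀ u ∈ V, u ∈ 𝐂 B ⊓ V → ac a • mk u = mk u := fun u hu j =>
        (fix a aM u hu).2 (by rw [j.1 a ha, mul_inv_cancel_right])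
      have i := relIndex_pos (𝐂 B ⊓ V) (𝐂 (B ⊓ m.pg A₁) ⊓ V)
      have i2 : (𝐂 B ⊓ V).relIndex (𝐂 (B ⊓ m.pg A₁) ⊓ V) ≠ 1 := fun j => n (k2 u hu (relIndex_eq_one.1 j (k u hu hx)))
      rw [← m.mk_mul u hu v hv]
      exact k2 _ (mul_mem hu hv) (two_of_relIndex (by omega) u (k u hu hx) v (k v hv hy) (mt (k2 u hu) n)
        (mt (k2 v hv) n'))) wY w0 aw hx
  have nw : ac e • mk w ≠ mk w := fun k => w0 (rg_fix m.two et.odd wY k)
  have tY := smul_mem_rg_comm (γ := ac e) rfl wY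
  have tv : Tv (ac e) (mk w) (ac e • mk w) := ⟨m.two, m.faith, w0, rfl, by
    rcases fo _ (smul_mem_rg_comm (γ := ac e) rfl tY) with k | k | k | k
    · exact absurd ((smul_eq_zero_iff_eq _).1 ((smul_eq_zero_iff_eq _).1 k)) w0
    · exact absurd (fix_of_sq et.odd k) nw
    · exact absurd (smul_left_cancel _ k) nw
    · exact k, fun x => fo _ ⟨x, sub_eq m.two _ _⟩⟩
  have a_t : ac a • ac e • mk w = mk w + ac e • mk w := by
    rcases fo _ (et.rgA et.aA tY) with k | k | k | k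
    · exact absurd ((smul_eq_zero_iff_eq _).1 ((smul_eq_zero_iff_eq _).1 k)) w0
    · exact absurd (smul_left_cancel _ (k.trans aw.symm)) nw
    · exact absurd (key et.odd et.inv aw k) nw
    · exact k
  have tV := m.cU he wV
  have mt' := m.smul e he w wV
  have zV := h.oz_le
  have az : ∀ z ∈ oz S, ac a • mk z = mk z := fun z hz =>
    (fix a aM z (zV hz)).2 (mem_centralizer_iff'.1 (pCoreOf_le _ _ (h1 ha)) z hz)
  have nz : ∀ z ∈ oz S, ac e • mk z = mk z → z = 1 := fun z hz k => by_contra fun z1 => by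
    have k1 := (h.zc_le hV (zpowers_le.2 hz) (by simpa using z1)).2 (h2 ha)
    have k2 : e ∈ fH S := mem_centralizer_iff'.2 fun x hx => (fix e he x (zV hx)).1 (key et.odd et.inv (az x hx) (by
      rw [m.smul e he x (zV hx), fix a aM _ (m.cU he (zV hx))]
      exact mem_centralizer_iff'.1 k1 _ (cj_le_ncl (mem_c_of_conj_eq ((fix e he z (zV hz)).1 k)) (conj_mem_cj e hx))))
    obtain ⟨k, hk⟩ := isPGroup_iff_mem.1 (isPGroup_pCoreOf 2 _) _ (cmR (le_normalizer_pCoreOf 2 _ k2) (h1 ha))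
    have k3 := ac_cm m aM he
    rw [et.sqi.1] at k3
    exact et.sqi.2.ne (k3 ▸ odd2 _ (cmm aM he) k (by rw [← m.ac_pow (cmm aM he), hk, m.ac_one]) (k3 ▸ et.sqi.2.odd))
  refine ⟨B ⊓ m.pg A₁, e, w, _, wV, tV, fun k => w0 (k ▸ m.mk_one), two, fun k => na1 k.2.2,
    fun b hb => (fix b (BM hb.1) _ tV).1 (cen b hb _ (mt' ▸ tY)), inj _ (m.cU aM tV) _ (mul_mem wV tV) ?_,
    fun b hb n => ?_, fun z hz z1 => (fix e he _ (mul_mem (zV hz) wV)).1 ?_, fun hw => ?_⟩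
  · rw [← m.smul a aM _ tV, m.mk_mul _ wV _ tV, ← mt', a_t]
  · have k := cmm (BM hb) he
    have k1 : ac ⁅b, e⁆ = ac e := by
      have j := et.cen _ ((et.two _ (mA b hb)).resolve_left fun j => n ⟨hb, BM hb, j⟩)
      have j2 : ac b * ac e * (ac b)⁻¹ = (ac e)⁻¹ := by
        rw [← et.inv, mul_inv_eq_iff_eq_mul, mul_assoc, mul_assoc, ← j, ← mul_assoc, ← mul_assoc, et.aa, one_mul]
      rw [ac_cm m (BM hb) he, j2, ← mul_inv_rev, inv_eq_of_mul_eq_one_right tv.cube]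
    exact ⟨inj _ (m.cU k wV) _ tV (by rw [← m.smul _ k _ wV, k1, mt']), inj _ (m.cU k tV) _ (mul_mem wV tV) (by
      rw [← m.smul _ k _ tV, k1, m.mk_mul _ wV _ tV, ← mt', tv.e2])⟩
  · obtain ⟨c, y, hy, hc, ez⟩ := decomp m.two et.odd (mk z)
    have k := az z hz
    have k1 : ac a • y + y = ac a • c + c := by
      rw [ez, smul_add] at k
      have := m.two c; have := m.two (ac a • y); grind
    have k2 := eq_of_add m.two (rg_fix m.two et.odd (add_mem (et.rgA et.aA hy) hy) (by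
      rw [k1, smul_add, et.fxA et.aA hc, hc]))
    rw [m.mk_mul _ (zV hz) _ wV, ez]
    rcases fo y hy with j | j | j | j <;> rw [j] at ez k2 ⊢
    · exact absurd (nz z hz (by rw [ez, add_zero, hc])) z1
    · rw [add_assoc, m.two, add_zero, hc]
    · rw [a_t, add_eq_right] at k2; exact absurd k2 w0
    · rw [smul_add, aw, a_t, add_right_inj, add_eq_right] at k2; exact absurd k2 w0
  have c0 : m.pre (fx W (ac e)) = ⊥ := by
    by_contra j
    obtain ⟨x, ⟨a, b⟩, x1⟩ := (bot_or_exists_ne_one _).resolve_left (inf_omegaOne_center_ne_bot h.isP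
      (N := m.pre (fx W (ac e))) (fun x hx => h.V_le_S hV hx.1) (fun s hs => mem_normalizer_of_conj_mem fun x hx => ⟨m.cU (h.le hs) hx.1,
        m.smul s (h.le hs) x hx.1 ▸ tv.fix hp hη ((fix s (h.le hs) w wV).2
          (mem_centralizer_iff'.1 (le_c_oz S hs) w hw)) hx.2⟩) j)
    exact x1 (nz x b a.2)
  have all : ∀ x ∈ V, x = 1 ∨ x = w ∨ x = e * w * e⁻¹ ∨ x = w * (e * w * e⁻¹) := fun x hx => by
    obtain ⟨c, y, hy, hc, ex⟩ := decomp m.two et.odd (mk x)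
    obtain ⟨c, cV, rfl⟩ := m.mk_surj c
    rw [mem_bot.1 (c0.le (⟨cV, hc⟩ : c ∈ m.pre (fx W (ac e)))), m.mk_one, zero_add] at ex
    have fo := fo _ hy
    rw [← ex, mt', ← m.mk_mul _ wV _ tV, ← m.mk_one] at fo
    exact fo.imp (inj _ hx _ (one_mem _)) (Or.imp (inj _ hx _ wV)
      (Or.imp (inj _ hx _ tV) (inj _ hx _ (mul_mem wV tV))))
  have w1 : w ≠ 1 := fun k => w0 (k ▸ m.mk_one)
  have tw : e * w * e⁻¹ ≠ w := fun k => nw (by rw [mt', k])
  have : (V : Set G) = {1, w, e * w * e⁻¹, w * (e * w * e⁻¹)} := Set.ext fun x => ⟨all x, by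
    rintro (rfl | rfl | rfl | rfl)
    exacts [one_mem _, wV, tV, mul_mem wV tV]⟩
  have t1 := conj_ne_one e w1
  have wt : w * (e * w * e⁻¹) ≠ 1 := fun k => tw (mul_left_cancel (k.trans (h.sq hV wV).symm))
  change Nat.card (V : Set G) = 4
  rw [Nat.card_coe_set_eq, this, Set.ncard_insert_of_notMem (by simp [w1.symm, t1.symm, wt.symm]),
    Set.ncard_insert_of_notMem (by simp [tw.symm, t1]), Set.ncard_pair (by simp [w1])]

theorem c1 (h : Fr S V) (hQ : V ≤ pCoreOf 2 (fH S)) (n : ¬ fU S V ≤ 𝐂 (fU S V)) : Nat.card V = 4 := by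
  have hV := isP_of_le_core hQ
  obtain ⟨g, hg, ng⟩ : ∃ g ∈ fH S, ¬ cj g V ≤ 𝐂 V := by
    by_contra! k
    exact n (le_centralizer_iff.1 (ncl_le_centralizer (le_centralizer_iff.1 (ncl_le_iff.2 k)) (le_normalizer_ncl _ _)))
  have q : ∀ g ∈ fH S, cj g V ≤ pCoreOf 2 (fH S) := fun g hg => cj_le_of_mem_normalizer hQ (le_normalizer_pCoreOf 2 _ hg)
  have no : ∀ g ∈ fH S, (𝐂 (cj g V)).relIndex V ≤ (𝐂 V).relIndex (cj g V) := fun g hg => by
    have := no_over (h.ea hV) le_rfl (pSol_of_solvable (h.solM hV)) (h.red hV)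
      ((q _ (inv_mem hg)).trans (h.Q_le.trans h.le)) (elemAb_cj (h.ea hV) g⁻¹)
    rwa [← relIndex_cj g, ← relIndex_cj g (𝐂 (cj g⁻¹ V)), cj_centralizer, cj_centralizer, cj_cj_inv] at this
  have hf : ∀ g ∈ fH S, ∀ a ∈ cj g V, a ∉ 𝐂 V → ∃ B₁ e w t, Hf S V (cj g V) B₁ a e w t := fun g hg a ha na =>
    half h hV (elemAb_cj (h.ea hV) g) (q g hg) ((cj_mono g (h.V_le_R hV)).trans (cj_le_ncl hg)) (by
      rw [← cj_normalizer, le_cj_iff]; exact (q _ (inv_mem hg)).trans (h.Q_le.trans h.le)) (no g hg) ha na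
  obtain ⟨a, ha, na⟩ := SetLike.not_le_iff_exists.1 ng
  obtain ⟨B₁, e, w, t, k⟩ := hf g hg a ha na
  have cv : ∀ a b : G, g * a * g⁻¹ * b * (g * a * g⁻¹)⁻¹ = g * (a * (g⁻¹ * b * g) * a⁻¹) * g⁻¹ := fun a b => by group
  obtain ⟨B₂, e₂, w₂, t₂, k'⟩ := hf _ (inv_mem hg) (g⁻¹ * t * g) (by simpa using conj_mem_cj g⁻¹ k.tV) fun j => k.w1 (by
    have := k.ea
    obtain ⟨x, hx, rfl⟩ := mem_cj'.1 ha
    rw [cv, j x hx, mul_inv_cancel_right] at this
    simpa [mul_assoc] using this.symm)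
  have tB := conj_mem_cj g k'.tV
  have e1 : t * (g * t₂ * g⁻¹) * t⁻¹ = g * w₂ * g⁻¹ * (g * t₂ * g⁻¹) := by rw [conj_mul, ← k'.ea]; group
  have n1 : g * t₂ * g⁻¹ ∉ B₁ := fun j => k'.w1 (by
    have := k.cen _ j
    rw [mul_inv_eq_iff_eq_mul] at this
    rw [← this, mul_inv_cancel_right] at e1
    simpa using e1)
  have e2 : g * w₂ * g⁻¹ = w := by
    have j := k.cen _ ((k.two _ tB).resolve_left n1)
    have aa : a * a = 1 := by simpa [pow_two] using (elemAb_cj (h.ea hV) g).2 a ha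
    have j2 : g * t₂ * g⁻¹ * t * (g * t₂ * g⁻¹)⁻¹ = w * t := by
      calc _ = a⁻¹ * (a * (g * t₂ * g⁻¹) * t * (a * (g * t₂ * g⁻¹))⁻¹) * a⁻¹⁻¹ := by group
        _ = _ := by rw [j, inv_eq_of_mul_eq_one_right aa, k.ea]
    calc _ = (g * t₂ * g⁻¹ * t * (g * t₂ * g⁻¹)⁻¹ * t⁻¹)⁻¹ := by rw [← mul_inv_eq_iff_eq_mul.2 e1]; group
      _ = _ := by rw [j2, mul_inv_cancel_right, inv_eq_of_mul_eq_one_right (h.sq hV k.wV)]
  obtain ⟨z, hz, z1⟩ := (bot_or_exists_ne_one _).resolve_left h.oz_ne_bot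
  have zV := h.oz_le hz
  have gz := mem_centralizer_iff'.1 hg z hz
  have cB : z * w ∈ cj g V := by rw [← gz, ← e2, conj_mul]; exact conj_mem_cj g (mul_mem zV k'.wV)
  have cV := mul_mem zV k.wV
  by_cases c1 : z * w = 1
  · exact k.fin (eq_inv_of_mul_eq_one_right c1 ▸ inv_mem hz)
  have mY : ∀ x, x * (z * w) * x⁻¹ = z * w → x ∈ 𝐂 (zpowers (z * w)) := fun x => mem_c_of_conj_eq
  have y1 := mY e (k.z z hz z1)
  have y2 := mY (g * e₂ * g⁻¹) (by
    rw [cv, show g⁻¹ * (z * w) * g = z * w₂ by rw [← gz, ← e2, gz]; nth_rewrite 1 [← gz]; group, k'.z z hz z1,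
      ← conj_mul, gz, e2])
  have y3 := CV cV (h.le_c hV k.tV)
  have y4 := CV cV (h.le_c hV k.wV)
  have y5 := CV cB (elemAb_le_centralizer (elemAb_cj (h.ea hV) g) tB)
  have t1 : t ≠ 1 := fun j => k.w1 (by simpa [j] using k.ea.symm)
  refine absurd (mem_bot.1 (sol_ind (P := fun N => t ∈ N) (h.sol_c (hV.to_le (zpowers_le.2 cV)) (by simpa using c1)
    le_rfl) y3 fun N _ nN tN => ?_)) t1
  obtain ⟨a1, a2⟩ := k'.g _ (by simpa using conj_mem_cj g⁻¹ k.tV) k'.na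
  have e3 : ⁅t, g * e₂ * g⁻¹⁆ = g * ⁅g⁻¹ * t * g, e₂⁆ * g⁻¹ := by simp only [commutatorElement_def]; group
  have b0 := cmR (nN y2) tN
  have wN : w ∈ N := by
    have := cmR (nN y5) b0
    rwa [commutatorElement_def _ (g * t₂ * g⁻¹), e3, cv, show g⁻¹ * (g * t₂ * g⁻¹) * g = t₂ by group, a2, ← conj_mul,
      mul_inv_cancel_right, e2] at this
  have t2N : g * t₂ * g⁻¹ ∈ N := by
    have := conj_mem_of_mem_normalizer (le_normalizer b0) wN
    rwa [e3, cv, ← e2, show g⁻¹ * (g * w₂ * g⁻¹) * g = w₂ by group, a1] at this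
  obtain ⟨a3, a4⟩ := k.g _ tB n1
  have b1 := cmR (nN y1) t2N
  have d1 := commutator_mem_commutator b1 tN
  have d2 := commutator_mem_commutator b1 wN
  rw [commutatorElement_def _ t, a4, mul_inv_cancel_right] at d1
  rw [commutatorElement_def _ w, a3] at d2
  simpa using mul_mem d2 d1

end H120.FC

namespace H120
open Cfsg Subgroup H26 H118 FC
universe u

theorem fc : H26.FC.{u} := fun G _ _ S V h hQ => by_contra fun n => by
  have hV := isP_of_le_core hQ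
  have f : Four V := ⟨c1 h hQ n, fun w hw => h.sq hV hw⟩
  have c := ((f.card_cases h.oz_le).resolve_left h.oz_ne_bot).resolve_right h.oz_ne
  obtain ⟨z, hz, z1⟩ := exists_ne_one_of_card (U := oz S) (by omega)
  obtain ⟨y, hy, ny⟩ := SetLike.not_le_iff_exists.1 fun k => h.oz_ne (le_antisymm h.oz_le k)
  exact Cc.main (z := z) (y := y) ⟨h, ⟨h.oz_le hz, hy, z1, fun e => ny (e ▸ one_mem _), fun e => ny (e ▸ hz)⟩, f, hQ,
    le_antisymm (fun x hx => (em (x = 1)).elim (fun e => e ▸ one_mem _)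
      fun e => mem_of_card_two c hz hx z1 e ▸ mem_zpowers z) (zpowers_le.2 hz), n⟩

end H120
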