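import Cfsg.Agent.H20.G3

/-! Goldschmidt's theorem, case II-a (the members of the family form a partial spread of `A`): `H20.G3.case2a'` (with `|A| = 8`). -/

set_option autoImplicit false
set_option linter.unusedSectionVars false
set_option linter.unusedVariables false

namespace H20.G3
open Subgroup Cfsg H18 H4.Gs
open H17 hiding Subn card_cj card_mul_relIndex cj cj_bot cj_cj_inv cj_fit cj_inf cj_inv_cj cj_mono cj_mul cj_one
  cj_sup conj_mem_cj elem_iff elem_zpowers fit_le fit_top le_phi mem_cj mim_cj mim_fit_le phi phi_le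
open scoped commutatorElement

universe u
variable {G : Type u} [Group G] [Finite G] {𝒜 : Set G}
  {A B B' D E H J K K' L L' M N P Q R S T U V W X Y Z : Subgroup G} {a b e g k t w x y z ζ : G} {q : ℕ}

theorem case2a' [ZD.{u}] [GBF.{u}] (h : Fm 𝒜 A S q)
    (hd : ∀ B L B' L', Bf A q B L → Bf A q B' L' → B ≠ B' → B ⊓ B' = ⊥) : S = A ∧ Nat.card A = 8 := by
  refine ⟨case2a h hd, ?_⟩
  obtain ⟨L, R, K, D⟩ := exists_dt h
  have s : Spr A N(A) {B | ∃ L, Bf A q B L} K q := ⟨h.elem, le_rfl, h.irr, fun M => h.no2, h.q4, h.ex,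
    fun B ⟨_, f⟩ => f.le, fun B ⟨_, f⟩ => f.ne, fun B ⟨_, f⟩ => f.idx, fun B ⟨_, f⟩ g hg => ⟨_, f.cj hg⟩,
    fun B ⟨L, f⟩ B' ⟨L', f'⟩ => hd B L B' L' f f', fun B hB => le_inf (D B hB).KA ((D B hB).KL.trans (D B hB).LB),
    fun B hB => (D B hB).ld.odd, fun B hB => (D B hB).ld.cyc,
    fun B hB x hx hx' y hy hy' => (D B hB).trans hx hx' hy hy', fun B hB k hk => (D B hB).semi hk⟩
  have P : ∀ B, (∃ L, Bf A q B L) → R B ⊓ L B ≤ C(A) := by
    by_contra c; push Not at c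
    obtain ⟨B, hB, c⟩ := c
    have all : ∀ B', (∃ L, Bf A q B' L) → ¬ R B' ⊓ L B' ≤ C(A) := fun B' hB' e => by
      obtain ⟨g, hg, rfl⟩ := spr.tr s B hB B' hB'
      have eL : cj g (L B) = L (cj g B) := h.uniq ((D B hB).bf.cj hg) (D _ hB').bf
      have := (D _ hB').pc e (isPGroup_cj g (D B hB).pT) (le_inf (eL ▸ cj_mono inf_le_right)
        (cj_le_of_mem (D B hB).TA hg))
      exact c (cj_cent_iff.1 (by rwa [mem_N_iff_cj.1 hg]))
    exact ((D B hB).sz c).1 (spr.s3 s (fun B hB => ⟨_, ((D B hB).sz (all B hB)).2.2⟩)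
      fun B hB e he h2 k hk => (D B hB).hyp3 ((D B hB).sz (all B hB)).2.1 he h2 hk)
  exact (spr.s2 s fun B hB => (D B hB).nV (P B hB)).1

end H20.G3
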