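import Cfsg.Agent.H13.FF2
import Cfsg.Agent.H9.FB1
/-! `H26.FC`, part 1 (linear algebra): the module `U/Z` with its quadratic form (`Mo`), the element `η` of the
dihedral lemma (`Et`, `exists_et`), and the cases `k0`, `c4`, `c6`, `c7` of notes/helper26_N4c.md. -/
set_option autoImplicit false
set_option linter.unusedSectionVars false
namespace H120.FC
open Cfsg Subgroup H26 H13.FFa
open scoped Pointwise

variable {Γ W : Type*} [Group Γ] [AddCommGroup W] [DistribMulAction Γ W]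

theorem z2 {x : ZMod 2} (h : x ≠ 0) : x = 1 := by revert x; decide
theorem z2' {x : ZMod 2} (h : x ≠ 1) : x = 0 := by revert x; decide
theorem z11 : (1 + 1 : ZMod 2) = 0 := by decide
theorem zxx (x : ZMod 2) : x + x = 0 := by revert x; decide

theorem eq2 (h2 : ∀ w : W, w + w = 0) {x y : W} (w : W) (h : x = y + (w + w)) : x = y := by rw [h, h2, add_zero]

theorem key {a η : Γ} (ho : Odd (orderOf η)) (hi : a * η * a = η⁻¹) {x : W} (h1 : a • x = x)
    (h2 : a • η • x = η • x) : η • x = x := fix_of_sq ho (by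
  rw [← h2, ← h1, smul_smul, smul_smul, smul_smul, mul_assoc η, mul_assoc η, hi, mul_inv_cancel, one_smul, h1])

theorem four (h2 : ∀ w : W, w + w = 0) {a η : Γ} (ho : Odd (orderOf η)) (hi : a * η * a = η⁻¹) {X : AddSubgroup W}
    (hη : ∀ x ∈ X, η • x ∈ X) (h0 : ∀ x ∈ X, η • x = x → x = 0)
    (two : ∀ x ∈ X, ∀ x' ∈ X, a • x ≠ x → a • x' ≠ x' → a • (x + x') = x + x') {w : W} (hw : w ∈ X) (w0 : w ≠ 0)
    (aw : a • w = w) {x : W} (hx : x ∈ X) : x = 0 ∨ x = w ∨ x = η • w ∨ x = w + η • w := by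
  have k : ∀ x ∈ X, a • x = x → a • η • x = η • x → x = 0 := fun x hx e e' => h0 x hx (key ho hi e e')
  have n : a • η • w ≠ η • w := fun e => w0 (k w hw aw e)
  have k2 : ∀ x ∈ X, a • x = x → x = 0 ∨ x = w := fun x hx e => or_iff_not_imp_left.2 fun x0 =>
    eq_of_add h2 (k _ (X.add_mem hx hw) (by rw [smul_add, e, aw]) (by
      rw [smul_add η]; exact two _ (hη _ hx) _ (hη _ hw) (fun e' => x0 (k x hx e e')) n))
  by_cases e : a • x = x
  · rcases k2 x hx e with j | j <;> simp [j]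
  rcases k2 _ (X.add_mem hx (hη _ hw)) (two _ hx _ (hη _ hw) e n) with j | j
  · exact .inr (.inr (.inl (eq_of_add h2 j)))
  · exact .inr (.inr (.inr (by have := h2 (η • w); grind)))

/-- the element of the dihedral lemma -/
structure Et (A A₁ : Subgroup Γ) (a η : Γ) : Prop where
  aA : a ∈ A
  sq : ∀ b ∈ A, b * b = 1
  ne : η ≠ 1
  odd : Odd (orderOf η)
  inv : a * η * a = η⁻¹
  le : A₁ ≤ A
  two : ∀ b ∈ A, b ∈ A₁ ∨ a * b ∈ A₁
  cen : ∀ b ∈ A₁, b * η = η * b

theorem odd_of_piElt {p : ℕ} {x : Γ} [Finite Γ] (h : H18.PiElt {p} x) (h2 : p ≠ 2) : Odd (orderOf x) :=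
  Nat.not_even_iff_odd.1 fun e => h2 (h.eq_of_dvd Nat.prime_two e.two_dvd).symm

theorem comm_of_sq {A : Subgroup Γ} (h : ∀ b ∈ A, b * b = 1) {a b : Γ} (ha : a ∈ A) (hb : b ∈ A) : a * b = b * a := by
  have := h _ (mul_mem ha hb)
  rw [← inv_eq_of_mul_eq_one_right this, mul_inv_rev, inv_eq_of_mul_eq_one_right (h a ha),
    inv_eq_of_mul_eq_one_right (h b hb)]

open H18 in
theorem exists_et [Finite Γ] [Group.IsSolvable Γ] (hO : pCoreOf 2 (⊤ : Subgroup Γ) = ⊥) {A : Subgroup Γ}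
    (h : ∀ b ∈ A, b * b = 1) {a : Γ} (ha : a ∈ A) (a1 : a ≠ 1) :
    ∃ η A₁, Et A A₁ a η ∧ ∃ p, p.Prime ∧ η ∈ pCoreOf p (⊤ : Subgroup Γ) := by
  have e : ∀ x : Γ, mfun (⊤ : Subgroup Γ).subtype x = x := fun x => mfun_of_mem (mem_top x)
  have e2 : mim (⊤ : Subgroup Γ).subtype ⊤ = ⊤ := top_unique fun x _ => e x ▸ mfun_mem_mim (mem_top x)
  have e3 : ∀ p : ℕ, O[{p}]((⊤ : Subgroup Γ)) ≤ pCoreOf p ⊤ := fun p =>
    le_pCoreOf pcore_pi.isPGroup le_top pcore_nml.norm
  obtain ⟨p, η, A₁, hp, h2, -, pη, i, n, m, l, ix, na, -, c⟩ := H9.FB.dl (f := (⊤ : Subgroup Γ).subtype) le_rfl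
    solv_of_solv (by rw [e2]; exact le_bot_iff.1 (hO ▸ e3 2)) (le_top : A ≤ ⊤)
    ⟨fun x hx y hy => comm_of_sq h hy hx, fun x hx => by rw [pow_two, h x hx]⟩ ha (by rwa [e])
  simp only [e, e2] at n m c
  exact ⟨η, A₁, ⟨ha, h, n, odd_of_piElt pη h2, i, l,
    fun b hb => or_iff_not_imp_left.2 fun nb => H9.FB.mul_two ix ha hb na nb, c⟩, p, hp, e3 p m⟩

namespace Et
variable {A A₁ : Subgroup Γ} {a η b θ : Γ} (e : Et A A₁ a η) {x : W}
include e

theorem aa : a * a = 1 := e.sq a e.aA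
theorem a1 : a ≠ 1 := fun k => e.ne (one_of_sq e.odd (by
  have := e.inv
  rw [k, one_mul, mul_one] at this
  nth_rewrite 2 [this]; rw [mul_inv_cancel]))

theorem nrm (hb : b ∈ A) : b * η * b⁻¹ ∈ zpowers η := by
  rcases e.two b hb with k | k
  · rw [e.cen b k, mul_inv_cancel_right]; exact mem_zpowers η
  · have : b * η * b⁻¹ = a * (a * b * η * (a * b)⁻¹) * a := by
      rw [mul_inv_rev, inv_eq_of_mul_eq_one_right e.aa]
      simp only [← mul_assoc, e.aa, one_mul]
      rw [mul_assoc _ a a, e.aa, mul_one]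
    rw [this, e.cen _ k, mul_inv_cancel_right, e.inv]; exact inv_mem (mem_zpowers η)

theorem nrm' (hb : b ∈ A) (h : θ ∈ zpowers η) : b * θ * b⁻¹ ∈ zpowers η := by
  obtain ⟨n, rfl⟩ := mem_zpowers_iff.1 h
  rw [← conj_zpow]; exact zpow_mem (e.nrm hb) n

theorem cen' (hb : b ∈ A₁) (h : θ ∈ zpowers η) : θ * b = b * θ := by
  obtain ⟨n, rfl⟩ := mem_zpowers_iff.1 h
  exact (Commute.zpow_right (e.cen b hb) n).eq.symm

theorem rgA (hb : b ∈ A) (h : x ∈ rg W η) : b • x ∈ rg W η := smul_mem_rg' (e.nrm hb) h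

theorem fxA (hb : b ∈ A) (h : η • x = x) : η • b • x = b • x := by
  have : zpowers η ≤ MulAction.stabilizer Γ x := zpowers_le.2 h
  have k : (b⁻¹ * η * b⁻¹⁻¹) • x = x := this (e.nrm (inv_mem hb))
  rwa [inv_inv, mul_smul, mul_smul, inv_smul_eq_iff] at k

/-- `η` may be replaced by a nontrivial power -/
theorem pow (h : θ ∈ zpowers η) (h1 : θ ≠ 1) : Et A A₁ a θ := by
  refine ⟨e.aA, e.sq, h1, e.odd.of_dvd_nat (orderOf_dvd_of_mem_zpowers h), ?_, e.le, e.two,
    fun b hb => (e.cen' hb h).symm⟩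
  obtain ⟨n, rfl⟩ := mem_zpowers_iff.1 h
  have := e.inv
  nth_rewrite 2 [← inv_eq_of_mul_eq_one_right e.aa] at this ⊢
  rw [← conj_zpow, this, inv_zpow]
end Et

/-- the module `U/Z` with the commutator form `β`, the squaring map `q`, and the images `A`, `D`, `v` -/
structure Mo (A : Subgroup Γ) (D : AddSubgroup W) (v : W) (β : W → W → ZMod 2) (q : W → ZMod 2) : Prop where
  two : ∀ w : W, w + w = 0
  faith : ∀ γ : Γ, (∀ w : W, γ • w = w) → γ = 1
  sy : ∀ a b, β a b = β b a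
  ad : ∀ a b c, β (a + b) c = β a c + β b c
  sm : ∀ (γ : Γ) a b, β (γ • a) (γ • b) = β a b
  qa : ∀ a b, q (a + b) = q a + q b + β a b
  qs : ∀ (γ : Γ) a, q (γ • a) = q a
  v0 : v ≠ 0
  vD : v ∈ D
  qD : ∀ d ∈ D, q d = 0
  sq : ∀ a ∈ A, a * a = 1
  av : ∀ a ∈ A, a • v = v
  a2 : ∀ a ∈ A, ∀ w, β w v = 0 → a • w + w ∈ D
  a3 : ∀ a ∈ A, ∀ d ∈ D, a • d = d ∨ a • d = d + v
  inj : ∀ a ∈ A, ∀ u, β u v = 1 → a • u + u ∈ D → a = 1
  sur : ∀ u w, β u v = 1 → β w v = 0 → ∃ a ∈ A, w + (a • u + u) ∈ D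
  cA : ∀ d ∈ D, (∀ a ∈ A, a • d = d) → d = 0 ∨ d = v
  c0 : ∀ d ∈ D, (∀ w, β w v = 0 → β d w = 0) → d = 0 ∨ d = v
  ex : ∃ u, β u v = 1
  span : ∀ Y : AddSubgroup W, (∀ γ : Γ, γ • v ∈ Y) → ∀ w, w ∈ Y
  nD : ∀ γ : Γ, (∀ d ∈ D, γ • d ∈ D) ↔ γ • v = v
  nA : ∀ γ : Γ, γ • v = v → ∀ a ∈ A, γ * a * γ⁻¹ ∈ A
  syl : ∃ P : Subgroup Γ, IsSyl 2 P ⊤ ∧ ∀ γ ∈ P, γ • v = v

namespace Mo
variable [Finite Γ] [Finite W] {A A₁ : Subgroup Γ} {D : AddSubgroup W} {v : W} {β : W → W → ZMod 2} {q : W → ZMod 2}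
  (m : Mo A D v β q) {a b γ η s : Γ} {c d u w x : W}
include m

theorem ad' (a b c : W) : β c (a + b) = β c a + β c b := by rw [m.sy, m.ad, m.sy a, m.sy b]
theorem β0 (c : W) : β 0 c = 0 := by
  have := m.ad 0 0 c
  rw [add_zero, zxx] at this; exact this
theorem β0' (c : W) : β c 0 = 0 := by rw [m.sy, m.β0]
theorem q0 : q 0 = 0 := m.qD 0 D.zero_mem
theorem βs (c : W) : β c c = 0 := by
  have := m.qa c c
  rwa [m.two, m.q0, zxx, zero_add, eq_comm] at this
theorem βD (hc : c ∈ D) (hd : d ∈ D) : β c d = 0 := by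
  have := m.qa c d
  rwa [m.qD _ (D.add_mem hc hd), m.qD _ hc, m.qD _ hd, zero_add, zero_add, eq_comm] at this
theorem qv : q v = 0 := m.qD v m.vD
theorem qO (γ : Γ) : q (γ • v) = 0 := by rw [m.qs, m.qv]
theorem βv (h : γ • v = v) (w : W) : β (γ • w) v = β w v := by
  conv_lhs => rw [← h]
  rw [m.sm]
theorem a1 (ha : a ∈ A) (w : W) : β (a • w + w) v = 0 := by rw [m.ad, m.βv (m.av a ha), zxx]
theorem aD (ha : a ∈ A) (hd : d ∈ D) : a • d ∈ D := (m.nD a).2 (m.av a ha) d hd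
theorem aaw (ha : a ∈ A) (w : W) : a • a • w = w := by rw [smul_smul, m.sq a ha, one_smul]
theorem addl (a b : W) : a + (a + b) = b := by rw [← add_assoc, m.two, zero_add]
theorem addr (a b : W) : a + b + b = a := by rw [add_assoc, m.two, add_zero]

/-- the orthogonal complement of `c` -/
def pp (c : W) : AddSubgroup W where
  carrier := {w | β w c = 0}
  zero_mem' := m.β0 c
  add_mem' := fun {a b} ha hb => by change β _ c = 0 at *; rw [m.ad, ha, hb, add_zero]
  neg_mem' := fun {a} ha => by rwa [neg_eq_of_add_eq_zero_left (m.two a)]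

theorem exO : ∃ γ : Γ, β (γ • v) v = 1 := by
  by_contra! k
  obtain ⟨u, hu⟩ := m.ex
  have : β u v = 0 := m.span (m.pp v) (fun γ => z2' (k γ)) u
  rw [hu] at this; exact one_ne_zero this

theorem odd {L : Subgroup Γ} (hL : ∀ γ : Γ, γ • v = v → γ ∈ L) (h : ∀ x ∈ L, Odd (orderOf x) → x • v = v) (hγ : γ ∈ L) :
    γ • v = v := by
  obtain ⟨P, hP, k⟩ := m.syl
  exact (hP.mono (fun x hx => hL x (k x hx)) le_top).le_of_pResidualOf_le (K := MulAction.stabilizer Γ v)
    (pResidualOf_le_iff.2 fun x hx o => h x hx (Nat.coprime_two_right.1 o)) k hγ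

theorem core : pCoreOf 2 (⊤ : Subgroup Γ) = ⊥ := by
  obtain ⟨P, hP, k⟩ := m.syl
  refine eq_bot_iff.2 fun x hx => mem_bot.2 (m.faith x (m.span (fx W x) fun γ => ?_))
  have := k _ (hP.pCoreOf_le (conj_mem_of_mem_normalizer' (le_normalizer_pCoreOf 2 ⊤ (mem_top γ)) hx))
  rwa [mul_smul, mul_smul, inv_smul_eq_iff] at this

theorem k0 (hA : ∀ a ∈ A, a = 1) : False := by
  obtain ⟨u, hu⟩ := m.ex
  have k : ∀ w, β w v = 0 → w ∈ D := fun w hw => by
    obtain ⟨a, ha, e⟩ := m.sur u w hu hw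
    rwa [hA a ha, one_smul, m.two, add_zero] at e
  have k2 : ∀ w, β w v = 0 → w = 0 ∨ w = v := fun w hw => m.c0 w (k w hw) fun x hx => m.βD (k w hw) (k x hx)
  have k3 : ∀ γ : Γ, γ • v ≠ v → β (γ • v) v = 1 := fun γ n => z2 fun e =>
    (k2 _ e).elim (fun j => m.v0 (smul_eq_zero_iff_eq γ |>.1 j)) n
  obtain ⟨γ, e⟩ := m.exO
  rw [m.odd (L := ⊤) (fun _ _ => mem_top _) (fun x _ o => by_contra fun n => ?_) (mem_top γ), m.βs] at e
  · exact zero_ne_one e
  have n2 : (x * x) • v ≠ v := fun j => n (fix_of_sq o (by rwa [smul_smul]))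
  rcases k2 ((x * x) • v + x • v) (by rw [m.ad, k3 _ n, k3 _ n2, z11]) with j | j
  · have := eq_of_add m.two j
    rw [mul_smul, smul_left_cancel_iff] at this; exact n this
  · have := m.qa ((x * x) • v) (x • v)
    rw [j, m.qv, m.qO, m.qO, mul_smul, m.sm, k3 _ n] at this
    exact absurd this (by decide)

theorem perp (hx : x ∈ rg W η) (hc : η • c = c) : β x c = 0 := by
  obtain ⟨w, rfl⟩ := hx
  rw [sub_eq m.two, m.ad]
  nth_rewrite 1 [← hc]
  rw [m.sm, zxx]

section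
variable (e : Et A A₁ a η)
include e

theorem can : η • v ≠ v := fun k => by
  have k1 : η⁻¹ * η⁻¹ ∈ A := by
    have := mul_mem e.aA (m.nA η k a e.aA)
    rwa [← mul_assoc, ← mul_assoc, e.inv] at this
  have o : Odd (orderOf η⁻¹) := orderOf_inv η ▸ e.odd
  exact e.ne (inv_eq_one.1 (one_of_sq o (one_of_sq (o.of_dvd_nat (pow_two η⁻¹ ▸ orderOf_pow_dvd 2)) (m.sq _ k1))))

theorem beta : ∃ u ∈ rg W η, β u v = 1 := by
  by_contra! k
  have k : ∀ y ∈ rg W η, β y v = 0 := fun y hy => z2' (k y hy)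
  obtain ⟨c, y₀, hy₀, hc, ev⟩ := decomp m.two e.odd v
  have rad : ∀ w, β y₀ w = 0 := fun w => by
    obtain ⟨c', y, hy, hc', rfl⟩ := decomp m.two e.odd w
    have := k y hy
    rw [ev, m.ad', m.perp hy hc, zero_add] at this
    rw [m.ad', m.perp hy₀ hc', zero_add, m.sy, this]
  obtain ⟨u₀, hu₀⟩ := m.ex
  obtain ⟨u, y₁, hy₁, hu, rfl⟩ := decomp m.two e.odd u₀
  rw [m.ad, k _ hy₁, add_zero] at hu₀
  have n : y₀ ≠ 0 := fun j => m.can e (by rw [ev, j, add_zero, hc])
  have fa : ∀ y ∈ rg W η, a • y = y := fun y hy => by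
    obtain ⟨b, hb, hd⟩ := m.sur u y hu₀ (k y hy)
    have h1 : η • (b • u + u) = b • u + u := by rw [smul_add, e.fxA hb hu, hu]
    set c₂ := b • u + u
    have h2 : η • (a • c₂ + c₂) = a • c₂ + c₂ := by rw [smul_add, e.fxA e.aA h1, h1]
    have h3 := add_mem (e.rgA e.aA hy) hy
    rcases m.a3 a e.aA _ hd with j | j <;> rw [smul_add] at j
    · have : a • y + y = a • c₂ + c₂ := by have := m.two y; have := m.two (a • c₂); grind
      exact eq_of_add m.two (rg_fix m.two e.odd h3 (by rw [this, h2]))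
    · have h4 : a • y + y + y₀ = a • c₂ + c₂ + c := by
        have := m.two y; have := m.two (a • c₂); have := m.two y₀; grind
      have h5 := eq_of_add m.two (rg_fix m.two e.odd (add_mem h3 hy₀) (by rw [h4, smul_add, h2, hc]))
      rcases m.c0 y₀ (h5 ▸ m.a2 a e.aA y (k y hy)) (fun w _ => rad w) with i | i
      · exact absurd i n
      · rw [← i, m.sy, rad] at hu₀; exact absurd hu₀ zero_ne_one
  exact n (rg_fix m.two e.odd hy₀ (key e.odd e.inv (fa _ hy₀) (fa _ (smul_mem_rg_comm rfl hy₀))))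

theorem c4 (hsol : ¬ ∀ θ ∈ zpowers η, θ • v ∈ D) (hs : s ∈ A₁) (s1 : s ≠ 1) :
    β (η • v) v = 0 ∧ (∀ b ∈ A, b • η • v = η • v ∨ b • η • v = η • v + v) ∧ η • η • v = v + η • v ∧
    ∃ u, β u v = 1 ∧ ∀ t ∈ A, t • u + u + η • v ∈ D → t * η = η * t ∧ (t • u + u = η • v ∨ t • u + u = v + η • v) ∧
      ∀ x ∈ rg W η, t • x = x → x = 0 ∨ x = v ∨ x = η • v ∨ x = v + η • v := by
  have x0 : ∀ x ∈ rg W η, (∀ θ ∈ zpowers η, θ • x ∈ D) → x = 0 := fun x hx P => by
    have k : ∀ x, (∀ θ ∈ zpowers η, θ • x ∈ D) → a • x = x := fun x P =>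
      (m.a3 a e.aA x (by simpa using P 1 (one_mem _))).resolve_right fun j => hsol fun θ hθ => by
        have := m.aD e.aA (P _ (e.nrm' (inv_mem e.aA) hθ))
        rw [smul_smul, inv_inv, ← mul_assoc, mul_inv_cancel_left, mul_smul, j, smul_add] at this
        exact (D.add_mem_cancel_left (P θ hθ)).1 this
    exact rg_fix m.two e.odd hx (key e.odd e.inv (k x P) (k _ fun θ hθ => by
      rw [smul_smul]; exact P _ (mul_mem hθ (mem_zpowers η))))
  have quad : ∀ b ∈ A₁, ∀ c ∈ A₁, ∀ w ∈ rg W η, c • (b • w + w) = b • w + w := fun b hb c hc w hw => by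
    have k := add_mem (e.rgA (e.le hb) hw) hw
    refine eq_of_add m.two (x0 _ (add_mem (e.rgA (e.le hc) k) k) fun θ hθ => ?_)
    have := m.a2 c (e.le hc) _ (m.a1 (e.le hb) (θ • w))
    simp only [smul_add, smul_smul, ← mul_assoc, e.cen' hb hθ, e.cen' hc hθ] at this ⊢
    rwa [mul_assoc c θ b, e.cen' hb hθ, ← mul_assoc]
  let Y : AddSubgroup W := rg W η ⊓ ⨅ b ∈ A₁, fx W b
  have mY : ∀ x, x ∈ Y ↔ x ∈ rg W η ∧ ∀ b ∈ A₁, b • x = x := fun x => by
    simp only [Y, AddSubgroup.mem_inf, AddSubgroup.mem_iInf]; rfl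
  have ηY : ∀ x ∈ Y, η • x ∈ Y := fun x hx => (mY _).2 ⟨smul_mem_rg_comm rfl hx.1, fun b hb => by
    rw [smul_smul, e.cen b hb, mul_smul, ((mY x).1 hx).2 b hb]⟩
  have aY : ∀ x ∈ Y, a • x ∈ Y := fun x hx => (mY _).2 ⟨e.rgA e.aA hx.1, fun b hb => by
    rw [smul_smul, comm_of_sq m.sq (e.le hb) e.aA, mul_smul, ((mY x).1 hx).2 b hb]⟩
  have Y0 : ∀ x ∈ Y, β x v = 0 := fun x hx => z2' fun k => s1 (m.inj s (e.le hs) x k (by
    rw [((mY x).1 hx).2 s hs, m.two]; exact D.zero_mem))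
  have spl : ∀ b ∈ A, ∀ x ∈ Y, b • x = x ∨ b • x = a • x := fun b hb x hx => (e.two b hb).imp (((mY x).1 hx).2 b)
    fun k => by rw [← m.aaw e.aA (b • x), smul_smul a b, ((mY x).1 hx).2 _ k]
  have aV : ∀ x ∈ Y, a • x + x = 0 ∨ a • x + x = v := fun x hx => m.cA _ (m.a2 a e.aA x (Y0 x hx)) fun b hb => by
    rcases spl b hb _ (add_mem (aY x hx) hx) with k | k
    · exact k
    · rw [k, smul_add, m.aaw e.aA, add_comm]
  obtain ⟨u, hu, bu⟩ := m.beta e
  have nY : ∀ b ∈ A₁, b • u + u ∈ Y := fun b hb => (mY _).2 ⟨add_mem (e.rgA (e.le hb) hu) hu, fun c hc => quad b hb c hc u hu⟩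
  have vY : v ∈ Y := by
    by_contra k
    have fa : ∀ x ∈ Y, a • x = x := fun x hx =>
      eq_of_add m.two ((aV x hx).resolve_right fun j => k (j ▸ add_mem (aY x hx) hx))
    exact s1 (m.inj s (e.le hs) u bu (rg_fix m.two e.odd (nY s hs).1
      (key e.odd e.inv (fa _ (nY s hs)) (fa _ (ηY _ (nY s hs)))) ▸ D.zero_mem))
  have fo : ∀ x ∈ Y, x = 0 ∨ x = v ∨ x = η • v ∨ x = v + η • v := fun x hx =>
    four m.two e.odd e.inv ηY (fun x hx => rg_fix m.two e.odd hx.1) (fun x hx y hy n n' => by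
      have h1 := (aV x hx).resolve_left fun j => n (eq_of_add m.two j)
      have h2 := (aV y hy).resolve_left fun j => n' (eq_of_add m.two j)
      rw [smul_add]; have := m.two v; have := m.two x; have := m.two y; grind) vY m.v0 (m.av a e.aA) hx
  have nb : ∀ b ∈ A₁, b ≠ 1 → b • u + u = η • v ∨ b • u + u = v + η • v := fun b hb b1 => by
    rcases fo _ (nY b hb) with k | k | k
    · exact absurd (m.inj b (e.le hb) u bu (k ▸ D.zero_mem)) b1
    · exact absurd (m.inj b (e.le hb) u bu (k ▸ m.vD)) b1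
    · exact k
  refine ⟨Y0 _ (ηY _ vY), fun b hb => ?_, ?_, u, bu, fun t ht hD => ?_⟩
  · rcases spl b hb _ (ηY _ vY) with k | k
    · exact .inl k
    · exact (aV _ (ηY _ vY)).imp (fun j => k ▸ eq_of_add m.two j) fun j => by have := m.two (η • v); grind
  · rcases fo _ (ηY _ (ηY _ vY)) with k | k | k | k
    · exact absurd ((smul_eq_zero_iff_eq η).1 ((smul_eq_zero_iff_eq η).1 k)) m.v0
    · exact absurd (fix_of_sq e.odd k) (m.can e)
    · exact absurd (smul_left_cancel η k) (m.can e)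
    · exact k
  have tb : ∀ b ∈ A₁, b ≠ 1 → t = b := fun b hb b1 => by
    have h1 : b • u + u + η • v ∈ D := by
      rcases nb b hb b1 with k | k <;> rw [k]
      exacts [m.two _ ▸ D.zero_mem, (m.addr _ _).symm ▸ m.vD]
    have h2 := m.inj _ (mul_mem ht (e.le hb)) u bu (by
      convert add_mem (m.a2 t ht _ (m.a1 (e.le hb) u)) (add_mem h1 hD) using 1
      rw [smul_add, mul_smul]
      have := m.two (t • u); have := m.two (b • u); have := m.two u; have := m.two (η • v); grind)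
    rw [eq_inv_of_mul_eq_one_left h2, inv_eq_of_mul_eq_one_right (m.sq b (e.le hb))]
  refine ⟨tb s hs s1 ▸ e.cen s hs, tb s hs s1 ▸ nb s hs s1, fun x hx k => fo x ((mY x).2 ⟨hx, fun b hb => ?_⟩)⟩
  by_cases b1 : b = 1
  · rw [b1, one_smul]
  · rwa [← tb b hb b1]
end

variable (ha : a ∈ A) (a1 : a ≠ 1) (hA : ∀ b ∈ A, b = 1 ∨ b = a)
include ha a1 hA

theorem fD (hu : β u v = 1) (hw : β w v = 0) (n : w ∉ D) : w + (a • u + u) ∈ D := by
  obtain ⟨b, hb, k⟩ := m.sur u w hu hw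
  rcases hA b hb with rfl | rfl
  · rw [one_smul, m.two, add_zero] at k; exact absurd k n
  · exact k

theorem twoW (hw : β w v = 0) (n : w ∉ D) (hx : β x v = 0) (n' : x ∉ D) : w + x ∈ D := by
  obtain ⟨u, hu⟩ := m.ex
  convert add_mem (m.fD ha a1 hA hu hw n) (m.fD ha a1 hA hu hx n') using 1
  have := m.two (a • u + u); grind

theorem inF (hw : β w v = 0) (n : w ∉ D) (hx : β x v = 0) (n' : x ∉ D) (q1 : q w = 0) (q2 : q x = 0) :
    w + x = 0 ∨ w + x = v := by
  have k := m.twoW ha a1 hA hw n hx n'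
  have k2 := m.qa w x
  rw [m.qD _ k, q1, q2, zero_add, zero_add, m.sy] at k2
  have k3 : β (w + x) w = 0 := by rw [m.ad, m.βs, ← k2, add_zero]
  refine m.c0 _ k fun y hy => ?_
  by_cases j : y ∈ D
  · exact m.βD k j
  · rw [← m.addl w y, m.ad', k3, m.βD k (m.twoW ha a1 hA hw n hy j), add_zero]

theorem mov (hd : d ∈ D) (d0 : d ≠ 0) (dv : d ≠ v) : a • d = d + v :=
  (m.a3 a ha d hd).resolve_left fun k => (m.cA d hd fun b hb => by
    rcases hA b hb with rfl | rfl
    exacts [one_smul _ _, k]).elim d0 dv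

theorem stab (h : γ • v = v) (hw : β w v = 0) (q1 : q w = 0) : γ • w = w ∨ γ • w = w + v := by
  have k : γ • w + w = 0 ∨ γ • w + w = v := by
    by_cases j : w ∈ D
    · by_cases w0 : w = 0
      · simp [w0]
      by_cases wv : w = v
      · rw [wv, h, m.two]; simp
      have j2 := (m.nD γ).2 h w j
      refine m.cA _ (add_mem j2 j) fun b hb => ?_
      rcases hA b hb with rfl | rfl
      · exact one_smul _ _
      rw [smul_add, m.mov ha a1 hA j w0 wv, m.mov ha a1 hA j2 (fun i => w0 ((smul_eq_zero_iff_eq γ).1 i))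
        fun i => wv (smul_left_cancel γ (i.trans h.symm))]
      have := m.two v; grind
    · exact m.inF ha a1 hA (by rw [m.βv h, hw]) (fun i => j (by
        simpa using (m.nD γ⁻¹).2 (inv_smul_eq_iff.2 h.symm) _ i)) hw j (by rw [m.qs, q1]) q1
  exact k.imp (eq_of_add m.two) fun j => by have := m.two w; grind

theorem cl2 (h : γ • v ∈ D) : γ • v = v := by
  have n : γ ∈ 𝐍 (MulAction.stabilizer Γ v) := mem_normalizer_of_conj_mem fun g hg => (m.nD _).1 fun d hd => by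
    rw [mul_smul, mul_smul]
    rcases m.stab ha a1 hA (w := γ⁻¹ • d) hg (by rw [← m.sm γ, smul_inv_smul, m.βD hd h]) (by rw [m.qs, m.qD d hd])
      with k | k <;> rw [k]
    · rwa [smul_inv_smul]
    · rw [smul_add, smul_inv_smul]; exact add_mem hd h
  have k : (γ⁻¹ * a * γ) • v = v := conj_mem_of_mem_normalizer' n (m.av a ha)
  rw [mul_smul, mul_smul, inv_smul_eq_iff] at k
  by_contra j
  have := m.mov ha a1 hA h (fun i => m.v0 ((smul_eq_zero_iff_eq γ).1 i)) j
  rw [k, left_eq_add] at this; exact m.v0 this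

theorem c6 (hd : d ∈ D) (d0 : d ≠ 0) (dv : d ≠ v) : False := by
  classical
  obtain ⟨γ₀, b0, n0⟩ : ∃ γ : Γ, β (γ • v) v = 0 ∧ γ • v ≠ v := by
    by_contra! k
    have k2 : ∀ g h : Γ, g • v ≠ h • v → β (g • v) (h • v) = 1 := fun g h n => z2 fun j => n (by
      rw [← m.sm h⁻¹, inv_smul_smul, smul_smul] at j
      have := k _ j
      rwa [mul_smul, inv_smul_eq_iff] at this)
    obtain ⟨g, hg⟩ := m.exO
    have fn : a • g • v + g • v ∉ D := fun j => a1 (m.inj a ha _ hg j)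
    have an : a • g • v ≠ g • v := fun j => fn (by rw [j, m.two]; exact D.zero_mem)
    have b1 : β (a • g • v) (g • v) = 1 := by rw [smul_smul] at an ⊢; exact k2 _ _ an
    have b2 : β (a • g • v) v = 1 := by rw [m.βv (m.av a ha), hg]
    have rad := m.span (m.pp (a • g • v + g • v + v)) (fun h => by
      change β _ _ = 0
      rw [m.ad', m.ad']
      by_cases j1 : h • v = v
      · rw [j1, m.βs, m.sy, b2, m.sy, hg]; decide
      by_cases j2 : h • v = g • v
      · rw [j2, m.βs, m.sy, b1, hg]; decide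
      by_cases j3 : h • v = a • g • v
      · rw [j3, m.βs, b1, b2]; decide
      exfalso
      have c1 : β (h • v) v = 1 := z2 fun j => j1 (k h j)
      have c2 := m.twoW ha a1 hA (w := h • v + g • v) (by rw [m.ad, c1, hg, z11]) (fun j => by
        have := m.qD _ j
        rw [m.qa, m.qO, m.qO, k2 _ _ j2] at this; exact absurd this (by decide)) (m.a1 ha (g • v)) fn
      have := m.qD _ c2
      rw [show h • v + g • v + (a • g • v + g • v) = h • v + a • g • v by have := m.two (g • v); grind, m.qa, m.qO,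
        smul_smul, m.qO, k2 _ _ (smul_smul a g v ▸ j3)] at this
      exact absurd this (by decide)) d
    change β _ _ = 0 at rad
    rw [m.ad', m.βD hd m.vD, add_zero] at rad
    refine (m.c0 d hd fun w hw => ?_).elim d0 dv
    by_cases j : w ∈ D
    · exact m.βD hd j
    · rw [← m.addr w (a • g • v + g • v), m.ad', rad, m.βD hd (m.fD ha a1 hA hg hw j), add_zero]
  have p0 : γ₀ • v ∉ D := fun j => n0 (m.cl2 ha a1 hA j)
  let F : Set W := {0, v, γ₀ • v, γ₀ • v + v}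
  have mF : ∀ w, w ∈ F ↔ w = 0 ∨ w = v ∨ w = γ₀ • v ∨ w = γ₀ • v + v := fun w => Iff.rfl
  have inF : ∀ g : Γ, β (g • v) v = 0 → g • v ∈ F := fun g hg => by
    by_cases j : g • v = v
    · exact .inr (.inl j)
    rcases m.inF ha a1 hA hg (fun i => j (m.cl2 ha a1 hA i)) b0 p0 (m.qO g) (m.qO γ₀) with i | i
    · exact .inr (.inr (.inl (eq_of_add m.two i)))
    · exact .inr (.inr (.inr (by have := m.two (γ₀ • v); grind)))
  have aF : ∀ x ∈ F, ∀ y ∈ F, x + y ∈ F := fun x hx y hy => by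
    have := m.two v; have := m.two (γ₀ • v)
    rw [mF] at hx hy ⊢; grind
  have mL : ∀ g : Γ, g • v ∈ F → g • γ₀ • v ∈ F → g ∈ MulAction.stabilizer Γ F := fun g h1 h2 =>
    (MulAction.mem_stabilizer_set_iff_smul_set_subset (Set.toFinite F)).2 (by
      rintro _ ⟨w, hw, rfl⟩
      rcases (mF w).1 hw with rfl | rfl | rfl | rfl
      exacts [.inl (smul_zero g), h1, h2, by simpa only [smul_add] using aF _ h2 _ h1])
  have sF : ∀ g ∈ MulAction.stabilizer Γ F, ∀ w, g • w ∈ F ↔ w ∈ F := fun g hg w => by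
    conv_lhs => rw [← show g • F = F from hg]
    exact Set.smul_mem_smul_set_iff
  have hL : ∀ g : Γ, g • v = v → g ∈ MulAction.stabilizer Γ F := fun g hg => mL g (.inr (.inl hg)) (by
    rcases m.stab ha a1 hA hg b0 (m.qO _) with k | k
    exacts [.inr (.inr (.inl k)), .inr (.inr (.inr k))])
  have h0 : γ₀ ∈ MulAction.stabilizer Γ F := mL _ (.inr (.inr (.inl rfl))) (by
    rcases (mF _).1 (inF γ₀⁻¹ (by rw [← m.sm γ₀, smul_inv_smul, m.sy, b0])) with k | k | k | k <;>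
      rw [inv_smul_eq_iff] at k
    · exact absurd (k.trans (smul_zero _)) m.v0
    · exact absurd k.symm n0
    · exact .inr (.inl k.symm)
    · rw [smul_add] at k
      exact .inr (.inr (.inr (by have := m.two (γ₀ • v); grind))))
  obtain ⟨x, hx, o, nx⟩ : ∃ x ∈ MulAction.stabilizer Γ F, Odd (orderOf x) ∧ x • v ≠ v := by
    by_contra! k
    exact n0 (m.odd hL k h0)
  have sum : x • x • v + x • v = v := by
    have h1 := (mF _).1 ((sF x hx v).2 (.inr (.inl rfl)))
    have h2 := (mF _).1 ((sF x hx _).2 ((sF x hx v).2 (.inr (.inl rfl))))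
    have h3 : x • x • v ≠ v := fun j => nx (fix_of_sq o j)
    have h4 : x • x • v ≠ x • v := fun j => nx (smul_left_cancel x j)
    have h5 : x • v ≠ 0 := fun i => m.v0 ((smul_eq_zero_iff_eq x).1 i)
    have h6 : x • x • v ≠ 0 := fun i => h5 ((smul_eq_zero_iff_eq x).1 i)
    have := m.two (γ₀ • v)
    grind
  let Y : AddSubgroup W :=
    { carrier := F, zero_mem' := .inl rfl, add_mem' := fun {a b} h h' => aF a h b h'
      neg_mem' := fun {a} h => by rwa [neg_eq_of_add_eq_zero_left (m.two a)] }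
  obtain ⟨u, hu⟩ := m.ex
  have : u ∈ F := m.span Y (fun g => by
    change g • v ∈ F
    have k : ∀ y ∈ MulAction.stabilizer Γ F, β (g • v) (y • v) = 0 → g • v ∈ F := fun y hy j => by
      rw [← sF _ (inv_mem hy), smul_smul]
      exact inF _ (by rwa [← m.sm y, ← mul_smul, mul_inv_cancel_left])
    by_contra n
    have k1 := z2 (mt (k 1 (one_mem _)) n)
    have k2 := z2 (mt (k x hx) n)
    have k3 := z2 (mt (k _ (mul_mem hx hx)) n)
    have k4 := m.ad' (x • x • v) (x • v) (g • v)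
    rw [sum, k2, smul_smul, k3, ← one_smul Γ v, smul_smul, mul_one, one_smul] at k4
    rw [one_smul, k4] at k1
    exact absurd k1 (by decide)) u
  rcases (mF u).1 this with rfl | rfl | rfl | rfl
  · rw [m.β0] at hu; exact zero_ne_one hu
  · rw [m.βs] at hu; exact zero_ne_one hu
  · rw [b0] at hu; exact zero_ne_one hu
  · rw [m.ad, b0, m.βs, add_zero] at hu; exact zero_ne_one hu

variable (hD : ∀ d ∈ D, d = 0 ∨ d = v) (hu : β u v = 1)
include hD hu

theorem w0 (hw : β w v = 0) : w = 0 ∨ w = v ∨ w = a • u + u ∨ w = a • u + u + v := by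
  by_cases j : w ∈ D
  · rcases hD w j with k | k <;> simp [k]
  have := m.two (a • u + u)
  rcases hD _ (m.fD ha a1 hA hu hw j) with k | k <;> grind

theorem f0 : a • u + u ≠ 0 ∧ a • u + u ≠ v :=
  ⟨fun j => a1 (m.inj a ha u hu (j ▸ D.zero_mem)), fun j => a1 (m.inj a ha u hu (j ▸ m.vD))⟩

theorem rad_of (h1 : β c v = 0) (h2 : β c u = 0) (h3 : β c (a • u + u) = 0) (w : W) : β c w = 0 := by
  have k : ∀ w, β w v = 0 → β c w = 0 := fun w hw => by
    rcases m.w0 ha a1 hA hD hu hw with rfl | rfl | rfl | rfl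
    exacts [m.β0' c, h1, h3, by rw [m.ad', h1, h3, add_zero]]
  by_cases j : β w v = 0
  · exact k w j
  · rw [← m.addr w u, m.ad', h2, k _ (by rw [m.ad, z2 j, hu, z11]), add_zero]

theorem rad_eq (h : ∀ w, β c w = 0) (h' : ∀ w, β d w = 0) (c0 : c ≠ 0) (d0 : d ≠ 0) : c = d := by
  have k : ∀ c, (∀ w, β c w = 0) → c ≠ v := fun c h j => by
    have := h u
    rw [j, m.sy, hu] at this; exact one_ne_zero this
  have h1 := k _ fun w => show β (c + d) w = 0 by rw [m.ad, h, h', add_zero]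
  have h2 := m.w0 ha a1 hA hD hu (h v)
  have h3 := m.w0 ha a1 hA hD hu (h' v)
  have := k c h; have := k d h'; have := m.two (a • u + u)
  grind

theorem bfu (e : Et A A₁ a η) : β (a • u + u) u = 1 := z2 fun k => by
  have rad := m.rad_of ha a1 hA hD hu (m.a1 ha u) k (m.βs _)
  obtain ⟨u₁, h1, h2⟩ := m.beta e
  have h3 : a • (u₁ + u) = u₁ + u := by
    have : a • (a • u + u) = a • u + u := by rw [smul_add, m.aaw ha, add_comm]
    rcases m.w0 ha a1 hA hD hu (w := u₁ + u) (by rw [m.ad, h2, hu, z11]) with j | j | j | j <;> rw [j]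
    exacts [smul_zero _, m.av a ha, this, by rw [smul_add, this, m.av a ha]]
  have h4 : a • u + u ∈ rg W η := by
    convert add_mem (e.rgA ha h1) h1 using 1
    rw [smul_add] at h3
    have := m.two u; have := m.two (a • u₁); grind
  have f0 := (m.f0 ha a1 hA hD hu).1
  exact f0 (rg_fix m.two e.odd h4 (m.rad_eq ha a1 hA hD hu (fun w => by
    rw [← smul_inv_smul η w, m.sm, rad]) rad (fun i => f0 ((smul_eq_zero_iff_eq η).1 i)) f0))

variable (e : Et A A₁ a η)
include e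

theorem rad (w : W) : β (a • u + u + v) w = 0 :=
  m.rad_of ha a1 hA hD hu (by rw [m.ad, m.a1 ha, m.βs, add_zero])
    (by rw [m.ad, m.bfu ha a1 hA hD hu e, m.sy, hu, z11]) (by rw [m.ad, m.βs, m.sy, m.a1 ha, add_zero]) w

theorem fixc (γ : Γ) : γ • (a • u + u + v) = a • u + u + v := by
  have n : a • u + u + v ≠ 0 := fun j => (m.f0 ha a1 hA hD hu).2 (eq_of_add m.two j)
  exact m.rad_eq ha a1 hA hD hu (fun w => by rw [← smul_inv_smul γ w, m.sm, m.rad ha a1 hA hD hu e])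
    (m.rad ha a1 hA hD hu e) (fun i => n ((smul_eq_zero_iff_eq γ).1 i)) n

variable (qu : q u = 0)
include qu

theorem qf : q (a • u + u) = 1 := by
  have := m.bfu ha a1 hA hD hu e
  rw [m.ad, m.βs, add_zero] at this
  rw [m.qa, m.qs, qu, this]; decide

theorem qc : q (a • u + u + v) = 1 := by rw [m.qa, m.qf ha a1 hA hD hu e qu, m.qv, m.a1 ha]; decide

theorem sing (h : q w = 0) : w = 0 ∨ w = v ∨ w = u ∨ w = a • u := by
  by_cases j : β w v = 0
  · rcases m.w0 ha a1 hA hD hu j with k | k | k | k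
    · exact .inl k
    · exact .inr (.inl k)
    · rw [k, m.qf ha a1 hA hD hu e qu] at h; exact absurd h one_ne_zero
    · rw [k, m.qc ha a1 hA hD hu e qu] at h; exact absurd h one_ne_zero
  have := m.two u
  rcases m.w0 ha a1 hA hD hu (w := w + u) (by rw [m.ad, z2 j, hu, z11]) with k | k | k | k
  · grind
  · rw [show w = u + v by grind, m.qa, qu, m.qv, hu] at h; exact absurd h (by decide)
  · grind
  · rw [show w = a • u + v by grind, m.qa, m.qs, qu, m.qv, m.βv (m.av a ha), hu] at h; exact absurd h (by decide)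

/-- no three nonzero singular vectors add up to zero -/
theorem nosum (h1 : q w = 0) (h2 : q x = 0) (h3 : q (w + x) = 0) : w = 0 ∨ x = 0 ∨ w + x = 0 := by
  have k1 := m.sing ha a1 hA hD hu e qu h1
  have k2 := m.sing ha a1 hA hD hu e qu h2
  have k3 := m.sing ha a1 hA hD hu e qu h3
  have k4 : a • u + u + v ≠ 0 := fun j => (m.f0 ha a1 hA hD hu).2 (eq_of_add m.two j)
  have := m.two u; have := m.two v; have := m.two (a • u)
  grind

theorem twoS (h : γ • v = v) (h' : s • v = v) (n : γ ≠ 1) (n' : s ≠ 1) : γ * s = 1 := by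
  have ff : ∀ g : Γ, g • v = v → g • (a • u + u) = a • u + u := fun g hg => by
    have := m.fixc ha a1 hA hD hu e g
    rwa [smul_add, hg, add_left_inj] at this
  have k : ∀ g : Γ, g • v = v → g • u = u → g = 1 := fun g hg j => m.faith g fun w => by
    have k : ∀ w, β w v = 0 → g • w = w := fun w hw => by
      rcases m.w0 ha a1 hA hD hu hw with rfl | rfl | rfl | rfl
      exacts [smul_zero _, hg, ff g hg, by rw [smul_add, hg, ff g hg]]
    by_cases i : β w v = 0
    · exact k w i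
    · rw [← m.addr w u, smul_add, j, k _ (by rw [m.ad, z2 i, hu, z11])]
  have k2 : ∀ g : Γ, g • v = v → g ≠ 1 → g • u = a • u := fun g hg g1 => by
    have b := m.βv hg u
    rcases m.sing ha a1 hA hD hu e qu (w := g • u) (by rw [m.qs, qu]) with i | i | i | i
    · rw [i, m.β0, hu] at b; exact absurd b zero_ne_one
    · rw [i, m.βs, hu] at b; exact absurd b zero_ne_one
    · exact absurd (k g hg i) g1
    · exact i
  refine k _ (by rw [mul_smul, h', h]) ?_
  have := ff γ h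
  rw [smul_add, k2 γ h n] at this
  rw [mul_smul, k2 s h' n']
  grind
end Mo
end H120.FC
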