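import Cfsg.Agent.H20.FC1
/-! `H26.FC`, part 2: the frame with `|V| = 4` and `U` not abelian (`Cc`), step C2 of notes/helper26_N4c.md,
the module `U/Z` (`exists_md'`, `Fm`, `Cc.mo`). -/
set_option autoImplicit false
set_option linter.unusedSectionVars false
namespace H120.FC
open Cfsg Subgroup H26 H4 H118 H13.FFa
open scoped Pointwise commutatorElement
universe u

variable {G : Type*} [Group G]

theorem exists_md' {G : Type u} [Group G] [Finite G] {H U : Subgroup G} {z : G} (c0 : U ≤ 𝐂 (zpowers z))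
    (cm : ∀ u ∈ U, ∀ v ∈ U, ⁅u, v⁆ ∈ zpowers z) (sq : ∀ u ∈ U, u * u ∈ zpowers z)
    (nU : H ≤ 𝐍 U) (nz : H ≤ 𝐂 (zpowers z)) :
    ∃ (Γ W : Type u) (_ : Group Γ) (_ : Finite Γ) (_ : AddCommGroup W) (_ : Finite W) (_ : DistribMulAction Γ W)
      (mk : G → W) (ac : G → Γ), Md H U z mk ac := by
  classical
  let Z := (zpowers z).subgroupOf U
  haveI : Z.Normal := ⟨fun n hn g =>
    conj_mem_of_mem_normalizer (H := zpowers z) (centralizer_le_normalizer _ (c0 g.2)) hn⟩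
  letI : CommGroup (U ⧸ Z) := { (inferInstance : Group (U ⧸ Z)) with
    mul_comm := fun a b => by
      induction a using QuotientGroup.induction_on with
      | H a =>
      induction b using QuotientGroup.induction_on with
      | H b =>
        refine QuotientGroup.eq.2 ?_
        have := cm _ (inv_mem b.2) _ (inv_mem a.2)
        rw [commutatorElement_def, inv_inv, inv_inv, mul_assoc, ← mul_inv_rev] at this
        exact this }
  let c : H →* MulAut U := U.normalizerMonoidHom.comp (inclusion nU)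
  have hc : ∀ (h : H) (u : U), (c h u : G) = h * u * h⁻¹ := fun h u => rfl
  have hZ : ∀ h : H, Z ≤ Z.comap (c h).toMonoidHom := fun h u hu => by
    change (c h u : G) ∈ zpowers z
    rw [hc]; exact conj_mem_of_mem_normalizer (centralizer_le_normalizer _ (nz h.2)) hu
  let f : H → (U ⧸ Z →* U ⧸ Z) := fun h => QuotientGroup.map Z Z (c h).toMonoidHom (hZ h)
  have f1 : ∀ w, f 1 w = w := fun w => by
    induction w using QuotientGroup.induction_on with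
    | H u => change ((c 1 u : U) : U ⧸ Z) = u; rw [map_one]; rfl
  have f2 : ∀ g h w, f (g * h) w = f g (f h w) := fun g h w => by
    induction w using QuotientGroup.induction_on with
    | H u => change ((c (g * h) u : U) : U ⧸ Z) = (c g (c h u) : U); rw [map_mul]; rfl
  let ρ : H →* MulAut (U ⧸ Z) := MonoidHom.mk' (fun h =>
    { toFun := f h, invFun := f h⁻¹, map_mul' := map_mul (f h)
      left_inv := fun w => by rw [← f2, inv_mul_cancel, f1]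
      right_inv := fun w => by rw [← f2, mul_inv_cancel, f1] }) fun g h => MulEquiv.ext (f2 g h)
  letI : DistribMulAction ρ.range (Additive (U ⧸ Z)) :=
    { smul := fun γ w => Additive.ofMul (γ.1 w.toMul)
      one_smul := fun _ => rfl
      mul_smul := fun _ _ _ => rfl
      smul_zero := fun γ => map_one γ.1
      smul_add := fun γ v w => map_mul γ.1 v.toMul w.toMul }
  refine ⟨ρ.range, Additive (U ⧸ Z), inferInstance, inferInstance, inferInstance, inferInstance, inferInstance,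
    fun u => if hu : u ∈ U then Additive.ofMul ((⟨u, hu⟩ : U) : U ⧸ Z) else 0,
    fun h => if hh : h ∈ H then ρ.rangeRestrict ⟨h, hh⟩ else 1, fun w => ?_, fun γ e => ?_, fun u hu v hv => ?_,
    fun u hu => ?_, fun w => ?_, fun g hg h hh => ?_, fun γ => ?_, fun h hh u hu => ?_, nU⟩
  · induction w using QuotientGroup.induction_on with
    | H u => exact (QuotientGroup.eq_one_iff (N := Z) (u * u)).2 (sq u u.2)
  · exact Subtype.ext (MulEquiv.ext e)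
  · simp only [dif_pos hu, dif_pos hv, dif_pos (U.mul_mem hu hv)]; rfl
  · simp only [dif_pos hu]; exact QuotientGroup.eq_one_iff (N := Z) _
  · induction w using QuotientGroup.induction_on with
    | H u => exact ⟨u, u.2, by simp only [dif_pos u.2]; rfl⟩
  · simp only [dif_pos hg, dif_pos hh, dif_pos (H.mul_mem hg hh)]
    rw [← map_mul]; congr 1
  · obtain ⟨h, e⟩ := ρ.rangeRestrict_surjective γ
    exact ⟨h, h.2, by simp only [dif_pos h.2]; exact e⟩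
  · simp only [dif_pos hh, dif_pos hu, dif_pos (conj_mem_of_mem_normalizer (nU hh) hu)]; rfl

open Classical in
/-- the sign of an element of a group of order two -/
noncomputable def sg (x : G) : ZMod 2 := if x = 1 then 0 else 1

theorem sg_zero {x : G} : sg x = 0 ↔ x = 1 := by rw [sg]; split_ifs with e <;> simp [e]

/-- the commutator form and the squaring map on `U/Z` -/
structure Fm {W : Type*} (U : Subgroup G) (mk : G → W) (β : W → W → ZMod 2) (q : W → ZMod 2) : Prop where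
  b : ∀ u ∈ U, ∀ v ∈ U, β (mk u) (mk v) = χ u v
  q : ∀ u ∈ U, q (mk u) = sg (u * u)

theorem exists_fm {Γ W : Type*} [Group Γ] [AddCommGroup W] [DistribMulAction Γ W] {H U : Subgroup G} {z : G}
    {mk : G → W} {ac : G → Γ} (m : Md H U z mk ac) (zz : z * z = 1) (c0 : U ≤ 𝐂 (zpowers z)) :
    ∃ β q, Fm U mk β q := by
  choose l hl el using m.mk_surj
  have k : ∀ u ∈ U, ∃ c ∈ zpowers z, l (mk u) = c * u := fun u hu =>
    ⟨_, (m.mk_eq (hl _) hu).1 (el _), by rw [inv_mul_cancel_right]⟩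
  refine ⟨fun a b => χ (l a) (l b), fun a => sg (l a * l a), fun u hu v hv => ?_, fun u hu => ?_⟩
  · obtain ⟨c, hc, e⟩ := k u hu
    obtain ⟨d, hd, e'⟩ := k v hv
    have cd : c * d = d * c := by rcases mem_two zz hc with rfl | rfl <;> rcases mem_two zz hd with rfl | rfl <;> simp
    refine χ_congr ?_
    rw [e, e', mul_assoc, ← mul_assoc u, ← c0 hu d hd, mul_assoc d v, ← mul_assoc v, ← c0 hv c hc]
    simp only [← mul_assoc, cd]
    rw [mul_assoc (d * c), mul_assoc (d * c), mul_right_inj]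
  · obtain ⟨c, hc, e⟩ := k u hu
    have cc : c * c = 1 := by rcases mem_two zz hc with rfl | rfl <;> simp [zz]
    change sg _ = _
    rw [e, mul_assoc, ← mul_assoc u, ← c0 hu c hc, mul_assoc, ← mul_assoc c, cc, one_mul]

/-- two distinct involutions of `V` -/
structure Pr (V : Subgroup G) (p q : G) : Prop where
  pV : p ∈ V
  qV : q ∈ V
  p1 : p ≠ 1
  q1 : q ≠ 1
  ne : p ≠ q

theorem Pr.symm {V : Subgroup G} {p q : G} (r : Pr V p q) : Pr V q p := ⟨r.qV, r.pV, r.q1, r.p1, r.ne.symm⟩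

/-- case 2 with `V` a four-group -/
structure Cc (S V : Subgroup G) (z y : G) : Prop extends Fr S V, Pr V z y where
  four : Four V
  core : V ≤ pCoreOf 2 (fH S)
  zeq : oz S = zpowers z
  nab : ¬ fU S V ≤ 𝐂 (fU S V)

theorem VU {V : Subgroup G} {p : G} (hp : p ∈ V) : V ≤ Up V p := (Ln.self V).le_Up hp
theorem CV {V : Subgroup G} {p : G} (hp : p ∈ V) : 𝐂 V ≤ 𝐂 (zpowers p) := centralizer_anti (zpowers_le.2 hp)
theorem CVn {V : Subgroup G} {p : G} (hp : p ∈ V) : 𝐂 V ≤ 𝐍 (Up V p) := (CV hp).trans (c_le_n_Up V p)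
theorem cjU {V : Subgroup G} {p q x u : G} (e : x * p * x⁻¹ = q) (hu : u ∈ Up V p) : x * u * x⁻¹ ∈ Up V q := by
  rw [← e, ← cj_Up]; exact conj_mem_cj x hu
theorem cjU' {V : Subgroup G} {p q x u : G} (e : x * p * x⁻¹ = q) (hu : u ∈ Up V q) : x⁻¹ * u * x ∈ Up V p := by
  rw [← e, ← cj_Up] at hu; exact mem_cj.1 hu
theorem nC {V : Subgroup G} {x c : G} (hx : x ∈ 𝐍 V) (hc : c ∈ 𝐂 V) : x * c * x⁻¹ ∈ 𝐂 V :=
  conj_mem_of_mem_normalizer (normalizer_le_normalizer_centralizer V hx) hc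
theorem nC' {V : Subgroup G} {x c : G} (hx : x ∈ 𝐍 V) (hc : c ∈ 𝐂 V) : x⁻¹ * c * x ∈ 𝐂 V :=
  conj_mem_of_mem_normalizer' (normalizer_le_normalizer_centralizer V hx) hc
theorem cmL {K : Subgroup G} {x a : G} (hx : x ∈ 𝐍 K) (ha : a ∈ K) : ⁅x, a⁆ ∈ K :=
  mul_mem (conj_mem_of_mem_normalizer hx ha) (inv_mem ha)
theorem cmR {K : Subgroup G} {x a : G} (hx : x ∈ 𝐍 K) (ha : a ∈ K) : ⁅a, x⁆ ∈ K := by
  rw [← commutatorElement_inv]; exact inv_mem (cmL hx ha)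
theorem cm_symm {K : Subgroup G} {x a : G} (h : ⁅x, a⁆ ∈ K) : ⁅a, x⁆ ∈ K := by
  rw [← commutatorElement_inv]; exact inv_mem h

namespace Cc
variable [Finite G] {S V : Subgroup G} {z y : G} (h : Cc S V z y) {p q g x a b d t u w : G} {l K : Subgroup G}
include h

theorem pr : Pr V z y := h.toPr
theorem sqV (hp : p ∈ V) : p * p = 1 := h.four.sq p hp
theorem zz : z * z = 1 := h.sqV h.pV
theorem cV (hp : p ∈ V) (hq : q ∈ V) : p * q = q * p := h.four.le_c hq p hp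
theorem fH_eq : fH S = 𝐂 (zpowers z) := by rw [fH, h.zeq]
theorem S_le : S ≤ 𝐂 (zpowers z) := h.zeq ▸ le_c_oz S
theorem ln_four (hl : Ln V l) : Four l := let ⟨g, e⟩ := hl; e ▸ h.four.conj g
theorem thr (r : Pr V p q) : Pr V p (p * q) :=
  ⟨r.pV, mul_mem r.pV r.qV, r.p1, fun e => r.ne (mul_left_cancel ((h.sqV r.pV).trans e.symm)),
    fun e => r.q1 (by simpa using e)⟩
theorem thr' (r : Pr V p q) : Pr V q (p * q) := h.cV r.qV r.pV ▸ h.thr r.symm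
theorem cases (r : Pr V p q) (hx : x ∈ V) : x = 1 ∨ x = p ∨ x = q ∨ x = p * q :=
  four_cases h.four r.pV r.qV r.p1 r.q1 r.ne hx
theorem memC (r : Pr V p q) (h1 : x ∈ 𝐂 (zpowers p)) (h2 : x * q * x⁻¹ = q) : x ∈ 𝐂 V :=
  four_c h.four r.pV r.qV r.p1 r.q1 r.ne (conj_eq_of_mem_c h1) h2
theorem mov (r : Pr V p q) (h1 : x ∈ 𝐂 (zpowers p)) (h2 : x ∈ 𝐍 V) (h3 : x ∉ 𝐂 V) : x * q * x⁻¹ = p * q :=
  (four_fix h.four r.pV r.qV r.p1 r.q1 r.ne h2 (conj_eq_of_mem_c h1)).resolve_left fun e => h3 (h.memC r h1 e)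
theorem two (r : Pr V p q) (h1 : x ∈ 𝐂 (zpowers p)) (h2 : x ∈ 𝐍 V) (h3 : x ∉ 𝐂 V) (k1 : g ∈ 𝐂 (zpowers p))
    (k2 : g ∈ 𝐍 V) (k3 : g ∉ 𝐂 V) : x * g ∈ 𝐂 V := h.memC r (mul_mem h1 k1) (by
  rw [show x * g * q * (x * g)⁻¹ = x * (g * q * g⁻¹) * x⁻¹ by group, h.mov r k1 k2 k3, ← conj_mul, h.mov r h1 h2 h3,
    conj_eq_of_mem_c h1, ← mul_assoc, h.sqV r.pV, one_mul])
theorem zp (r : Pr V p q) (h1 : x ∈ zpowers p) (h2 : x ∈ zpowers q) : x = 1 := by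
  rcases mem_two (h.sqV r.pV) h1 with k | k
  · exact k
  · exact (mem_two (h.sqV r.qV) h2).resolve_right (k ▸ r.ne)

theorem not_S_le : ¬ S ≤ 𝐂 V := fun e => fr_oz_ne h.toFr (le_antisymm (fr_oz_le h.toFr)
  (le_oz h.four.ea (h.syl.le_of_le_normalizer h.four.isP le_top h.le) (le_centralizer_iff.1 e)))

theorem trans_V (hp : p ∈ V) (p1 : p ≠ 1) : ∃ g ∈ 𝐍 V, g * z * g⁻¹ = p := by
  have e : ¬ 𝐍 V ≤ 𝐂 (zpowers z) := fun e => fr_oz_ne h.toFr (by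
    have := fr_ncl h.toFr
    rwa [ncl_eq_self (h.zeq ▸ le_normalizer_of_le_centralizer e)] at this)
  obtain ⟨g, hg, hg'⟩ := SetLike.not_le_iff_exists.1 e
  have r : Pr V z (g * z * g⁻¹) := ⟨h.pV, conj_mem_of_mem_normalizer hg h.pV, h.p1, conj_ne_one g h.p1,
    fun k => hg' (mem_c_of_conj_eq k.symm)⟩
  rcases h.cases r hp with k | k | k | k
  · exact absurd k p1
  · exact ⟨1, one_mem _, by simp [k]⟩
  · exact ⟨g, hg, k.symm⟩
  obtain ⟨s, hs, hs'⟩ := SetLike.not_le_iff_exists.1 h.not_S_le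
  exact ⟨s * g, mul_mem (h.le hs) hg, by rw [k, ← h.mov r (h.S_le hs) (h.le hs) hs']; group⟩

theorem trans (hl : Ln V l) (hp : p ∈ l) (p1 : p ≠ 1) : ∃ g, cj g V = l ∧ g * z * g⁻¹ = p := by
  obtain ⟨x, rfl⟩ := hl
  obtain ⟨g, hg, e⟩ := h.trans_V (mem_cj.1 hp) (fun k => p1 (by simpa using conj_ne_one_aux k))
  exact ⟨x * g, by rw [cj_mul, cj_eq_of_mem_normalizer hg], by
    rw [show x * g * z * (x * g)⁻¹ = x * (g * z * g⁻¹) * x⁻¹ by group, e]; group⟩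

theorem Up_z : Up V z = fU S V := by
  refine le_antisymm (Up_le fun l hl hz => ?_) (ncl_le_iff.2 fun g hg => ((Ln.self V).cj g).le_Up ?_)
  · obtain ⟨g, rfl, e⟩ := h.trans hl hz h.p1
    exact cj_le_ncl (h.zeq ▸ mem_c_of_conj_eq e)
  · rw [← conj_eq_of_mem_c (h.zeq ▸ hg : g ∈ 𝐂 (zpowers z))]
    exact conj_mem_cj g h.pV

theorem QS : pCoreOf 2 (𝐂 (zpowers z)) ≤ S := (h.syl.mono h.S_le le_top).pCoreOf_le
theorem UQ : Up V z ≤ pCoreOf 2 (𝐂 (zpowers z)) := Up_le fun l hl hz => by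
  obtain ⟨g, rfl, e⟩ := h.trans hl hz h.p1
  exact cj_le_of_mem_normalizer (h.fH_eq ▸ h.core) (le_normalizer_pCoreOf 2 _ (mem_c_of_conj_eq e))
theorem US : Up V z ≤ S := h.UQ.trans h.QS

theorem QT : pCoreOf 2 (𝐂 (zpowers z)) ≤ Tp V z := by
  refine le_Tp.2 ⟨pCoreOf_le _ _, ?_⟩
  rw [commutator_comm, Up]
  refine commutator_sSup_le (fun l hl => ?_) fun l hl =>
    le_normalizer_of_le_centralizer ((h.ln_four hl.1).le_c.trans (centralizer_anti (zpowers_le.2 hl.2)))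
  refine (h.ln_four hl.1).commutator_le_of_card (zpowers_le.2 hl.2) (card_two h.zz h.p1) ?_
    (le_normalizer_of_le_centralizer (pCoreOf_le _ _))
  obtain ⟨g, rfl, e⟩ := h.trans hl.1 hl.2 h.p1
  rw [← cj_normalizer, ← cj_eq_of_mem_normalizer (le_normalizer_pCoreOf 2 _ (mem_c_of_conj_eq e))]
  exact cj_mono g (h.QS.trans h.le)

theorem UT (hp : p ∈ V) (p1 : p ≠ 1) : Up V p ≤ Tp V p := by
  obtain ⟨g, -, rfl⟩ := h.trans_V hp p1
  rw [← cj_Up, ← cj_Tp]; exact cj_mono g (h.UQ.trans h.QT)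

theorem UP (hp : p ∈ V) (p1 : p ≠ 1) : IsPGroup 2 (Up V p) := by
  obtain ⟨g, -, rfl⟩ := h.trans_V hp p1
  rw [← cj_Up]; exact isPGroup_cj g (h.syl.isP.to_le h.US)

theorem ex (hp : p ∈ V) (p1 : p ≠ 1) : ∃ u ∈ Up V p, u ∉ 𝐂 V := by
  refine SetLike.not_le_iff_exists.1 fun k => h.nab ?_
  obtain ⟨g, hg, rfl⟩ := h.trans_V hp p1
  rw [← cj_Up, ← cj_eq_of_mem_normalizer (normalizer_le_normalizer_centralizer V hg), cj_le_cj_iff] at k
  rw [← h.Up_z]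
  refine le_centralizer_iff.1 (Up_le fun l hl hz => le_centralizer_iff.1 ?_)
  obtain ⟨g, rfl, e⟩ := h.trans hl hz h.p1
  rw [← cj_centralizer, ← cj_eq_of_mem_normalizer (c_le_n_Up V z (mem_c_of_conj_eq e))]
  exact cj_mono g k

theorem TN (hp : p ∈ V) : Tp V p ≤ 𝐍 V := Ge.Tp_le_n (Ln.self V) hp

section
variable (r : Pr V p q)
include r

theorem Uc (hu : u ∈ Up V p) : u ∈ 𝐂 (zpowers p) := Tp_le_c (h.UT r.pV r.p1 hu)
theorem Un (hu : u ∈ Up V p) : u ∈ 𝐍 V := h.TN r.pV (h.UT r.pV r.p1 hu)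
theorem Ucm (hu : u ∈ Up V p) (hw : w ∈ Up V p) : ⁅u, w⁆ ∈ zpowers p := (mem_Tp.1 (h.UT r.pV r.p1 hu)).2 w hw
theorem Umov (hu : u ∈ Up V p) (n : u ∉ 𝐂 V) : u * q * u⁻¹ = p * q := h.mov r (h.Uc r hu) (h.Un r hu) n
theorem Utwo (hu : u ∈ Up V p) (n : u ∉ 𝐂 V) (hw : w ∈ Up V p) (n' : w ∉ 𝐂 V) : u * w ∈ 𝐂 V :=
  h.two r (h.Uc r hu) (h.Un r hu) n (h.Uc r hw) (h.Un r hw) n'

theorem Usq (hu : u ∈ Up V p) : u * u ∈ zpowers p := by
  let K : Subgroup G :=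
    { carrier := {u | u ∈ Up V p ∧ u * u ∈ zpowers p}, one_mem' := ⟨one_mem _, by simp⟩
      inv_mem' := fun ⟨a, b⟩ => ⟨inv_mem a, by rw [← mul_inv_rev]; exact inv_mem b⟩
      mul_mem' := fun {u w} ⟨a, b⟩ ⟨c, d⟩ => ⟨mul_mem a c, by
        rw [show u * w * (u * w) = u * ⁅w, u⁆ * u⁻¹ * (u * u) * (w * w) by simp only [commutatorElement_def]; group]
        exact mul_mem (mul_mem (conj_mem_of_mem_normalizer (centralizer_le_normalizer _ (h.Uc r a)) (h.Ucm r c a)) b) d⟩ }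
  exact (Up_le (K := K) (fun l hl hp x hx => ⟨hl.le_Up hp hx, by rw [(h.ln_four hl).sq x hx]; exact one_mem _⟩) hu).2

theorem Dc (h1 : x ∈ Up V p) (h2 : x ∈ Up V q) : x ∈ 𝐂 V := h.memC r (h.Uc r h1) (conj_eq_of_mem_c (h.Uc r.symm h2))
theorem Dsq (h1 : x ∈ Up V p) (h2 : x ∈ Up V q) : x * x = 1 := h.zp r (h.Usq r h1) (h.Usq r.symm h2)

theorem D3 (h1 : x ∈ Up V p) (h2 : x ∈ Up V q) : x ∈ Up V (p * q) := by
  obtain ⟨u, hu, n⟩ := h.ex r.pV r.p1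
  have := cjU (h.Umov r hu n) (mul_mem (VU r.qV (zpowers_le.2 r.pV (h.Ucm r (inv_mem hu) h1))) h2)
  simpa [commutatorElement_def, mul_assoc] using this

theorem Dall (h1 : x ∈ Up V p) (h2 : x ∈ Up V q) (hg : g ∈ V) (g1 : g ≠ 1) : x ∈ Up V g := by
  rcases h.cases r hg with rfl | rfl | rfl | rfl
  exacts [absurd rfl g1, h1, h2, h.D3 r h1 h2]

theorem inj (ha : a ∈ Up V q) (hu : u ∈ Up V p) (n : u ∉ 𝐂 V) (k : ⁅u, a⁆ ∈ Up V q) : a ∈ Up V p := by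
  have k1 : u * a * u⁻¹ ∈ Up V q := by simpa [commutatorElement_def] using mul_mem k ha
  simpa [mul_assoc] using conj_mem_of_mem_normalizer' (le_normalizer hu)
    (h.Dall (h.thr' r) k1 (cjU (h.Umov r hu n) ha) r.pV r.p1)

theorem sur (hu : u ∈ Up V p) (n : u ∉ 𝐂 V) (hw : w ∈ Up V p) (cw : w ∈ 𝐂 V) :
    ∃ a ∈ Up V q, a ∈ 𝐂 V ∧ w * ⁅a, u⁆ ∈ Up V q := by
  obtain ⟨t, ht, nt⟩ := h.ex r.qV r.q1
  have e : t * (p * q) * t⁻¹ = p := by
    rw [h.Umov (h.thr' r) ht nt, h.cV r.pV r.qV, ← mul_assoc, h.sqV r.qV, one_mul]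
  have k1 := cjU' e hw
  have k2 := nC' (h.Un r.symm ht) cw
  have k3 := cjU' (h.Umov r hu n) k1
  have k4 := nC' (h.Un r hu) k2
  refine ⟨_, k3, k4, ?_⟩
  convert mul_mem (cmR (CVn r.qV k2) ht) (conj_mem_of_mem_normalizer (CVn r.qV k2) k3) using 1
  simp only [commutatorElement_def]; group

theorem cen (h1 : d ∈ Up V p) (h2 : d ∈ Up V q) (k : ∀ u ∈ Up V p, u ∈ 𝐂 V → u * d = d * u) (ha : a ∈ Up V q)
    (ca : a ∈ 𝐂 V) : a * d = d * a := by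
  have r' := (h.thr r).symm
  obtain ⟨t, ht, nt⟩ := h.ex r'.pV r'.p1
  have e : t * p * t⁻¹ = q := by
    rw [h.Umov r' ht nt, mul_assoc, h.cV r.qV r.pV, ← mul_assoc, h.sqV r.pV, one_mul]
  have k1 := k _ (cjU' e ha) (nC' (h.Un r' ht) ca)
  have k2 := ca _ (zpowers_le.2 r'.pV (h.Ucm r' ht (h.D3 r h1 h2)))
  have k3 : a * (⁅t, d⁆ * d) = ⁅t, d⁆ * d * a := by
    calc _ = t * (t⁻¹ * a * t * d) * t⁻¹ := by simp only [commutatorElement_def]; group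
      _ = _ := by rw [k1]; simp only [commutatorElement_def]; group
  rwa [← mul_assoc, ← k2, mul_assoc, mul_assoc, mul_right_inj] at k3

theorem adj (hu : u ∈ Up V p) (n : u ∉ 𝐂 V) (cx : x ∈ 𝐂 V) (k : ⁅u, x⁆ ∈ zpowers p) :
    ∃ w ∈ zpowers q, u * (x * w) = x * w * u := by
  rcases mem_two (h.sqV r.pV) k with k | k
  · exact ⟨1, one_mem _, by simpa using commutatorElement_eq_one_iff_mul_comm.1 k⟩
  refine ⟨q, mem_zpowers q, ?_⟩
  calc _ = ⁅u, x⁆ * x * (u * q * u⁻¹) * u := by simp only [commutatorElement_def]; group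
    _ = _ := by rw [k, h.Umov r hu n, cx p r.pV, ← mul_assoc, mul_assoc x, h.sqV r.pV, mul_one]

theorem Ugen (hu : u ∈ Up V p) (n : u ∉ 𝐂 V) (k1 : u ∈ K) (k2 : ∀ w ∈ Up V p, w ∈ 𝐂 V → w ∈ K) : Up V p ≤ K :=
  fun w hw => (em _).elim (k2 w hw) fun j => by simpa using mul_mem (k2 _ (mul_mem hw hu) (h.Utwo r hw j hu n)) (inv_mem k1)

theorem TA (ht : t ∈ Tp V p) (ha : a ∈ Up V q) (ca : a ∈ 𝐂 V) : ⁅t, a⁆ ∈ Up V p := by
  obtain ⟨u, hu, n⟩ := h.ex r.pV r.p1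
  have k : ∀ t ∈ Tp V p, t ∈ 𝐂 V → ⁅t, a⁆ ∈ Up V p := fun t ht ct =>
    h.inj r (cmL (CVn r.qV ct) ha) hu n (VU r.qV (zpowers_le.2 r.pV (cm_symm
      ((mem_Tp.1 (cmR (c_le_n_Tp V p (CV r.pV ca)) ht)).2 u hu))))
  by_cases j : t ∈ 𝐂 V
  · exact k t ht j
  have k1 := h.two r (Tp_le_c ht) (h.TN r.pV ht) j (h.Uc r hu) (h.Un r hu) n
  have := mul_mem (conj_mem_of_mem_normalizer (CVn r.pV k1) (cmR (CVn r.pV ca) (inv_mem hu)))
    (k _ (mul_mem ht (h.UT r.pV r.p1 hu)) k1)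
  rwa [← commutatorElement_mul_left_eq_conj_mul, mul_inv_cancel_right] at this

theorem nD : 𝐍 V ≤ 𝐍 (Up V p ⊓ Up V q) := fun g hg => mem_normalizer_of_conj_mem fun x hx => by
  have r' : Pr V (g * p * g⁻¹) (g * q * g⁻¹) := ⟨conj_mem_of_mem_normalizer hg r.pV, conj_mem_of_mem_normalizer hg r.qV,
    conj_ne_one g r.p1, conj_ne_one g r.q1, fun e => r.ne (by simpa using e)⟩
  exact ⟨h.Dall r' (cjU rfl hx.1) (cjU rfl hx.2) r.pV r.p1, h.Dall r' (cjU rfl hx.1) (cjU rfl hx.2) r.qV r.q1⟩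

theorem ND : 𝐍 (Up V p ⊓ Up V q) ≤ 𝐍 V := fr_uniq h.toFr ((h.UP r.pV r.p1).to_le inf_le_left)
  (fun e => r.p1 (mem_bot.1 (e ▸ (⟨VU r.pV r.pV, VU r.qV r.pV⟩ : p ∈ Up V p ⊓ Up V q)))) (h.nD r)
end

theorem z_mem (h1 : K ≤ S) (h2 : S ≤ 𝐍 K) (h3 : K ≠ ⊥) : z ∈ K := by
  obtain ⟨x, ⟨a, b⟩, x1⟩ := (bot_or_exists_ne_one _).resolve_left (inf_omegaOne_center_ne_bot h.syl.isP h1 h2 h3)
  exact (mem_two h.zz (h.zeq ▸ b)).resolve_left x1 ▸ a

theorem triv (hx : x ∈ S) (h1 : x ∈ 𝐂 (Up V z)) (h2 : x ∈ 𝐂 (Up V y)) : x = 1 := by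
  obtain ⟨u, hu, n⟩ := h.ex h.pV h.p1
  have k : x ∈ 𝐂 (Wl V V) := zpowers_le.1 (le_centralizer_iff.1 (Wl_le fun p hp p1 => le_centralizer_iff.1
    (zpowers_le.2 (by
      rcases h.cases h.pr hp with rfl | rfl | rfl | rfl
      · exact absurd rfl p1
      · exact h1
      · exact h2
      · rw [← h.Umov h.pr hu n, ← cj_Up, ← cj_centralizer, mem_cj, mul_assoc, ← h1 u hu, inv_mul_cancel_left]
        exact h2))))
  by_contra x1
  have := h.z_mem (K := S ⊓ 𝐂 (Wl V V)) inf_le_left (le_normalizer_inf le_normalizer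
    (le_normalizer_centralizer (h.le.trans (n_le_n_Wl V V)))) fun e => x1 (mem_bot.1 (e ▸ (⟨hx, k⟩ : x ∈ S ⊓ _)))
  obtain ⟨t, ht, nt⟩ := h.ex h.qV h.q1
  exact nt (h.memC h.pr.symm (h.Uc h.pr.symm ht) (by rw [this.2 t (Up_le_Wl h.qV h.q1 ht), mul_inv_cancel_right]))

theorem triv' (hu : u ∈ Up V z) (n : u ∉ 𝐂 V) (ht : t ∈ Up V y) (n' : t ∉ 𝐂 V) (hx : x ∈ S) (e1 : u * x = x * u)
    (e2 : t * x = x * t) (k1 : ∀ w ∈ Up V z, w ∈ 𝐂 V → w * x = x * w) (k2 : ∀ w ∈ Up V y, w ∈ 𝐂 V → w * x = x * w) :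
    x = 1 :=
  h.triv hx (fun w hw => mem_centralizer_singleton_iff.1 (h.Ugen h.pr (K := centralizer {x}) hu n
    (mem_centralizer_singleton_iff.2 e1) (fun w a b => mem_centralizer_singleton_iff.2 (k1 w a b)) hw))
    fun w hw => mem_centralizer_singleton_iff.1 (h.Ugen h.pr.symm (K := centralizer {x}) ht n'
    (mem_centralizer_singleton_iff.2 e2) (fun w a b => mem_centralizer_singleton_iff.2 (k2 w a b)) hw)

theorem cW (h1 : d ∈ Up V z) (h2 : d ∈ Up V y) (k : ∀ u ∈ Up V z, u ∈ 𝐂 V → u * d = d * u) : d ∈ V := by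
  obtain ⟨u, hu, n⟩ := h.ex h.pV h.p1
  obtain ⟨t, ht, nt⟩ := h.ex h.qV h.q1
  obtain ⟨a, ha, e1⟩ := h.adj h.pr hu n (h.Dc h.pr h1 h2) (h.Ucm h.pr hu h1)
  obtain ⟨b, hb, e2⟩ := h.adj h.pr.symm ht nt (h.Dc h.pr h1 h2) (h.Ucm h.pr.symm ht h2)
  have aV := zpowers_le.2 h.qV ha
  have bV := zpowers_le.2 h.pV hb
  have c : ∀ w ∈ 𝐂 V, w * d = d * w → w * (d * a * b) = d * a * b * w := fun w cw e =>
    (Commute.mul_right (Commute.mul_right e (cw a aV).symm) (cw b bV).symm).eq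
  have := h.triv' hu n ht nt (h.US (mul_mem (mul_mem h1 (VU h.pV aV)) (VU h.pV bV)))
    (Commute.mul_right e1 (h.Uc h.pr hu b hb).symm).eq
    (by rw [mul_assoc d, h.cV aV bV, ← mul_assoc d]; exact (Commute.mul_right e2 (h.Uc h.pr.symm ht a ha).symm).eq)
    (fun w a b => c w b (k w a b)) fun w a b => c w b (h.cen h.pr h1 h2 k a b)
  rw [mul_assoc] at this
  exact eq_inv_of_mul_eq_one_left this ▸ inv_mem (mul_mem aV bV)


theorem solH : Group.IsSolvable (𝐂 (zpowers z)) := H18.Solv.of_le (fr_sol h.toFr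
  (h.four.isP.to_le (zpowers_le.2 h.pV)) (by simpa using h.p1)) (centralizer_le_normalizer _)

variable {Γ W : Type*} [Group Γ] [Finite Γ] [AddCommGroup W] [Finite W] [DistribMulAction Γ W] {mk : G → W}
  {ac : G → Γ} (m : Md (𝐂 (zpowers z)) (Up V z) z mk ac)
include m

omit h in
theorem ac_T (hx : x ∈ 𝐂 (zpowers z)) : ac x = 1 ↔ x ∈ Tp V z := by rw [m.ac_eq_one hx, mem_Tp, and_iff_right hx]

theorem acU (hu : u ∈ Up V z) : ac u = 1 := (ac_T m (h.Uc h.pr hu)).2 (h.UT h.pV h.p1 hu)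
theorem mkz : mk z = 0 := (m.mk_zero z (VU h.pV h.pV)).2 (mem_zpowers z)

theorem mkV (hx : x ∈ V) : mk x = 0 ∨ mk x = mk y := by
  rcases h.cases h.pr hx with rfl | rfl | rfl | rfl
  · exact .inl m.mk_one
  · exact .inl (h.mkz m)
  · exact .inr rfl
  · exact .inr (by rw [m.mk_mul _ (VU h.pV h.pV) _ (VU h.pV h.qV), h.mkz m, zero_add])

theorem memV (hu : u ∈ Up V z) (e : mk u = 0 ∨ mk u = mk y) : u ∈ V := by
  rcases e with e | e
  · exact zpowers_le.2 h.pV ((m.mk_zero u hu).1 e)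
  · simpa using mul_mem (zpowers_le.2 h.pV ((m.mk_eq hu (VU h.pV h.qV)).1 e)) h.qV

theorem fix_M (h1 : x ∈ 𝐂 (zpowers z)) : ac x • mk y = mk y ↔ x ∈ 𝐍 V := by
  rw [m.smul _ h1 _ (VU h.pV h.qV)]
  refine ⟨fun e => mem_normalizer_of_conj_mem fun v hv => ?_, fun e => (h.mkV m (conj_mem_of_mem_normalizer e h.qV)).resolve_left
    fun k => h.zp h.pr ?_ (mem_zpowers y) |> h.q1⟩
  · have k := h.memV m (m.cU h1 (VU h.pV h.qV)) (.inr e)
    have k1 := conj_eq_of_mem_c h1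
    rcases h.cases h.pr hv with rfl | rfl | rfl | rfl
    exacts [by simp, k1.symm ▸ hv, k, by rw [← conj_mul, k1]; exact mul_mem h.pV k]
  · simpa [mul_assoc] using conj_mem_of_mem_normalizer' (centralizer_le_normalizer _ h1)
      ((m.mk_zero _ (m.cU h1 (VU h.pV h.qV))).1 k)

theorem cmk (hx : x ∈ 𝐂 (zpowers z)) (hu : u ∈ Up V z) : mk ⁅x, u⁆ = ac x • mk u + mk u := by
  rw [m.comm hx hu, sub_eq m.two]

omit h in
/-- the image of `A = C_{U(y)}(V)` -/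
def As (y : G) : Subgroup Γ := ((Up V y ⊓ 𝐂 V).subgroupOf (𝐂 (zpowers z))).map m.hom

theorem mem_As {γ : Γ} : γ ∈ As m y ↔ ∃ a ∈ Up V y, a ∈ 𝐂 V ∧ ac a = γ :=
  ⟨fun ⟨a, b, c⟩ => ⟨a, b.1, b.2, c⟩, fun ⟨a, b, c, d⟩ => ⟨⟨a, CV h.pV c⟩, ⟨b, c⟩, d⟩⟩

theorem mD (hu : u ∈ Up V z) : mk u ∈ m.im (Up V y) ↔ u ∈ Up V y := m.mem_im (VU h.qV h.pV) hu

variable {β : W → W → ZMod 2} {Q : W → ZMod 2} (f : Fm (Up V z) mk β Q)
include f

theorem β0 (hu : u ∈ Up V z) : β (mk u) (mk y) = 0 ↔ u ∈ 𝐂 V := by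
  rw [f.b u hu y (VU h.pV h.qV), χ_zero]
  exact ⟨fun e => h.memC h.pr (h.Uc h.pr hu) (by rw [e, mul_inv_cancel_right]), fun e => (e y h.qV).symm⟩

theorem β1 (hu : u ∈ Up V z) : β (mk u) (mk y) = 1 ↔ u ∉ 𝐂 V := by
  rw [← h.β0 m f hu]; exact ⟨fun e k => zero_ne_one (k.symm.trans e), z2⟩

theorem mo : Mo (As m y) (m.im (Up V y)) (mk y) β Q := by
  have yU := VU h.pV h.qV
  have r := h.pr
  have fx : ∀ a ∈ Up V y, a ∈ 𝐂 V → ac a • mk y = mk y := fun a _ c =>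
    (h.fix_M m (CV h.pV c)).2 (centralizer_le_normalizer _ c)
  refine ⟨m.two, m.faith, fun a b => ?_, fun a b c => ?_, fun γ a b => ?_, fun a b => ?_, fun γ a => ?_, fun e => ?_,
    (h.mD m yU).2 (VU h.qV h.qV), ?_, fun γ hγ => ?_, fun γ hγ => ?_, fun γ hγ w hw => ?_, fun γ hγ => ?_,
    fun γ hγ w hw e => ?_, fun u w hu hw => ?_, ?_, ?_, ?_, fun Y hY w => ?_, fun γ => ?_, fun γ e δ hδ => ?_, ?_⟩
  · obtain ⟨a, ha, rfl⟩ := m.mk_surj a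
    obtain ⟨b, hb, rfl⟩ := m.mk_surj b
    rw [f.b a ha b hb, f.b b hb a ha]; exact χ_congr eq_comm
  · obtain ⟨a, ha, rfl⟩ := m.mk_surj a
    obtain ⟨b, hb, rfl⟩ := m.mk_surj b
    obtain ⟨c, hc, rfl⟩ := m.mk_surj c
    rw [← m.mk_mul a ha b hb, f.b _ (mul_mem ha hb) c hc, f.b a ha c hc, f.b b hb c hc,
      χ_mul_left h.zz (h.Uc r ha) (h.Ucm r ha hc) (h.Ucm r hb hc)]
  · obtain ⟨a, ha, rfl⟩ := m.mk_surj a
    obtain ⟨b, hb, rfl⟩ := m.mk_surj b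
    obtain ⟨g, hg, rfl⟩ := m.ac_surj γ
    rw [m.smul g hg a ha, m.smul g hg b hb, f.b _ (m.cU hg ha) _ (m.cU hg hb), f.b a ha b hb, χ_conj]
  · obtain ⟨a, ha, rfl⟩ := m.mk_surj a
    obtain ⟨b, hb, rfl⟩ := m.mk_surj b
    rw [← m.mk_mul a ha b hb, f.q _ (mul_mem ha hb), f.q a ha, f.q b hb, f.b a ha b hb, χ_congr (t' := b) (u' := a) eq_comm,
      show a * b * (a * b) = a * ⁅b, a⁆ * a⁻¹ * (a * a * (b * b)) by simp only [commutatorElement_def]; group,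
      mem_centralizer_iff'.1 (h.Uc r ha) _ (h.Ucm r hb ha), add_comm]
    exact (sg_mul h.zz (h.Ucm r hb ha) (mul_mem (h.Usq r ha) (h.Usq r hb))).trans
      (congrArg _ (sg_mul h.zz (h.Usq r ha) (h.Usq r hb)))
  · obtain ⟨a, ha, rfl⟩ := m.mk_surj a
    obtain ⟨g, hg, rfl⟩ := m.ac_surj γ
    rw [m.smul g hg a ha, f.q _ (m.cU hg ha), f.q a ha, conj_mul, mem_centralizer_iff'.1 hg _ (h.Usq r ha)]
  · exact h.q1 (h.zp r ((m.mk_zero y yU).1 e) (mem_zpowers y))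
  · rintro _ ⟨d, h1, h2, rfl⟩
    rw [f.q d h1, sg_zero, h.Dsq r h1 h2]
  · obtain ⟨a, h1, h2, rfl⟩ := (h.mem_As m).1 hγ
    rw [← m.ac_mul a (CV h.pV h2) a (CV h.pV h2), h.acU m (VU h.pV (zpowers_le.2 h.qV (h.Usq r.symm h1)))]
  · obtain ⟨a, h1, h2, rfl⟩ := (h.mem_As m).1 hγ
    exact fx a h1 h2
  · obtain ⟨a, h1, h2, rfl⟩ := (h.mem_As m).1 hγ
    obtain ⟨w, k, rfl⟩ := m.mk_surj w
    rw [← h.cmk m (CV h.pV h2) k, h.mD m (cmL (CVn h.pV h2) k)]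
    exact cmR (CVn h.qV ((h.β0 m f k).1 hw)) h1
  · obtain ⟨a, h1, h2, rfl⟩ := (h.mem_As m).1 hγ
    rintro _ ⟨d, k1, k2, rfl⟩
    have := h.cmk m (CV h.pV h2) k1
    have t := m.two (mk d)
    rcases h.mkV m (zpowers_le.2 h.qV (h.Ucm r.symm h1 k2)) with j | j <;> grind
  · obtain ⟨a, h1, h2, rfl⟩ := (h.mem_As m).1 hγ
    obtain ⟨w, k, rfl⟩ := m.mk_surj w
    rw [← h.cmk m (CV h.pV h2) k, h.mD m (cmL (CVn h.pV h2) k)] at e
    exact h.acU m (h.inj r h1 k ((h.β1 m f k).1 hw) (cm_symm e))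
  · obtain ⟨u, k, rfl⟩ := m.mk_surj u
    obtain ⟨w, k', rfl⟩ := m.mk_surj w
    obtain ⟨a, h1, h2, e⟩ := h.sur r k ((h.β1 m f k).1 hu) k' ((h.β0 m f k').1 hw)
    refine ⟨ac a, (h.mem_As m).2 ⟨a, h1, h2, rfl⟩, ?_⟩
    rwa [← h.cmk m (CV h.pV h2) k, ← m.mk_mul _ k' _ (cmL (CVn h.pV h2) k), h.mD m (mul_mem k' (cmL (CVn h.pV h2) k))]
  · rintro _ ⟨d, k1, k2, rfl⟩ e
    refine h.mkV m (h.cW k1 k2 fun u a b => h.cen r.symm k2 k1 (fun a h1 h2 => ?_) a b)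
    exact commutatorElement_eq_one_iff_mul_comm.1 (h.zp r ((m.fix (CV h.pV h2) k1).1
      (e _ ((h.mem_As m).2 ⟨a, h1, h2, rfl⟩))) (h.Ucm r.symm h1 k2))
  · rintro _ ⟨d, k1, k2, rfl⟩ e
    refine h.mkV m (h.cW k1 k2 fun u a b => ?_)
    have := e _ ((h.β0 m f a).2 b)
    rw [f.b d k1 u a, χ_zero] at this; exact this.symm
  · obtain ⟨u, hu, n⟩ := h.ex h.pV h.p1
    exact ⟨mk u, (h.β1 m f hu).2 n⟩
  · obtain ⟨u, hu, rfl⟩ := m.mk_surj w
    have : Up V z ≤ m.pre Y := Up_le fun l hl hz => by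
      obtain ⟨g, rfl, e⟩ := h.trans hl hz h.p1
      rintro _ ⟨v, hv, rfl⟩
      refine ⟨m.cU (mem_c_of_conj_eq e) (VU h.pV hv), ?_⟩
      change mk (g * v * g⁻¹) ∈ Y
      rw [← m.smul _ (mem_c_of_conj_eq e) _ (VU h.pV hv)]
      rcases h.mkV m hv with k | k <;> rw [k]
      exacts [(smul_zero (ac g) : ac g • (0 : W) = 0).symm ▸ Y.zero_mem, hY _]
    exact (this hu).2
  · obtain ⟨g, hg, rfl⟩ := m.ac_surj γ
    rw [h.fix_M m hg]
    refine ⟨fun e => h.ND r (mem_normalizer_of_conj_mem fun d hd => ⟨m.cU hg hd.1, ?_⟩), fun e => ?_⟩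
    · exact (h.mD m (m.cU hg hd.1)).1 (m.smul g hg d hd.1 ▸ e _ ((h.mD m hd.1).2 hd.2))
    · rintro _ ⟨d, k1, k2, rfl⟩
      rw [m.smul g hg d k1, h.mD m (m.cU hg k1)]
      exact (conj_mem_of_mem_normalizer (h.nD r e) (⟨k1, k2⟩ : d ∈ Up V z ⊓ Up V y)).2
  · obtain ⟨g, hg, rfl⟩ := m.ac_surj γ
    obtain ⟨a, h1, h2, rfl⟩ := (h.mem_As m).1 hδ
    obtain ⟨g', hg', e'⟩ : ∃ g' ∈ 𝐂 V, ac g' = ac g := by
      by_cases j : g ∈ 𝐂 V
      · exact ⟨g, j, rfl⟩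
      obtain ⟨u, hu, n⟩ := h.ex h.pV h.p1
      exact ⟨_, h.two r hg ((h.fix_M m hg).1 e) j (h.Uc r hu) (h.Un r hu) n, by
        rw [m.ac_mul g hg u (h.Uc r hu), h.acU m hu, mul_one]⟩
    rw [← e', ← m.ac_conj (CV h.pV hg') (CV h.pV h2)]
    exact (h.mem_As m).2 ⟨_, conj_mem_of_mem_normalizer (CVn h.qV hg') h1, nC (centralizer_le_normalizer _ hg') h2, rfl⟩
  · have s := ((h.syl.mono h.S_le le_top).subgroupOf le_rfl).map m.hom
    rw [subgroupOf_self, ← MonoidHom.range_eq_map, MonoidHom.range_eq_top.2 m.hom_surj] at s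
    refine ⟨_, s, ?_⟩
    rintro _ ⟨s, hs, rfl⟩
    exact (h.fix_M m s.2).2 (h.le hs)
end Cc
end H120.FC
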