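import Cfsg.Agent.H20.FC2
/-! `H26.FC`, part 3: steps C3 - C5 of notes/helper26_N4c.md (`lift`, `sol2`, `c5`). -/
set_option autoImplicit false
set_option linter.unusedSectionVars false
namespace H120.FC
open Cfsg Subgroup H26 H4 H118 H13.FFa
open scoped Pointwise commutatorElement

variable {G : Type*} [Group G]

theorem ac_cm {Γ W : Type*} [Group Γ] [AddCommGroup W] [DistribMulAction Γ W] {H U : Subgroup G} {z : G}
    {mk : G → W} {ac : G → Γ} (m : Md H U z mk ac) {g x : G} (hg : g ∈ H) (hx : x ∈ H) :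
    ac ⁅g, x⁆ = ac g * ac x * (ac g)⁻¹ * (ac x)⁻¹ := by
  rw [commutatorElement_def, m.ac_mul _ (mul_mem (mul_mem hg hx) (inv_mem hg)) _ (inv_mem hx), m.ac_conj hg hx,
    m.ac_inv hx]

theorem cmm {K : Subgroup G} {x a : G} (hx : x ∈ K) (ha : a ∈ K) : ⁅x, a⁆ ∈ K := cmL (le_normalizer hx) ha

theorem ac_zp {Γ W : Type*} [Group Γ] [AddCommGroup W] [DistribMulAction Γ W] {H U : Subgroup G} {z : G}
    {mk : G → W} {ac : G → Γ} (m : Md H U z mk ac) {g e : G} (he : e ∈ H) (hg : g ∈ zpowers e) :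
    ac g ∈ zpowers (ac e) := ((zpowers_le (H := m.pg (zpowers (ac e)))).2 ⟨he, mem_zpowers _⟩ hg).2

theorem Et.sqi {Γ : Type*} [Group Γ] {A A₁ : Subgroup Γ} {a η : Γ} (e : Et A A₁ a η) :
    a * η * a⁻¹ * η⁻¹ = η⁻¹ * η⁻¹ ∧ Et A A₁ a (η⁻¹ * η⁻¹) :=
  ⟨by rw [inv_eq_of_mul_eq_one_right e.aa, e.inv], e.pow (mul_mem (inv_mem (mem_zpowers η)) (inv_mem (mem_zpowers η)))
    fun k => e.ne (inv_eq_one.1 (one_of_sq (orderOf_inv η ▸ e.odd) k))⟩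

theorem n3 [Finite G] {V : Subgroup G} {g a b : G} (h1 : ∀ x ∈ V, g * x * g⁻¹ ∈ V ⊔ zpowers a ⊔ zpowers b)
    (h2 : g * a * g⁻¹ ∈ V ⊔ zpowers a ⊔ zpowers b) (h3 : g * b * g⁻¹ ∈ V ⊔ zpowers a ⊔ zpowers b) :
    g ∈ 𝐍 (V ⊔ zpowers a ⊔ zpowers b) := mem_normalizer_of_cj_le (by
  rw [cj_sup, cj_sup, cj_zpowers, cj_zpowers]
  exact sup_le (sup_le (by rintro _ ⟨x, hx, rfl⟩; exact h1 x hx) (zpowers_le.2 h2)) (zpowers_le.2 h3))

namespace Cc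
variable [Finite G] {S V : Subgroup G} {z y : G} (h : Cc S V z y) {a e : G} {X Y : Subgroup G}
  {Γ W : Type*} [Group Γ] [Finite Γ] [AddCommGroup W] [Finite W] [DistribMulAction Γ W] {mk : G → W}
  {ac : G → Γ} (m : Md (𝐂 (zpowers z)) (Up V z) z mk ac) {β : W → W → ZMod 2} {Q : W → ZMod 2}
  (f : Fm (Up V z) mk β Q) {A₁ : Subgroup Γ} {α s : Γ}
include h m f

theorem lift (ha : α ∈ As m y) (n : α ≠ 1) : ∃ e ∈ 𝐂 (zpowers z), Odd (orderOf e) ∧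
    (∀ t ∈ Tp V z, ⁅e, t⁆ ∈ Up V z) ∧ ∃ A₁, Et (As m y) A₁ α (ac e) := by
  haveI := h.solH
  haveI : Group.IsSolvable Γ := Group.isSolvable_of_surjective m.hom_surj
  obtain ⟨η, A₁, et, -⟩ := exists_et (h.mo m f).core (h.mo m f).sq ha n
  obtain ⟨a, ha', ca, rfl⟩ := (h.mem_As m).1 ha
  obtain ⟨g, hg, rfl⟩ := m.ac_surj η
  have k1 : ⁅a, g⁆ ∈ commStab (Tp V z : Set G) (Up V z) :=
    cmR (le_normalizer_commStab (c_le_n_Tp V z) (c_le_n_Up V z) hg)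
      ⟨CVn h.pV ca, fun t ht => cm_symm (h.TA h.pr ht ha' ca)⟩
  have k2 := cmm (CV h.pV ca) hg
  refine ⟨H18.piPart {2}ᶜ ⁅a, g⁆, H18.piPart_mem k2, Nat.coprime_two_right.1
    ((H18.piNat_compl_iff_coprime Nat.prime_two).1 H18.piElt_piPart), (H18.piPart_mem k1).2, A₁, ?_⟩
  have e : ∀ x ∈ 𝐂 (zpowers z), H18.mfun m.hom x = ac x := fun x hx => H18.mfun_of_mem hx
  rw [← e _ (H18.piPart_mem k2), H18.mfun_piPart k2, e _ k2, ac_cm m (CV h.pV ca) hg, et.sqi.1, H18.piPart_eq_self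
    ((H18.piNat_compl_iff_coprime Nat.prime_two).2 (Nat.coprime_two_right.2 et.sqi.2.odd))]
  exact et.sqi.2

variable (he : e ∈ 𝐂 (zpowers z)) (et : Et (As m y) A₁ α (ac e))
include he et

theorem sol2 (hs : Group.IsSolvable Y) (h1 : Up V z ≤ Y) (h2 : Up V y ≤ Y) (h3 : e ∈ Y) : False := by
  have r := h.pr
  obtain ⟨u, hu, n⟩ := h.ex h.pV h.p1
  refine (sol_ind (P := fun N => ∃ u ∈ N, u ∈ Up V z ∧ u ∉ 𝐂 V) hs ⟨u, h1 hu, hu, n⟩ ?_).elim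
    fun u ⟨a, _, c⟩ => c (mem_bot.1 a ▸ one_mem _)
  rintro N - nN ⟨u, uN, hu, n⟩
  obtain ⟨t, ht, nt⟩ := h.ex h.qV h.q1
  obtain ⟨a, ha, ca, rfl⟩ := (h.mem_As m).1 et.aA
  have e1 : u * t * z * (u * t)⁻¹ = y := by
    rw [show u * t * z * (u * t)⁻¹ = u * (t * z * t⁻¹) * u⁻¹ by group, h.Umov r.symm ht nt, ← conj_mul, h.Umov r hu n,
      conj_eq_of_mem_c (h.Uc r hu), mul_assoc, h.cV h.qV h.pV, ← mul_assoc, h.zz, one_mul]
  have m1 := mul_mem (h.Un r hu) (h.Un r.symm ht)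
  obtain ⟨w, hw, cw, k⟩ := h.sur r.symm (cjU e1 hu) (fun j => n (by simpa [mul_assoc] using nC' m1 j)) ha ca
  have bN := cmL (nN (h1 hw)) (conj_mem_of_mem_normalizer (nN (mul_mem (h1 hu) (h2 ht))) uN)
  have bC := cmR (normalizer_le_normalizer_centralizer V (h.Un r.symm (cjU e1 hu))) cw
  set b := ⁅w, u * t * u * (u * t)⁻¹⁆
  have e2 : ac b = ac a := by
    have := h.acU m k
    rw [m.ac_mul a (CV h.pV ca) b (CV h.pV bC)] at this
    rw [eq_inv_of_mul_eq_one_right this, inv_eq_of_mul_eq_one_right et.aa]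
  have gN := cmR (nN h3) bN
  have gH := cmm (CV h.pV bC) he
  have e3 := ac_cm m (CV h.pV bC) he
  rw [e2, et.sqi.1] at e3
  obtain ⟨_, hw₀, k0⟩ := (h.mo m f).beta et.sqi.2
  obtain ⟨_, ⟨w₂, rfl⟩, rfl⟩ := rg_surj m.two et.sqi.2.odd hw₀
  obtain ⟨u₂, hu₂, rfl⟩ := m.mk_surj w₂
  have k1 := cmL (m.nU gH) hu₂
  rw [← e3, ← m.comm gH hu₂, ← m.comm gH k1] at k0
  exact ⟨_, commutator_mem_commutator gN (cmR (nN (h1 hu₂)) gN), cmL (m.nU gH) k1,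
    (h.β1 m f (cmL (m.nU gH) k1)).1 k0⟩

theorem sol2' (hX : IsPGroup 2 X) (hV : V ≤ X) (h1 : Up V z ≤ 𝐍 X) (h2 : Up V y ≤ 𝐍 X) (h3 : e ∈ 𝐍 X) : False :=
  h.sol2 m f he et (fr_sol h.toFr hX fun k => h.p1 (mem_bot.1 (k ▸ hV h.pV))) h1 h2 h3

theorem hsol : ¬ ∀ θ ∈ zpowers (ac e), θ • mk y ∈ m.im (Up V y) := fun k => by
  have l : ncl V (zpowers e) ≤ Up V z ⊓ Up V y := ncl_le_iff.2 fun g hg => by
    rintro _ ⟨x, hx, rfl⟩
    have gH := zpowers_le.2 he hg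
    have xU := VU h.pV hx
    refine ⟨m.cU gH xU, (h.mD m (m.cU gH xU)).1 ?_⟩
    rw [← m.smul g gH x xU]
    rcases h.mkV m hx with j | j <;> rw [j]
    exacts [(smul_zero (ac g) : ac g • (0 : W) = 0).symm ▸ zero_mem _, k _ (ac_zp m he hg)]
  have n : ∀ p q, Pr V p q → ncl V (zpowers e) ≤ Up V p → Up V p ≤ 𝐍 (ncl V (zpowers e)) := fun p q r l =>
    le_normalizer_of_commutator_le (commutator_le.2 fun a ha b hb =>
      le_ncl _ _ (zpowers_le.2 r.pV (h.Ucm r (l ha) hb)))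
  exact h.sol2' m f he et ((h.UP h.pV h.p1).to_le (l.trans inf_le_left)) (le_ncl _ _) (n _ _ h.pr (l.trans inf_le_left))
    (n _ _ h.pr.symm (l.trans inf_le_right)) (le_normalizer_ncl _ _ (mem_zpowers e))

theorem c5 (o : Odd (orderOf e)) (hJ : ∀ t ∈ Tp V z, ⁅e, t⁆ ∈ Up V z) (hs : s ∈ A₁) (s1 : s ≠ 1) : False := by
  have r := h.pr
  have r' := (h.thr r).symm
  have yU := VU h.pV h.qV
  obtain ⟨b0, b1, b2, w, b3, b4⟩ := (h.mo m f).c4 et (h.hsol m f he et) hs s1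
  obtain ⟨u, hu, rfl⟩ := m.mk_surj w
  have n := (h.β1 m f hu).1 b3
  obtain ⟨g, eg⟩ : ∃ g, g = e * y * e⁻¹ := ⟨_, rfl⟩
  have gU : g ∈ Up V z := eg ▸ m.cU he yU
  have mg : ac e • mk y = mk g := eg ▸ m.smul e he y yU
  rw [mg] at b0 b1 b2 b4
  have gC := (h.β0 m f gU).1 b0
  have gg : g * g = 1 := by rw [eg, conj_mul, h.sqV h.qV]; simp
  obtain ⟨t, ht, nt⟩ := h.ex r'.pV r'.p1
  have tz : t * z * t⁻¹ = y := by
    rw [h.Umov r' ht nt, mul_assoc, h.cV h.qV h.pV, ← mul_assoc, h.zz, one_mul]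
  have ty : t * y * t⁻¹ = z := by rw [h.Umov (h.thr' r).symm ht nt, mul_assoc, h.sqV h.qV, mul_one]
  have tM := h.Un r' ht
  obtain ⟨k, ek⟩ : ∃ k, k = t * g * t⁻¹ := ⟨_, rfl⟩
  have kU : k ∈ Up V y := ek ▸ cjU tz gU
  have kC : k ∈ 𝐂 V := ek ▸ nC tM gC
  have kH := CV h.pV kC
  have kk : k * k = 1 := by rw [ek, conj_mul, gg]; simp
  have tk : t * k * t⁻¹ = g := by
    calc _ = t * t * g * (t * t)⁻¹ := by rw [ek]; group
      _ = _ := by rw [gC _ (zpowers_le.2 r'.pV (h.Usq r' ht)), mul_inv_cancel_right]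
  have c1 : ∀ a ∈ Up V y, a ∈ 𝐂 V → ⁅a, g⁆ ∈ V := fun a ha ca => h.memV m (cmL (CVn h.pV ca) gU) (by
    rw [h.cmk m (CV h.pV ca) gU]
    have := m.two (mk g)
    rcases b1 _ ((h.mem_As m).2 ⟨a, ha, ca, rfl⟩) with j | j <;> grind)
  have c2 : ∀ a ∈ Up V z, a ∈ 𝐂 V → ⁅a, k⁆ ∈ V := fun a ha ca => by
    convert conj_mem_of_mem_normalizer tM (c1 _ (cjU' ty ha) (nC' tM ca)) using 1
    simp only [ek, commutatorElement_def]; group
  obtain ⟨b5, b6, b7⟩ := b4 _ ((h.mem_As m).2 ⟨k, kU, kC, rfl⟩) (by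
    have x1 := cmL (m.nU kH) hu
    rw [← h.cmk m kH hu, ← m.mk_mul _ x1 _ gU, h.mD m (mul_mem x1 gU)]
    refine h.Dall (h.thr r) (mul_mem x1 gU) ?_ h.qV h.q1
    convert mul_mem (conj_mem_of_mem_normalizer (CVn r'.pV kC) (cjU (h.Umov r hu n) (inv_mem kU)))
      (mul_mem (cmR (CVn r'.pV gC) ht) (gg ▸ one_mem (Up V (z * y)) : g * g ∈ _)) using 1
    simp only [ek, commutatorElement_def]; group)
  have lV : V ≤ V ⊔ zpowers g ⊔ zpowers k := le_sup_left.trans le_sup_left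
  have lg : g ∈ V ⊔ zpowers g ⊔ zpowers k := mem_sup_left (mem_sup_right (mem_zpowers g))
  have lk : k ∈ V ⊔ zpowers g ⊔ zpowers k := mem_sup_right (mem_zpowers k)
  have mF : ∀ x ∈ Up V z, (mk x = 0 ∨ mk x = mk y ∨ mk x = mk g ∨ mk x = mk y + mk g) →
      x ∈ V ⊔ zpowers g ⊔ zpowers k := fun x hx j => by
    by_cases i : mk x = 0 ∨ mk x = mk y
    · exact lV (h.memV m hx i)
    simpa using mul_mem (lV (h.memV m (mul_mem hx gU) (by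
      rw [m.mk_mul _ hx _ gU]; have := m.two (mk g); grind))) (inv_mem lg)
  have cj1 : ∀ x a : G, ∀ K : Subgroup G, ⁅x, a⁆ ∈ K → a ∈ K → x * a * x⁻¹ ∈ K := fun x a K h1 h2 => by
    simpa [commutatorElement_def] using mul_mem h1 h2
  have nU : Up V z ≤ 𝐍 (V ⊔ zpowers g ⊔ zpowers k) := by
    have : ∀ x ∈ Up V z, ⁅x, k⁆ ∈ V ⊔ zpowers g ⊔ zpowers k → x ∈ 𝐍 (V ⊔ zpowers g ⊔ zpowers k) := fun x hx j =>
      n3 (fun v hv => lV (conj_mem_of_mem_normalizer (h.Un r hx) hv))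
        (cj1 _ _ _ (lV (zpowers_le.2 h.pV (h.Ucm r hx gU))) lg) (cj1 _ _ _ j lk)
    exact h.Ugen r hu n (this u hu (cm_symm (mF _ (cmL (m.nU kH) hu) (by rw [h.cmk m kH hu]; exact .inr (.inr b6)))))
      fun x hx cx => this x hx (lV (c2 x hx cx))
  have nt : t ∈ 𝐍 (V ⊔ zpowers g ⊔ zpowers k) :=
    n3 (fun v hv => lV (conj_mem_of_mem_normalizer tM hv)) (ek ▸ lk) (tk ▸ lg)
  refine h.sol2' m f he et ((isPGroup_sup' (h.UP h.pV h.p1) (isPGroup_zpowers (k := 1) (by simpa [pow_two] using kk))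
    (zpowers_le.2 (m.nU kH))).to_le (sup_le_sup_right (sup_le (VU h.pV) (zpowers_le.2 gU)) _)) lV nU (fun x hx => by
      simpa [mul_assoc] using mul_mem (mul_mem nt (nU (cjU' tz hx))) (inv_mem nt)) (n3 (fun v hv => ?_) ?_ ?_)
  · refine mF _ (m.cU he (VU h.pV hv)) ?_
    rw [← m.smul e he v (VU h.pV hv)]
    rcases h.mkV m hv with j | j <;> simp [j, mg]
  · exact mF _ (m.cU he gU) (by rw [← m.smul e he g gU, b2]; simp)
  refine cj1 _ _ _ ?_ lk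
  have d1 : ⁅e, k⁆ ∈ Tp V z := (ac_T m (cmm he kH)).1 (by rw [ac_cm m he kH, ← b5]; simp)
  have d2 : k * ⁅e, k⁆ * k⁻¹ = ⁅e, k⁆⁻¹ := by
    calc _ = k * e * k * e⁻¹ * (k * k)⁻¹ := by simp only [commutatorElement_def]; group
      _ = _ := by rw [kk, commutatorElement_inv, commutatorElement_def, inv_eq_of_mul_eq_one_right kk]; simp
  have d3 : ⁅e, k⁆ ∈ Up V z := commutatorElement_mem_of_stab (p := 2) (N := zpowers ⁅e, k⁆)
    (Nat.coprime_two_right.2 o) (m.nU he) (zpowers_le.2 (m.nU (Tp_le_c d1))) (fun x hx => ⟨1, by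
      obtain ⟨i, rfl⟩ := mem_zpowers_iff.1 hx
      have := h.TA r d1 kU kC
      rw [← commutatorElement_inv k, commutatorElement_def k, d2, ← mul_inv_rev, inv_inv] at this
      rw [pow_one, pow_two, ← (Commute.refl _).mul_zpow]
      exact zpow_mem this i⟩) (mem_zpowers _) fun x hx => hJ x (zpowers_le.2 d1 hx)
  have z0 : zpowers z ≤ m.pre (rg W (ac e)) := zpowers_le.2 ⟨VU h.pV h.pV, h.mkz m ▸ zero_mem _⟩
  have d4 : ⁅e, k⁆ ∈ m.pre (rg W (ac e)) := commutatorElement_mem_of_stab (p := 2) (N := Up V z)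
    (Nat.coprime_two_right.2 o) (mem_normalizer_of_conj_mem fun x hx =>
      ⟨m.cU he hx.1, m.smul e he x hx.1 ▸ smul_mem_rg_comm rfl hx.2⟩)
    (le_normalizer_of_commutator_le (commutator_le.2 fun a ha b hb => z0 (h.Ucm r ha.1 hb)))
    (fun x hx => ⟨1, z0 (by simpa [pow_two] using h.Usq r hx)⟩) d3
    fun x hx => ⟨cmL (m.nU he) hx, _, (m.comm he hx).symm⟩
  exact mF _ d3 (b7 _ d4.2 (by rw [m.smul k kH _ d3, d2, m.mk_inv d3, neg_eq_of_add_eq_zero_left (m.two _)]))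

end Cc
end H120.FC
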