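import Cfsg.Agent.H20.FC3
/-! `H26.FC`, part 4: step C7 of notes/helper26_N4c.md (`E7.main`) and the case `|V| = 4` (`Cc.main`). -/
set_option autoImplicit false
set_option linter.unusedSectionVars false
namespace H120.FC
open Cfsg Subgroup H26 H4 H118 H13.FFa
open scoped Pointwise commutatorElement

variable {G : Type*} [Group G]

/-- `c` generates the centre of `U(p)` -/
structure Pt (V : Subgroup G) (p c : G) : Prop where
  cU : c ∈ Up V p
  cc : c * c = p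
  cen : ∀ w ∈ Up V p, w * c = c * w
  fx : ∀ x ∈ 𝐂 (zpowers p), x * c * x⁻¹ = c ∨ x * c * x⁻¹ = p * c
  u0 : ∀ w ∈ Up V p, w ∈ 𝐂 V → w ∈ V ∨ w * c ∈ V

theorem Pt.conj {V : Subgroup G} {p q c t : G} (h : Pt V p c) (ht : t ∈ 𝐍 V) (e : t * p * t⁻¹ = q) :
    Pt V q (t * c * t⁻¹) := by
  refine ⟨cjU e h.cU, by rw [conj_mul, h.cc, e], fun w hw => ?_, fun x hx => ?_, fun w hw cw => ?_⟩
  · calc _ = t * (t⁻¹ * w * t * c) * t⁻¹ := by group
      _ = _ := by rw [h.cen _ (cjU' e hw)]; group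
  · have k : x * (t * c * t⁻¹) * x⁻¹ = t * (t⁻¹ * x * t * c * (t⁻¹ * x * t)⁻¹) * t⁻¹ := by group
    rw [← e, ← cj_zpowers, ← cj_centralizer, mem_cj] at hx
    rw [k, ← e, conj_mul]
    exact (h.fx _ hx).imp (fun j => by rw [j]) fun j => by rw [j]
  · refine (h.u0 _ (cjU' e hw) (nC' ht cw)).imp (fun j => ?_) fun j => ?_
    · simpa [mul_assoc] using conj_mem_of_mem_normalizer ht j
    · simpa [mul_assoc] using conj_mem_of_mem_normalizer ht j

theorem Pt.cV {V : Subgroup G} {p c : G} (h : Pt V p c) (hp : p ∈ V) : c ∈ 𝐂 V := fun w hw => h.cen w (VU hp hw)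

theorem Pt.sqV {V : Subgroup G} {p c w : G} (h : Pt V p c) (f : Four V) (p1 : p ≠ 1) (hw : w ∈ Up V p) (cw : w ∈ 𝐂 V)
    (e : w * w = 1) : w ∈ V := (h.u0 w hw cw).resolve_right fun j => p1 (by
  have := f.sq _ j
  rwa [mul_assoc, ← mul_assoc c, ← h.cen w hw, mul_assoc, h.cc, ← mul_assoc, e, one_mul] at this)

/-- the situation `U(z) ∩ U(y) = V`, `|U(z)| = 16` -/
structure E7 (S V : Subgroup G) (z y u u' c c' : G) : Prop extends Cc S V z y where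
  uU : u ∈ Up V z
  uu : u * u = 1
  un : u ∉ 𝐂 V
  uz : ∃ g, g * u * g⁻¹ = z
  uU' : u' ∈ Up V y
  uu' : u' * u' = 1
  un' : u' ∉ 𝐂 V
  P : Pt V z c
  P' : Pt V y c'
  rel : u * c' * u⁻¹ = c * c'⁻¹
  cu : ∀ x ∈ Up V z, x * x = 1 → x ∉ 𝐂 V → ∃ w ∈ zpowers c', x = w * u * w⁻¹
  cu' : ∀ x ∈ Up V y, x * x = 1 → x ∉ 𝐂 V → ∃ w ∈ zpowers c, x = w * u' * w⁻¹
  nosum : ∀ a ∈ Up V z, ∀ b ∈ Up V z, a * a = 1 → b * b = 1 → a * b * (a * b) = 1 →
    a ∈ zpowers z ∨ b ∈ zpowers z ∨ a * b ∈ zpowers z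
  twoS : ∀ a ∈ S, ∀ b ∈ S, a ∉ Tp V z → b ∉ Tp V z → a * b ∈ Tp V z

namespace E7
variable [Finite G] {S V : Subgroup G} {z y u u' c c' : G} (h : E7 S V z y u u' c c') {r s x : G}
include h

theorem cC : c ∈ 𝐂 V := h.P.cV h.pV
theorem cC' : c' ∈ 𝐂 V := h.P'.cV h.qV
theorem nz : z * c ≠ c := fun e => h.p1 (by simpa using e)

theorem com : c * c' = c' * c := by
  have k : ∀ {p a b : G}, (b * a * b⁻¹ = a ∨ b * a * b⁻¹ = p * a) → ⁅b, a⁆ ∈ zpowers p := fun e => by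
    rcases e with e | e <;> simp [commutatorElement_def, e]
  exact commutatorElement_eq_one_iff_mul_comm.1 (h.toCc.zp h.pr (cm_symm (k (h.P.fx _ (CV h.pV h.cC'))))
    (k (h.P'.fx _ (CV h.qV h.cC))))

theorem dich (hr : r ∈ 𝐂 V) : (r * c * r⁻¹ = c ∧ r * c' * r⁻¹ = c') ∨ (r * c * r⁻¹ = z * c ∧ r * c' * r⁻¹ = y * c') := by
  have k : r * c * r⁻¹ * (r * c' * r⁻¹)⁻¹ = u * (u⁻¹ * r * u * c' * (u⁻¹ * r * u)⁻¹) * u⁻¹ := by
    calc _ = r * (c * c'⁻¹) * r⁻¹ := by group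
      _ = _ := by rw [← h.rel]; group
  have k1 : u * (y * c') * u⁻¹ = z * y * (c * c'⁻¹) := by rw [← conj_mul, h.rel, h.toCc.Umov h.pr h.uU h.un]
  have k2 : c * (y * c')⁻¹ = y * (c * c'⁻¹) := by
    rw [mul_inv_rev, inv_eq_of_mul_eq_one_right (h.toCc.sqV h.qV), ← mul_assoc,
      mul_mem h.cC (inv_mem h.cC') y h.qV]
  rcases h.P.fx _ (CV h.pV hr) with a | a <;> rcases h.P'.fx _ (CV h.qV hr) with b | b
  · exact .inl ⟨a, b⟩
  · rw [a, b, k2] at k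
    rcases h.P'.fx _ (CV h.qV (nC' (h.toCc.Un h.pr h.uU) hr)) with j | j <;> rw [j] at k
    · exact absurd (by simpa [h.rel] using k) h.q1
    · exact absurd (by simpa [k1] using k) h.p1
  · rw [a, b, mul_assoc] at k
    rcases h.P'.fx _ (CV h.qV (nC' (h.toCc.Un h.pr h.uU) hr)) with j | j <;> rw [j] at k
    · exact absurd (by simpa [h.rel] using k) h.p1
    · exact absurd (by simpa [k1] using k) h.q1
  · exact .inr ⟨a, b⟩

theorem cB : c ∈ zpowers c ⊔ zpowers c' := mem_sup_left (mem_zpowers c)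
theorem cB' : c' ∈ zpowers c ⊔ zpowers c' := mem_sup_right (mem_zpowers c')
theorem zc : zpowers c ≤ 𝐂 (zpowers c') := zpowers_le.2 (mem_c_of_conj_eq (by rw [h.com, mul_inv_cancel_right]))
theorem memB (hx : x ∈ zpowers c ⊔ zpowers c') : ∃ a ∈ zpowers c, ∃ b ∈ zpowers c', a * b = x :=
  (mem_sup_of_le_normalizer (le_normalizer_of_le_centralizer h.zc)).1 hx
theorem BC : zpowers c ⊔ zpowers c' ≤ 𝐂 V := sup_le (zpowers_le.2 h.cC) (zpowers_le.2 h.cC')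
theorem Bc : zpowers c ⊔ zpowers c' ≤ 𝐂 (zpowers c) :=
  sup_le (zpowers_le.2 (mem_c_of_conj_eq (by simp))) (le_centralizer_iff.1 h.zc)

theorem VB : V ≤ zpowers c ⊔ zpowers c' := fun v hv => by
  have a : z ∈ zpowers c ⊔ zpowers c' := h.P.cc ▸ mul_mem h.cB h.cB
  have b : y ∈ zpowers c ⊔ zpowers c' := h.P'.cc ▸ mul_mem h.cB' h.cB'
  rcases h.toCc.cases h.pr hv with rfl | rfl | rfl | rfl
  exacts [one_mem _, a, b, mul_mem a b]

theorem UB (hx : x ∈ Up V z) (cx : x ∈ 𝐂 V) : x ∈ zpowers c ⊔ zpowers c' :=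
  (h.P.u0 x hx cx).elim (fun j => h.VB j) fun j => by simpa using mul_mem (h.VB j) (inv_mem h.cB)
theorem UB' (hx : x ∈ Up V y) (cx : x ∈ 𝐂 V) : x ∈ zpowers c ⊔ zpowers c' :=
  (h.P'.u0 x hx cx).elim (fun j => h.VB j) fun j => by simpa using mul_mem (h.VB j) (inv_mem h.cB')

theorem su (hs : s ∈ S) (n : s ∉ 𝐂 V) : s * u ∈ 𝐂 V :=
  h.toCc.two h.pr (h.toCc.S_le hs) (h.le hs) n (h.toCc.Uc h.pr h.uU) (h.toCc.Un h.pr h.uU) h.un
theorem uc : u * c * u⁻¹ = c := by rw [h.P.cen u h.uU, mul_inv_cancel_right]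
theorem suc (e : s * c * s⁻¹ = c) : s * u * c * (s * u)⁻¹ = c := by
  rw [show s * u * c * (s * u)⁻¹ = s * (u * c * u⁻¹) * s⁻¹ by group, h.uc, e]

theorem BS : zpowers c ⊔ zpowers c' ≤ S := by
  have n : ∀ g, g * c * g⁻¹ ∈ zpowers c ⊔ zpowers c' → g * c' * g⁻¹ ∈ zpowers c ⊔ zpowers c' →
      g ∈ 𝐍 (zpowers c ⊔ zpowers c') := fun g a b => mem_normalizer_of_cj_le (by
    rw [cj_sup, cj_zpowers, cj_zpowers]; exact sup_le (zpowers_le.2 a) (zpowers_le.2 b))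
  have n1 : 𝐂 V ≤ 𝐍 (zpowers c ⊔ zpowers c') := fun g hg => by
    rcases h.dich hg with ⟨a, b⟩ | ⟨a, b⟩
    · exact n g (a.symm ▸ h.cB) (b.symm ▸ h.cB')
    · exact n g (a ▸ mul_mem (h.VB h.pV) h.cB) (b ▸ mul_mem (h.VB h.qV) h.cB')
  refine h.syl.le_of_le_normalizer (isPGroup_sup ((h.toCc.UP h.pV h.p1).to_le (zpowers_le.2 h.P.cU))
    ((h.toCc.UP h.qV h.q1).to_le (zpowers_le.2 h.P'.cU)) (le_normalizer_of_le_centralizer h.zc)) le_top fun s hs => ?_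
  by_cases j : s ∈ 𝐂 V
  · exact n1 j
  · simpa using mul_mem (n1 (h.su hs j)) (inv_mem (n u (h.uc.symm ▸ h.cB) (h.rel ▸ mul_mem h.cB (inv_mem h.cB'))))

theorem adjB (hr : r ∈ 𝐂 V) : ∃ w ∈ zpowers c ⊔ zpowers c', u * (w * r) = w * r * u ∧ u' * (w * r) = w * r * u' := by
  have k : ∀ p ∈ V, ∀ r ∈ 𝐂 V, ∀ x ∈ Up V p, x * x = 1 → x ∉ 𝐂 V →
      r * x * r⁻¹ ∈ Up V p ∧ r * x * r⁻¹ * (r * x * r⁻¹) = 1 ∧ r * x * r⁻¹ ∉ 𝐂 V := fun p hp r hr x hx xx n =>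
    ⟨conj_mem_of_mem_normalizer (CVn hp hr) hx, by rw [conj_mul, xx]; simp,
      fun j => n (by simpa [mul_assoc] using mul_mem (mul_mem (inv_mem hr) j) hr)⟩
  have k2 : ∀ r x w : G, r * x * r⁻¹ = w * x * w⁻¹ → x * (w⁻¹ * r) = w⁻¹ * r * x := fun r x w e => by
    calc _ = w⁻¹ * (w * x * w⁻¹) * r := by group
      _ = _ := by rw [← e]; group
  obtain ⟨a1, a2, a3⟩ := k z h.pV r hr u h.uU h.uu h.un
  obtain ⟨w, hw, e⟩ := h.cu _ a1 a2 a3
  obtain ⟨b1, b2, b3⟩ := k y h.qV _ (mul_mem (inv_mem (zpowers_le.2 h.cC' hw)) hr) u' h.uU' h.uu' h.un'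
  obtain ⟨w', hw', e'⟩ := h.cu' _ b1 b2 b3
  refine ⟨w'⁻¹ * w⁻¹, mul_mem (inv_mem (mem_sup_left hw')) (inv_mem (mem_sup_right hw)), ?_, ?_⟩
  · rw [mul_assoc w'⁻¹]
    exact (Commute.mul_right (mem_c_of_conj_eq h.uc _ (inv_mem hw')).symm (k2 _ _ _ e)).eq
  · rw [mul_assoc w'⁻¹]; exact k2 _ _ _ e'

theorem trivB (hx : x ∈ S) (cx : x ∈ 𝐂 V) (e : x * c * x⁻¹ = c) (e1 : u * x = x * u) (e2 : u' * x = x * u') : x = 1 := by
  have k : x ∈ 𝐂 (zpowers c ⊔ zpowers c') := by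
    rw [centralizer_sup']
    exact ⟨mem_c_of_conj_eq e, mem_c_of_conj_eq ((h.dich cx).resolve_right fun j => h.nz (j.1.symm.trans e)).2⟩
  exact h.toCc.triv' h.uU h.un h.uU' h.un' hx e1 e2 (fun w a b => k w (h.UB a b)) fun w a b => k w (h.UB' a b)

theorem cenB (hx : x ∈ S) (cx : x ∈ 𝐂 V) (e : x * c * x⁻¹ = c) : x ∈ zpowers c ⊔ zpowers c' := by
  obtain ⟨w, hw, e1, e2⟩ := h.adjB cx
  exact eq_inv_of_mul_eq_one_right (h.trivB (mul_mem (h.BS hw) hx) (mul_mem (h.BC hw) cx)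
    (conj_eq_of_mem_c (mul_mem (h.Bc hw) (mem_c_of_conj_eq e))) e1 e2) ▸ inv_mem hw

theorem sqB (hx : x ∈ zpowers c ⊔ zpowers c') (e : x * x = 1) : x ∈ V := by
  obtain ⟨a, ha, b, hb, rfl⟩ := h.memB hx
  have aU := zpowers_le.2 h.P.cU ha
  have bU := zpowers_le.2 h.P'.cU hb
  rw [mul_assoc, ← mul_assoc b, h.zc ha b hb, mul_assoc, ← mul_assoc] at e
  have k := h.toCc.zp h.pr (h.toCc.Usq h.pr aU) (eq_inv_of_mul_eq_one_left e ▸ inv_mem (h.toCc.Usq h.pr.symm bU))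
  exact mul_mem (h.P.sqV h.four h.p1 aU (zpowers_le.2 h.cC ha) k)
    (h.P'.sqV h.four h.q1 bU (zpowers_le.2 h.cC' hb) (by rwa [k, one_mul] at e))

theorem memU (hs : s ∈ S) (ht : s ∈ Tp V z) (e : s * c * s⁻¹ = c) : s ∈ Up V z := by
  have k : ∀ s ∈ S, s ∈ Tp V z → s * c * s⁻¹ = c → s ∈ 𝐂 V → s ∈ Up V z := fun s hs ht e j => by
    obtain ⟨a, ha, b, hb, rfl⟩ := h.memB (h.cenB hs j e)
    have aU := zpowers_le.2 h.P.cU ha
    have bT : b ∈ Tp V z := by simpa using mul_mem (inv_mem (h.toCc.UT h.pV h.p1 aU)) ht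
    exact mul_mem aU (h.toCc.inj h.pr (zpowers_le.2 h.P'.cU hb) h.uU h.un
      (VU h.qV (zpowers_le.2 h.pV (cm_symm ((mem_Tp.1 bT).2 u h.uU)))))
  by_cases j : s ∈ 𝐂 V
  · exact k s hs ht e j
  · simpa using mul_mem (k _ (mul_mem hs (h.toCc.US h.uU)) (mul_mem ht (h.toCc.UT h.pV h.p1 h.uU)) (h.suc e) (h.su hs j))
      (inv_mem h.uU)

theorem exists_r : ∃ r ∈ S, r ∈ 𝐂 V ∧ r ∉ zpowers c ⊔ zpowers c' := by
  by_contra! k
  refine h.rk fun A hA e => le_of_not_gt fun c4 => ?_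
  have ea : IsElementaryAbelian 2 A := ⟨hA, e⟩
  obtain ⟨g, -, l⟩ := h.syl.exists_cj_le (elemAb_isPGroup ea) le_top
  rw [← card_cj g] at c4
  replace ea := elemAb_cj ea g
  generalize cj g A = E at *
  have l2 : 𝐂 V ⊓ E ≤ V := fun x hx => h.sqB (k x (l hx.2) hx.1) (by simpa [pow_two] using ea.2 x hx.2)
  have n : ¬ E ≤ 𝐂 V := fun j => by
    have := card_le_of_le ((le_inf j le_rfl).trans l2)
    rw [h.four.card] at this; omega
  have k1 := card_mul_relIndex (𝐂 V) E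
  rw [h.four.relIndex_two (elemAb_isPGroup ea) (l.trans h.le) n] at k1
  rcases h.four.card_cases l2 with j | j | j
  · rw [j, card_bot] at k1; omega
  · omega
  · exact n ((elemAb_le_centralizer ea).trans (centralizer_anti (j.ge.trans inf_le_right)))

theorem fus (hx : x ∈ S) (e : x * c * x⁻¹ = c) (xx : x * x = 1) (x1 : x ≠ 1) : ∃ g, g * x * g⁻¹ = z := by
  by_cases j : x ∈ 𝐂 V
  · obtain ⟨g, -, e⟩ := h.toCc.trans_V (h.sqB (h.cenB hx j e) xx) x1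
    exact ⟨g⁻¹, by rw [← e]; group⟩
  obtain ⟨a, ha, b, hb, k⟩ := h.memB (h.cenB (mul_mem hx (h.toCc.US h.uU)) (h.su hx j) (h.suc e))
  have aU := zpowers_le.2 h.P.cU ha
  have bU := zpowers_le.2 h.P'.cU hb
  obtain rfl : x = a * b * u⁻¹ := by rw [k, mul_inv_cancel_right]
  have c1 : Commute u a := (mem_c_of_conj_eq h.uc a ha).symm
  have c2 : Commute b a := h.zc ha b hb
  have k2 : a * a * b * (u⁻¹ * b * u) = 1 := by
    calc _ = a * ((a * b * u⁻¹) * b) * u := by group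
      _ = a * ((b * u⁻¹ * a) * b) * u := by rw [(c2.mul_left c1.inv_left).eq, mul_assoc a b]
      _ = a * b * u⁻¹ * (a * b * u⁻¹) * (u * u) := by group
      _ = 1 := by rw [xx, h.uu, one_mul]
  have k3 : b ∈ Up V z := h.toCc.inj h.pr bU (inv_mem h.uU) (fun i => h.un (inv_mem_iff.1 i)) (by
    rw [commutatorElement_def, inv_inv, eq_inv_of_mul_eq_one_right k2]
    exact mul_mem (inv_mem (mul_mem (VU h.qV (zpowers_le.2 h.pV (h.toCc.Usq h.pr aU))) bU)) (inv_mem bU))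
  obtain ⟨w, -, e⟩ := h.cu _ (mul_mem (mul_mem aU k3) (inv_mem h.uU)) xx j
  obtain ⟨g, e'⟩ := h.uz
  exact ⟨g * w⁻¹, by rw [e, ← e']; group⟩

theorem inv_c (hs : s ∈ 𝐂 (zpowers z)) (hr : r ∈ 𝐂 (zpowers z)) (e : s * c * s⁻¹ ≠ c) (e' : r * c * r⁻¹ ≠ c) :
    s * r * c * (s * r)⁻¹ = c := by
  rw [show s * r * c * (s * r)⁻¹ = s * (r * c * r⁻¹) * s⁻¹ by group, (h.P.fx r hr).resolve_left e', ← conj_mul,
    (h.P.fx s hs).resolve_left e, conj_eq_of_mem_c hs, ← mul_assoc, h.toCc.zz, one_mul]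

theorem a4 {a b k : G} (ha : a ∈ S) (hb : b ∈ S) (hk : k ∈ 𝐂 (zpowers z)) (aa : a * a = 1) (e1 : k * a * k⁻¹ = b)
    (e2 : k * b * k⁻¹ = a * b) (e3 : k * (a * b) * k⁻¹ = a) : a ∈ zpowers z := by
  have key : ∀ K : Subgroup G, k ∈ 𝐍 K → (a ∉ K → b ∉ K → a * b ∈ K) → a ∈ K ∧ b ∈ K := fun K n t => by
    have : a ∈ K := by_contra fun j => j (e3 ▸ conj_mem_of_mem_normalizer n (t j fun i => j (by
      simpa [← e1, mul_assoc] using conj_mem_of_mem_normalizer' n i)))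
    exact ⟨this, e1 ▸ conj_mem_of_mem_normalizer n this⟩
  obtain ⟨t1, t2⟩ := key _ (c_le_n_Tp V z hk) (h.twoS a ha b hb)
  obtain ⟨u1, u2⟩ := key _ (c_le_n_Up V z hk) fun i j => h.memU (mul_mem ha hb) (mul_mem t1 t2)
    (h.inv_c (Tp_le_c t1) (Tp_le_c t2) (mt (h.memU ha t1) i) (mt (h.memU hb t2) j))
  have bb : b * b = 1 := by rw [← e1, conj_mul, aa]; simp
  have n := centralizer_le_normalizer _ hk
  rcases h.nosum a u1 b u2 aa bb (by rw [← e2, conj_mul, bb]; simp) with j | j | j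
  · exact j
  · simpa [← e1, mul_assoc] using conj_mem_of_mem_normalizer' n j
  · exact e3 ▸ conj_mem_of_mem_normalizer n j

theorem main : False := by
  obtain ⟨r₀, h1, h2, h3⟩ := h.exists_r
  obtain ⟨w, hw, e1, e2⟩ := h.adjB h2
  have rS := mul_mem (h.BS hw) h1
  have rC := mul_mem (h.BC hw) h2
  have rB : w * r₀ ∉ zpowers c ⊔ zpowers c' := fun j => h3 (by simpa using mul_mem (inv_mem hw) j)
  generalize w * r₀ = r at *
  have rc : r * c * r⁻¹ ≠ c := mt (h.cenB rS rC) rB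
  have rH := CV h.pV rC
  have rr : r * r = 1 := h.trivB (mul_mem rS rS) (mul_mem rC rC) (h.inv_c rH rH rc rc)
    (Commute.mul_right e1 e1).eq (Commute.mul_right e2 e2).eq
  have r1 : r ≠ 1 := fun j => rB (j ▸ one_mem _)
  have O : r ∈ pResidualOf 2 (⊤ : Subgroup G) := by
    haveI := h.ng.simple
    rcases (normal_of_top_le_normalizer (le_normalizer_pResidualOf 2 (⊤ : Subgroup G))).eq_bot_or_eq_top with j | j
    · exact absurd (le_top.trans (h.syl.le_of_pResidualOf_le (j ▸ bot_le) h.le)) h.nH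
    · exact j.ge (mem_top r)
  obtain ⟨t, t1, t2⟩ := thompson_two (S := S) (M := 𝐂 (zpowers c)) (T := zpowers r)
    (relIndex_top_right S ▸ h.syl.not_dvd_relIndex) (relIndex_eq_two_iff.2 ⟨r, rS, fun b hb => by
      by_cases j : b ∈ 𝐂 (zpowers c)
      · exact .inr ⟨j, fun i => rc (conj_eq_of_mem_c (by simpa using mul_mem (inv_mem j) i))⟩
      · exact .inl ⟨mem_c_of_conj_eq (h.inv_c (h.toCc.S_le hb) rH (mt mem_c_of_conj_eq j) rc), j⟩⟩)
    (by rw [pow_two, rr]) O (isPGroup_zpowers (k := 1) (by simpa [pow_two] using rr)) (mem_zpowers r)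
    (mem_c_of_conj_eq (by simp))
  obtain ⟨g₀, e⟩ := h.fus (t2 (conj_mem_cj t (mem_zpowers r))) (conj_eq_of_mem_c t1) (by rw [conj_mul, rr]; simp)
    (conj_ne_one t r1)
  have e' : g₀ * t * r * (g₀ * t)⁻¹ = z := by rw [← e]; group
  generalize g₀ * t = g at e'
  have hH : ∀ x, x * r = r * x → g * x * g⁻¹ ∈ 𝐂 (zpowers z) := fun x j => by
    rw [← e', ← cj_zpowers, ← cj_centralizer, conj_mem_cj_iff]
    exact mem_c_of_conj_eq (by rw [j, mul_inv_cancel_right])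
  obtain ⟨x, hx, l⟩ := (h.syl.mono h.toCc.S_le le_top).exists_cj_le (isPGroup_cj g h.four.isP) (by
    rintro _ ⟨v, hv, rfl⟩; exact hH v (rC v hv))
  rw [← cj_mul] at l
  have cv : ∀ a b : G, x * g * a * (x * g)⁻¹ * (x * g * b * (x * g)⁻¹) * (x * g * a * (x * g)⁻¹)⁻¹ =
      x * g * (a * b * a⁻¹) * (x * g)⁻¹ := fun a b => by group
  have uz := conj_eq_of_mem_c (h.toCc.Uc h.pr h.uU)
  have uy := h.toCc.Umov h.pr h.uU h.un
  have k1 : u * u' * z * (u * u')⁻¹ = y := by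
    rw [show u * u' * z * (u * u')⁻¹ = u * (u' * z * u'⁻¹) * u⁻¹ by group, h.toCc.Umov h.pr.symm h.uU' h.un', ← conj_mul,
      uz, uy, mul_assoc, h.toCc.cV h.qV h.pV, ← mul_assoc, h.toCc.zz, one_mul]
  have k2 : u * u' * y * (u * u')⁻¹ = z * y := by
    rw [show u * u' * y * (u * u')⁻¹ = u * (u' * y * u'⁻¹) * u⁻¹ by group,
      conj_eq_of_mem_c (h.toCc.Uc h.pr.symm h.uU'), uy]
  have k3 : u * u' * (z * y) * (u * u')⁻¹ = z := by
    rw [← conj_mul, k1, k2, h.toCc.cV h.pV h.qV, ← mul_assoc, h.toCc.sqV h.qV, one_mul]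
  have := h.a4 (k := x * g * (u * u') * (x * g)⁻¹) (l (conj_mem_cj _ h.pV)) (l (conj_mem_cj _ h.qV))
    (by simpa [mul_assoc] using mul_mem (mul_mem hx (hH _ (Commute.mul_left e1 e2).eq)) (inv_mem hx))
    (by rw [conj_mul, h.toCc.zz]; simp) (by rw [cv, k1]) (by rw [cv, k2, conj_mul]) (by rw [conj_mul, cv, k3])
  rcases mem_two h.toCc.zz this with j | j
  · exact conj_ne_one _ h.p1 j
  · have j2 : x * g * r * (x * g)⁻¹ = z := by
      rw [show x * g * r * (x * g)⁻¹ = x * (g * r * g⁻¹) * x⁻¹ by group, e', conj_eq_of_mem_c hx]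
    have : z = r := by simpa using j.trans j2.symm
    exact rB (this ▸ h.VB h.pV)

end E7

namespace Cc
variable [Finite G] {S V : Subgroup G} {z y : G} (h : Cc S V z y)
include h

section
variable {Γ W : Type*} [Group Γ] [Finite Γ] [AddCommGroup W] [Finite W] [DistribMulAction Γ W] {mk : G → W}
  {ac : G → Γ} (m : Md (𝐂 (zpowers z)) (Up V z) z mk ac) {β : W → W → ZMod 2} {Q : W → ZMod 2}
  (f : Fm (Up V z) mk β Q) {A₁ : Subgroup Γ} {α η : Γ}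
include m f

theorem c7 (et : Et (As m y) A₁ α η) (hA : ∀ b ∈ As m y, b = 1 ∨ b = α)
    (hD : ∀ d ∈ m.im (Up V y), d = 0 ∨ d = mk y) : False := by
  have r := h.pr
  have r' := (h.thr r).symm
  have o := h.mo m f
  have yU := VU h.pV h.qV
  obtain ⟨γ, hu⟩ := o.exO
  obtain ⟨g, hg, rfl⟩ := m.ac_surj γ
  rw [m.smul g hg y yU] at hu
  have uU := m.cU hg yU
  have uu : g * y * g⁻¹ * (g * y * g⁻¹) = 1 := by rw [conj_mul, h.sqV h.qV]; simp
  have uz : ∃ k, k * (g * y * g⁻¹) * k⁻¹ = z := by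
    obtain ⟨k, -, e⟩ := h.trans_V h.qV h.q1
    exact ⟨k⁻¹ * g⁻¹, by rw [← e]; group⟩
  generalize g * y * g⁻¹ = u at *
  have un := (h.β1 m f uU).1 hu
  have q0 : ∀ x ∈ Up V z, x * x = 1 → Q (mk x) = 0 := fun x hx e => by rw [f.q x hx, sg_zero, e]
  have qu := q0 u uU uu
  have pt : ∀ c ∈ Up V z, mk c = α • mk u + mk u + mk y → Pt V z c := fun c hc e => by
    refine ⟨hc, (mem_two h.zz (h.Usq r hc)).resolve_left fun j => ?_, fun w hw => ?_, fun x hx => ?_, fun w hw cw => ?_⟩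
    · have := o.qc et.aA et.a1 hA hD hu et qu
      rw [← e, q0 c hc j] at this; exact zero_ne_one this
    · have := o.rad et.aA et.a1 hA hD hu et (mk w)
      rw [← e, f.b c hc w hw, χ_zero] at this; exact this.symm
    · have := (m.fix hx hc).1 (e ▸ o.fixc et.aA et.a1 hA hD hu et (ac x))
      refine (mem_two h.zz this).imp (fun j => ?_) fun j => ?_
      · rwa [commutatorElement_def, mul_inv_eq_one] at j
      · rwa [commutatorElement_def, mul_inv_eq_iff_eq_mul] at j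
    · have := o.w0 et.aA et.a1 hA hD hu ((h.β0 m f hw).2 cw)
      by_cases j : mk w = 0 ∨ mk w = mk y
      · exact .inl (h.memV m hw j)
      refine .inr (h.memV m (mul_mem hw hc) ?_)
      rw [m.mk_mul w hw c hc, e]
      have := m.two (α • mk u + mk u); have := m.two (mk y)
      grind
  obtain ⟨c₀, hc₀, e₀⟩ := m.mk_surj (α • mk u + mk u + mk y)
  obtain ⟨t, ht, nt⟩ := h.ex r'.pV r'.p1
  have tz : t * z * t⁻¹ = y := by
    rw [h.Umov r' ht nt, mul_assoc, h.cV h.qV h.pV, ← mul_assoc, h.zz, one_mul]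
  have tM := h.Un r' ht
  have P' := (pt c₀ hc₀ e₀).conj tM tz
  have tc : t * (t * c₀ * t⁻¹) * t⁻¹ = c₀ := by
    calc _ = t * t * c₀ * (t * t)⁻¹ := by group
      _ = _ := by rw [(pt c₀ hc₀ e₀).cV h.pV _ (zpowers_le.2 r'.pV (h.Usq r' ht)), mul_inv_cancel_right]
  generalize t * c₀ * t⁻¹ = c' at *
  have cC := P'.cV h.qV
  have cH := CV h.pV cC
  have e1 : ac c' = α := (hA _ ((h.mem_As m).2 ⟨c', P'.cU, cC, rfl⟩)).resolve_left fun j => by
    have k := h.inj r P'.cU uU un (VU h.qV (zpowers_le.2 h.pV (cm_symm ((m.ac_eq_one cH).1 j u uU))))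
    exact h.q1 (P'.cc.symm.trans (h.Dsq r k P'.cU))
  have x1 := cmR (m.nU cH) uU
  have e2 : mk (⁅u, c'⁆ * y) = α • mk u + mk u + mk y := by
    rw [m.mk_mul _ x1 _ yU, ← commutatorElement_inv, m.mk_inv (cmL (m.nU cH) uU), neg_eq_of_add_eq_zero_left (m.two _),
      h.cmk m cH uU, e1]
  have P := pt _ (mul_mem x1 yU) e2
  have cu : ∀ x ∈ Up V z, x * x = 1 → x ∉ 𝐂 V → ∃ w ∈ zpowers c', x = w * u * w⁻¹ := fun x hx xx n => by
    have k : ∀ a ∈ Up V z, a ∉ 𝐂 V → mk x = mk a → x = a ∨ x = y * a * y⁻¹ := fun a ha na e =>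
      (mem_two h.zz ((m.mk_eq hx ha).1 e)).imp mul_inv_eq_one.1 fun j => by
        have := h.Umov r ha na
        rw [mul_inv_eq_iff_eq_mul] at this j
        rw [j, inv_eq_of_mul_eq_one_right (h.sqV h.qV), mul_assoc, this, ← mul_assoc, ← mul_assoc, h.cV h.qV h.pV,
          mul_assoc z, h.sqV h.qV, mul_one]
    have yc : y ∈ zpowers c' := P'.cc ▸ mul_mem (mem_zpowers _) (mem_zpowers _)
    have b := (h.β1 m f hx).2 n
    rcases o.sing et.aA et.a1 hA hD hu et qu (q0 x hx xx) with j | j | j | j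
    · rw [j, o.β0] at b; exact absurd b zero_ne_one
    · rw [j, o.βs] at b; exact absurd b zero_ne_one
    · rcases k u uU un j with i | i
      exacts [⟨1, one_mem _, by simp [i]⟩, ⟨y, yc, i⟩]
    · rw [← e1, m.smul c' cH u uU] at j
      rcases k _ (m.cU cH uU) (fun i => un (by simpa [mul_assoc] using mul_mem (mul_mem (inv_mem cC) i) cC)) j with i | i
      exacts [⟨c', mem_zpowers _, i⟩, ⟨y * c', mul_mem yc (mem_zpowers _), by rw [i]; group⟩]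
  refine E7.main (u := u) (u' := t * u * t⁻¹) ⟨h, uU, uu, un, uz, cjU tz uU, by rw [conj_mul, uu]; simp,
    fun j => un (by simpa [mul_assoc] using nC' tM j), P, P', ?_, cu, fun x hx xx n => ?_, fun a ha b hb aa bb ab => ?_,
    fun a ha b hb na nb => ?_⟩
  · calc _ = ⁅u, c'⁆ * (y * c'⁻¹) * (c' * (y⁻¹ * c')) := by simp only [commutatorElement_def]; group
      _ = _ := by
        rw [inv_eq_of_mul_eq_one_right (h.sqV h.qV), cC y h.qV, ← mul_assoc c', P'.cc, h.sqV h.qV, mul_one, mul_assoc]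
  · obtain ⟨w, hw, e⟩ := cu _ (cjU' tz hx) (by
      rw [show t⁻¹ * x * t * (t⁻¹ * x * t) = t⁻¹ * (x * x) * t by group, xx]; simp)
      fun j => n (by simpa [mul_assoc] using nC tM j)
    refine ⟨t * w * t⁻¹, ?_, by
      calc x = t * (t⁻¹ * x * t) * t⁻¹ := by group
        _ = _ := by rw [e]; group⟩
    have k := conj_mem_cj t hw
    rw [cj_zpowers, tc] at k
    refine zpowers_le.2 ?_ k
    have := (m.mk_eq hc₀ P.cU).1 (e₀.trans e2.symm)
    have := mul_mem (zpowers_le.2 (P.cc ▸ mul_mem (mem_zpowers _) (mem_zpowers _)) this) (mem_zpowers (⁅u, c'⁆ * y))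
    rwa [inv_mul_cancel_right] at this
  · have := o.nosum et.aA et.a1 hA hD hu et qu (q0 a ha aa) (q0 b hb bb)
      (m.mk_mul a ha b hb ▸ q0 _ (mul_mem ha hb) ab)
    rwa [← m.mk_mul a ha b hb, m.mk_zero a ha, m.mk_zero b hb, m.mk_zero _ (mul_mem ha hb)] at this
  · have a1 := h.S_le ha
    have b1 := h.S_le hb
    rw [← ac_T m (mul_mem a1 b1), m.ac_mul a a1 b b1]
    exact o.twoS et.aA et.a1 hA hD hu et qu ((h.fix_M m a1).2 (h.le ha)) ((h.fix_M m b1).2 (h.le hb))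
      (mt (ac_T m a1).1 na) (mt (ac_T m b1).1 nb)
end

theorem main : False := by
  obtain ⟨Γ, W, _, _, _, _, _, mk, ac, m⟩ := exists_md' (fun _ => h.Uc h.pr) (fun _ a _ b => h.Ucm h.pr a b)
    (fun _ => h.Usq h.pr) (c_le_n_Up V z) le_rfl
  obtain ⟨β, Q, f⟩ := exists_fm m h.zz fun _ => h.Uc h.pr
  have o := h.mo m f
  obtain ⟨α, ha, a1⟩ : ∃ α ∈ As m y, α ≠ 1 := by
    by_contra! k
    exact o.k0 k
  obtain ⟨e, he, oe, hJ, A₁, et⟩ := h.lift m f ha a1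
  have k : ∀ s ∈ A₁, s = 1 := fun s hs => by_contra (h.c5 m f he et oe hJ hs)
  have hA : ∀ b ∈ As m y, b = 1 ∨ b = α := fun b hb => (et.two b hb).imp (k b) fun j => by
    rw [eq_inv_of_mul_eq_one_right (k _ j), inv_eq_of_mul_eq_one_right et.aa]
  exact h.c7 m f et hA fun d hd => by_contra fun j => o.c6 ha a1 hA hd (fun i => j (.inl i)) fun i => j (.inr i)

end Cc
end H120.FC
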