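import Cfsg.Agent.H28.SL2
import Cfsg.Agent.S0801

/-! Dickson's lemma over arbitrary fields, part 1: `⟨x(k), y(kζ)⟩` contains `x(R)`, `y(R)` for `R = k[ζ]`;
tools (`tv`, `dconj`, `Gen.finish`), the case of an infinite field `k` (generic Euclidean algorithm, `gen_infinite`)
and of a finite field (`gen_finite`). -/

set_option autoImplicit false
set_option linter.unusedSectionVars false
set_option linter.unusedVariables false

namespace H20.QP
open Subgroup H28 Polynomial

section
variable {R : Type*} [CommRing R]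

theorem sl2_inv_val (g : SL2 R) : (g⁻¹).1 = !![g.1 1 1, -g.1 0 1; -g.1 1 0, g.1 0 0] := by
  rw [Matrix.SpecialLinearGroup.coe_inv, Matrix.adjugate_fin_two]

/-- the transvection with direction `(p, q)` -/
def tv (p q a : R) : SL2 R := ⟨!![1 - a * p * q, a * p * p; -(a * q * q), 1 + a * p * q], by
  simp [Matrix.det_fin_two]; ring⟩

@[simp] theorem tv_val (p q a : R) : (tv p q a).1 = !![1 - a * p * q, a * p * p; -(a * q * q), 1 + a * p * q] := rfl

theorem tv_U (p q a s : R) : xU s * tv p q a * (xU s)⁻¹ = tv (p + s * q) q a := by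
  rw [← xU_neg]
  apply sl2_ext <;> simp [sl2_mul_val, Matrix.mul_apply, Fin.sum_univ_two] <;> ring
theorem tv_L (p q a s : R) : xL s * tv p q a * (xL s)⁻¹ = tv p (q + s * p) a := by
  rw [← xL_neg]
  apply sl2_ext <;> simp [sl2_mul_val, Matrix.mul_apply, Fin.sum_univ_two] <;> ring
theorem tv_zero (p a : R) : tv p 0 a = xU (a * p * p) := by apply sl2_ext <;> simp
theorem tv_zero' (q a : R) : tv 0 q a = xL (-(a * q * q)) := by apply sl2_ext <;> simp

/-- conjugation by `diag(u, 1)`, as a function -/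
def dconjF (u v : R) (h : u * v = 1) (g : SL2 R) : SL2 R :=
  ⟨!![g.1 0 0, u * g.1 0 1; v * g.1 1 0, g.1 1 1], by
    have := sl2_det g
    simp only [Matrix.det_fin_two, Matrix.of_apply, Matrix.cons_val', Matrix.cons_val_zero, Matrix.cons_val_one,
      Matrix.cons_val_fin_one]
    linear_combination this - g.1 0 1 * g.1 1 0 * h⟩
theorem dconjF_val (u v : R) (h : u * v = 1) (g : SL2 R) :
    (dconjF u v h g).1 = !![g.1 0 0, u * g.1 0 1; v * g.1 1 0, g.1 1 1] := rfl

/-- conjugation by `diag(u, 1)` -/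
def dconj (u v : R) (h : u * v = 1) : SL2 R →* SL2 R :=
  MonoidHom.mk' (dconjF u v h) fun g g' => by
    apply sl2_ext <;> simp [sl2_mul_val, dconjF_val, Matrix.mul_apply, Fin.sum_univ_two]
    · linear_combination - g.1 0 1 * g'.1 1 0 * h
    · ring
    · ring
    · linear_combination - g.1 1 0 * g'.1 0 1 * h

theorem dconj_val (u v : R) (h : u * v = 1) (g : SL2 R) :
    (dconj u v h g).1 = !![g.1 0 0, u * g.1 0 1; v * g.1 1 0, g.1 1 1] := rfl
theorem dconj_xU (u v : R) (h : u * v = 1) (t : R) : dconj u v h (xU t) = xU (u * t) := by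
  apply sl2_ext <;> simp [dconj_val]
theorem dconj_xL (u v : R) (h : u * v = 1) (t : R) : dconj u v h (xL t) = xL (v * t) := by
  apply sl2_ext <;> simp [dconj_val]
theorem dconj_tv (u v : R) (h : u * v = 1) (p q a : R) : dconj u v h (tv p q a) = tv (u * p) q (a * v) := by
  apply sl2_ext <;> simp [dconj_val]
  · linear_combination - a * p * q * h
  · linear_combination - a * p * p * u * h
  · ring
  · linear_combination - a * p * q * h
theorem dconj_tv' (u v : R) (h : u * v = 1) (p q a : R) : dconj u v h (tv p q a) = tv p (v * q) (a * u) := by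
  apply sl2_ext <;> simp [dconj_val]
  · linear_combination - a * p * q * h
  · ring
  · linear_combination - a * q * q * v * h
  · linear_combination - a * p * q * h

theorem map_val {S : Type*} [CommRing S] (f : R →+* S) (g : SL2 R) (i j : Fin 2) :
    (Matrix.SpecialLinearGroup.map f g).1 i j = f (g.1 i j) := rfl
theorem map_xU {S : Type*} [CommRing S] (f : R →+* S) (t : R) : Matrix.SpecialLinearGroup.map f (xU t) = xU (f t) := by
  apply sl2_ext <;> rw [map_val] <;> simp
theorem map_xL {S : Type*} [CommRing S] (f : R →+* S) (t : R) : Matrix.SpecialLinearGroup.map f (xL t) = xL (f t) := by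
  apply sl2_ext <;> rw [map_val] <;> simp

variable {X : Subgroup (SL2 R)}

theorem conj_mem_iff' {g x : SL2 R} (hg : g ∈ X) : g * x * g⁻¹ ∈ X ↔ x ∈ X := by
  rw [X.mul_mem_cancel_right (inv_mem hg), X.mul_mem_cancel_left hg]

theorem xL_iff (hw : wS ∈ X) {t : R} : xL t ∈ X ↔ xU t ∈ X := by
  rw [← conj_mem_iff' hw, wS_xL, xU_neg, inv_mem_iff]

theorem xU_sq_mul (hw : wS ∈ X) {u v r : R} (h : u * v = 1) (hu : xU u ∈ X) (hv : xU v ∈ X) (hr : xU r ∈ X) :
    xU (u * u * r) ∈ X := by
  have hv' : xL (-v) ∈ X := by rw [xL_neg]; exact inv_mem ((xL_iff hw).2 hv)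
  have h1 : xL (-r) ∈ X := by rw [xL_neg]; exact inv_mem ((xL_iff hw).2 hr)
  have h2 : tv 0 1 r ∈ X := by rw [tv_zero']; simpa using h1
  have h3 := (conj_mem_iff' hv').2 ((conj_mem_iff' hu).2 h2)
  rw [tv_U, tv_L, show (1 : R) + -v * (0 + u * 1) = 0 by linear_combination -h, tv_zero] at h3
  convert h3 using 2
  ring

theorem xL_of_xU {ζ η : R} (h : ζ * η = 1) (hU : ∀ r, xU r ∈ X) (hL : xL ζ ∈ X) (r : R) : xL r ∈ X := by
  have h2 : tv 1 0 (-(r * η * η)) ∈ X := by rw [tv_zero]; exact hU _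
  have h3 := (conj_mem_iff' (hU (-η))).2 ((conj_mem_iff' hL).2 h2)
  rw [tv_L, tv_U, show (1 : R) + -η * (0 + ζ * 1) = 0 by linear_combination -h, tv_zero'] at h3
  convert h3 using 2
  linear_combination -r * (ζ * η + 1) * h

end

/-- `char k ≠ 2` and `|k| > 3` -/
structure Big (k : Type*) [Field k] : Prop where
  two : (2 : k) ≠ 0
  ex : ∃ c : k, c ≠ 0 ∧ c ^ 2 ≠ 1

theorem big_of {k : Type*} [Field k] (hk2 : ringChar k ≠ 2) (hk3 : Nat.card k ≠ 3) : Big k := by
  have h2 : (2 : k) ≠ 0 := Ring.two_ne_zero hk2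
  refine ⟨h2, ?_⟩
  by_contra hc
  push Not at hc
  refine hk3 ?_
  have : (Set.univ : Set k) = {0, 1, -1} := by
    ext c
    by_cases h : c = 0
    · simp [h]
    · have := hc c h
      rw [sq, mul_self_eq_one_iff] at this
      simp [this]
  rw [← Set.ncard_univ, this, Set.ncard_eq_three]
  refine ⟨0, 1, -1, zero_ne_one, by simp, fun e => h2 ?_, rfl⟩
  linear_combination e

section
variable {k : Type*} [Field k] {R : Type*} [CommRing R] [Algebra k R] {X : Subgroup (SL2 R)} {ζ : R}

/-- `X` contains `x(k)` and `y(kζ)` -/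
structure Gen (k : Type*) [Field k] [Algebra k R] (ζ : R) (X : Subgroup (SL2 R)) : Prop where
  U : ∀ c : k, xU (algebraMap k R c) ∈ X
  L : ∀ c : k, xL (algebraMap k R c * ζ) ∈ X

theorem Gen.smul (h : Gen k ζ X) (hk : (2 : k) ≠ 0) (hw : wS ∈ X) (c : k) {r : R} (hr : xU r ∈ X) :
    xU (algebraMap k R c * r) ∈ X := by
  have sq : ∀ s : k, xU (algebraMap k R (s * s) * r) ∈ X := fun s => by
    by_cases hs : s = 0
    · simp [hs]
    · rw [map_mul]
      exact xU_sq_mul hw (v := algebraMap k R s⁻¹) (by rw [← map_mul, mul_inv_cancel₀ hs, map_one]) (h.U _) (h.U _) hr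
  have := mul_mem (sq ((c + 1) / 2)) (inv_mem (sq ((c - 1) / 2)))
  rw [← xU_neg, ← xU_add, ← sub_eq_add_neg, ← sub_mul, ← map_sub] at this
  convert this using 4
  field_simp
  ring

theorem Gen.finish (h : Gen k ζ X) (hk : (2 : k) ≠ 0) (hg : Algebra.adjoin k {ζ} = ⊤) (hw : wS ∈ X) {η : R}
    (hη : ζ * η = 1) (hη' : xU η ∈ X) (r : R) : xU r ∈ X := by
  have hζ : xU ζ ∈ X := (xL_iff hw).1 (by simpa using h.L 1)
  let A : Submodule k R :=
    { carrier := {r | xU r ∈ X}
      add_mem' := fun ha hb => by rw [Set.mem_setOf_eq, xU_add]; exact mul_mem ha hb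
      zero_mem' := by simp
      smul_mem' := fun c r hr => by rw [Set.mem_setOf_eq, Algebra.smul_def]; exact h.smul hk hw c hr }
  have hp : ∀ n : ℕ, ζ ^ n ∈ A ∧ ζ ^ (n + 1) ∈ A := fun n => by
    induction n with
    | zero => exact ⟨show xU _ ∈ X by simpa using h.U 1, show xU _ ∈ X by simpa using hζ⟩
    | succ n ih =>
      refine ⟨ih.2, ?_⟩
      have := xU_sq_mul hw hη hζ hη' ih.1
      rwa [show ζ * ζ * ζ ^ n = ζ ^ (n + 1 + 1) by ring] at this
  have : r ∈ Subalgebra.toSubmodule (Algebra.adjoin k {ζ}) := by rw [hg]; trivial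
  rw [Algebra.adjoin_eq_span] at this
  refine (Submodule.span_le (p := A)).2 (fun x hx => ?_) this
  obtain ⟨n, rfl⟩ := Submonoid.mem_closure_singleton.1 hx
  exact (hp n).1

theorem Gen.map {S : Type*} [CommRing S] [Algebra k S] (h : Gen k ζ X) (f : R →ₐ[k] S) :
    Gen k (f ζ) (X.map (Matrix.SpecialLinearGroup.map (f : R →+* S))) :=
  ⟨fun c => ⟨_, h.U c, by rw [map_xU]; simp⟩, fun c => ⟨_, h.L c, by rw [map_xL]; simp⟩⟩

/-- the subgroup generated by `x(k)` and `y(kζ)` -/
def X0 (k : Type*) [Field k] [Algebra k R] (ζ : R) : Subgroup (SL2 R) :=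
  closure (Set.range (fun c : k => xU (algebraMap k R c)) ∪ Set.range fun c : k => xL (algebraMap k R c * ζ))

theorem gen_X0 : Gen k ζ (X0 k ζ) :=
  ⟨fun c => subset_closure (Or.inl ⟨c, rfl⟩), fun c => subset_closure (Or.inr ⟨c, rfl⟩)⟩
theorem Gen.X0_le (h : Gen k ζ X) : X0 k ζ ≤ X := (closure_le _).2 (by
  rintro _ (⟨c, rfl⟩ | ⟨c, rfl⟩)
  · exact h.U c
  · exact h.L c)

theorem dconj_mem {c c' : k} (h : algebraMap k R c * algebraMap k R c' = 1) {g : SL2 R} (hg : g ∈ X0 k ζ) :
    dconj _ _ h g ∈ X0 k ζ := by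
  have : Gen k ζ ((X0 k ζ).comap (dconj _ _ h)) :=
    ⟨fun a => by rw [mem_comap, dconj_xU, ← map_mul]; exact gen_X0.U _,
      fun a => by rw [mem_comap, dconj_xL, ← mul_assoc, ← map_mul]; exact gen_X0.L _⟩
  exact this.X0_le hg

/-- the transvection group with direction `(p, q)` lies in `X0` -/
def Tv (k : Type*) [Field k] [Algebra k R] (ζ p q : R) : Prop := ∀ a : k, tv p q (algebraMap k R a) ∈ X0 k ζ

theorem Tv_U {p q : R} (s : k) : Tv k ζ (p + algebraMap k R s * q) q ↔ Tv k ζ p q :=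
  forall_congr' fun a => by rw [← tv_U, conj_mem_iff' (gen_X0.U s)]
theorem Tv_L {p q : R} (s : k) : Tv k ζ p (q + algebraMap k R s * ζ * p) ↔ Tv k ζ p q :=
  forall_congr' fun a => by rw [← tv_L, conj_mem_iff' (gen_X0.L s)]
theorem alg_inv {c : k} (hc : c ≠ 0) : algebraMap k R c * algebraMap k R c⁻¹ = 1 := by
  rw [← map_mul, mul_inv_cancel₀ hc, map_one]
theorem Tv.l {p q : R} (h : Tv k ζ p q) {c : k} (hc : c ≠ 0) : Tv k ζ (algebraMap k R c * p) q := fun a => by
  have := dconj_mem (alg_inv hc) (h (a * c))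
  rwa [dconj_tv, ← map_mul, mul_inv_cancel_right₀ hc] at this
theorem Tv.r {p q : R} (h : Tv k ζ p q) {c : k} (hc : c ≠ 0) : Tv k ζ p (algebraMap k R c * q) := fun a => by
  have := dconj_mem (by rw [mul_comm]; exact alg_inv hc) (h (a * c))
  rwa [dconj_tv', ← map_mul, mul_inv_cancel_right₀ hc] at this
theorem Tv_l {p q : R} {c : k} (hc : c ≠ 0) : Tv k ζ (algebraMap k R c * p) q ↔ Tv k ζ p q :=
  ⟨fun h => by
    have := h.l (inv_ne_zero hc)
    rwa [← mul_assoc, mul_comm (algebraMap k R c⁻¹), alg_inv hc, one_mul] at this, fun h => h.l hc⟩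
theorem Tv_r {p q : R} {c : k} (hc : c ≠ 0) : Tv k ζ p (algebraMap k R c * q) ↔ Tv k ζ p q :=
  ⟨fun h => by
    have := h.r (inv_ne_zero hc)
    rwa [← mul_assoc, mul_comm (algebraMap k R c⁻¹), alg_inv hc, one_mul] at this, fun h => h.r hc⟩

/-- `(p, ζ r)` behaves like `(1, 0)` -/
def Gd (k : Type*) [Field k] [Algebra k R] (ζ p r : R) : Prop := ∀ l, Tv k ζ (l * p) (l * (ζ * r)) ↔ Tv k ζ l 0

end

/-- coefficients vanish from `m` on -/
def DL {S : Type*} [CommRing S] (m : ℕ) (P : S[X]) : Prop := ∀ j, m ≤ j → P.coeff j = 0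

/-- the product of the pivots of the fraction-free Euclidean algorithm -/
noncomputable def piv {S : Type*} [CommRing S] : ℕ → S[X] → S[X] → S
  | 0, P, _ => P.coeff 0
  | m + 1, P, Q =>
    Q.coeff m * (C (Q.coeff m) * P - C (P.coeff (m + 1)) * (Q * X)).coeff m *
      piv m (C (Q.coeff m) * P - C (P.coeff (m + 1)) * (Q * X))
        (C ((C (Q.coeff m) * P - C (P.coeff (m + 1)) * (Q * X)).coeff m) * Q -
          C (Q.coeff m) * (C (Q.coeff m) * P - C (P.coeff (m + 1)) * (Q * X)))

theorem piv_map {S T : Type*} [CommRing S] [CommRing T] (f : S →+* T) (m : ℕ) (P Q : S[X]) :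
    piv m (P.map f) (Q.map f) = f (piv m P Q) := by
  induction m generalizing P Q with
  | zero => simp [piv]
  | succ m ih =>
    have e : C ((Q.map f).coeff m) * P.map f - C ((P.map f).coeff (m + 1)) * (Q.map f * X) =
        (C (Q.coeff m) * P - C (P.coeff (m + 1)) * (Q * X)).map f := by simp
    simp only [piv]
    rw [e, map_mul, map_mul, ← ih]
    generalize C (Q.coeff m) * P - C (P.coeff (m + 1)) * (Q * X) = P'
    simp

theorem exists_piv (k : Type*) [Field k] (m : ℕ) :
    ∃ P Q : k[X], DL (m + 1) P ∧ DL m Q ∧ P.coeff m = 1 ∧ piv m P Q ≠ 0 := by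
  induction m with
  | zero => exact ⟨1, 0, fun j hj => by rw [coeff_one, if_neg (by omega)], fun j _ => by simp, by simp, by simp [piv]⟩
  | succ m ih =>
    obtain ⟨P, Q, h1, h2, h3, h4⟩ := ih
    have q1 : (Q + P).coeff m = 1 := by rw [coeff_add, h2 m le_rfl, h3, zero_add]
    have d1 : DL (m + 1) (Q + P) := fun j hj => by rw [coeff_add, h2 j (by omega), h1 j hj, zero_add]
    have p1 : (P + (Q + P) * X).coeff (m + 1) = 1 := by rw [coeff_add, coeff_mul_X, q1, h1 _ le_rfl, zero_add]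
    refine ⟨P + (Q + P) * X, Q + P, fun j hj => ?_, d1, p1, ?_⟩
    · obtain ⟨j, rfl⟩ : ∃ i, j = i + 1 := ⟨j - 1, by omega⟩
      rw [coeff_add, coeff_mul_X, h1 _ (by omega), d1 _ (by omega), zero_add]
    · simp only [piv]
      rw [q1, p1]
      simpa [h3] using h4

section
variable {k : Type*} [Field k] {R : Type*} [CommRing R] [Algebra k R] {X : Subgroup (SL2 R)} {ζ : R}

theorem gd_of_piv (m : ℕ) (P Q : k[X]) (h1 : DL (m + 1) P) (h2 : DL m Q) (h : piv m P Q ≠ 0) :
    Gd k ζ (aeval ζ P) (aeval ζ Q) := by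
  induction m generalizing P Q with
  | zero =>
    have e1 : P = C (P.coeff 0) := by
      ext j
      cases j with
      | zero => simp
      | succ j => rw [h1 _ (by omega), coeff_C_succ]
    have e2 : Q = 0 := by ext j; exact h2 j (Nat.zero_le _)
    intro l
    rw [e1, e2, aeval_C, map_zero, mul_zero, mul_zero, mul_comm, Tv_l (show P.coeff 0 ≠ 0 from h)]
  | succ m ih =>
    simp only [piv] at h
    set q := Q.coeff m with hq
    set p := P.coeff (m + 1) with hp
    set P' := C q * P - C p * (Q * Polynomial.X) with hP'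
    set p' := P'.coeff m with hp'
    have d1 : DL (m + 1) P' := fun j hj => by
      obtain ⟨j, rfl⟩ : ∃ i, j = i + 1 := ⟨j - 1, by omega⟩
      rw [hP', coeff_sub, coeff_C_mul, coeff_C_mul, coeff_mul_X]
      rcases Nat.eq_or_lt_of_le hj with e | e
      · obtain rfl : m = j := by omega
        ring
      · rw [h1 _ (by omega), h2 _ (by omega)]; ring
    have d2 : DL m (C p' * Q - C q * P') := fun j hj => by
      rw [coeff_sub, coeff_C_mul, coeff_C_mul]
      rcases Nat.eq_or_lt_of_le hj with e | e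
      · subst e; ring
      · rw [h2 _ (by omega), d1 _ (by omega)]; ring
    have g := ih _ _ d1 d2 (right_ne_zero_of_mul h)
    have q0 : q ≠ 0 := left_ne_zero_of_mul (left_ne_zero_of_mul h)
    have p0 : p' ≠ 0 := right_ne_zero_of_mul (left_ne_zero_of_mul h)
    intro l
    rw [← g l, ← Tv_L (q := l * (ζ * aeval ζ (C p' * Q - C q * P'))) q,
      show l * (ζ * aeval ζ (C p' * Q - C q * P')) + algebraMap k R q * ζ * (l * aeval ζ P') =
        algebraMap k R p' * (l * (ζ * aeval ζ Q)) by simp; ring, Tv_r p0, ← Tv_U (p := l * aeval ζ P') p,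
      show l * aeval ζ P' + algebraMap k R p * (l * (ζ * aeval ζ Q)) = algebraMap k R q * (l * aeval ζ P) by
        simp [hP']; ring, Tv_l q0]

theorem gen_infinite [Infinite k] [FiniteDimensional k R] (hk : (2 : k) ≠ 0) (hg : Algebra.adjoin k {ζ} = ⊤)
    (h : Gen k ζ X) (μ : R) : xU μ ∈ X := by
  classical
  rcases subsingleton_or_nontrivial R with _ | _
  · rw [Subsingleton.elim μ 0, xU_zero]; exact one_mem _
  refine h.X0_le ?_
  have hi : IsIntegral k ζ := Algebra.IsIntegral.isIntegral ζ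
  have lift : ∀ r : R, ∃ P : k[X], DL (minpoly k ζ).natDegree P ∧ aeval ζ P = r := fun r => by
    have : r ∈ Algebra.adjoin k {ζ} := by rw [hg]; trivial
    rw [Algebra.adjoin_singleton_eq_range_aeval] at this
    obtain ⟨P, rfl⟩ := this
    refine ⟨P %ₘ minpoly k ζ, fun j hj => coeff_eq_zero_of_degree_lt ((degree_modByMonic_lt P (minpoly.monic hi)).trans_le
      (degree_le_natDegree.trans (by exact_mod_cast hj))), ?_⟩
    exact aeval_modByMonic_eq_self_of_root (minpoly.aeval k ζ)
  obtain ⟨P, Q, h1, h2, -, h4⟩ := exists_piv k (minpoly k ζ).natDegree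
  obtain ⟨P₁, d1, e1⟩ := lift (μ * aeval ζ P)
  obtain ⟨Q₁, d2, e2⟩ := lift (μ * aeval ζ Q)
  set n := (minpoly k ζ).natDegree
  let f : k[X] := piv n (P.map C + C Polynomial.X * P₁.map C) (Q.map C + C Polynomial.X * Q₁.map C)
  have hf : ∀ c, f.eval c = piv n (P + C c * P₁) (Q + C c * Q₁) := fun c => by
    have := piv_map (evalRingHom c) n (P.map C + C Polynomial.X * P₁.map C) (Q.map C + C Polynomial.X * Q₁.map C)
    rw [coe_evalRingHom] at this
    rw [← this]
    have e : (evalRingHom c).comp C = RingHom.id k := by ext; simp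
    simp [Polynomial.map_map, e]
  have f0 : f ≠ 0 := fun e => h4 (by simpa [e] using (hf 0).symm)
  have key : ∀ c, f.eval c ≠ 0 → ∀ a : k, xU (algebraMap k R a * (1 + algebraMap k R c * μ) *
      (1 + algebraMap k R c * μ)) ∈ X0 k ζ := fun c hc a => by
    have g1 := gd_of_piv (ζ := ζ) n _ _ (fun j hj => by rw [coeff_add, coeff_C_mul, h1 j hj, d1 j (by omega)]; simp)
      (fun j hj => by rw [coeff_add, coeff_C_mul, h2 j hj, d2 j hj]; simp) (hf c ▸ hc)
    have g2 := (g1 1).2 fun a => by rw [tv_zero]; simpa using gen_X0.U a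
    have g3 := (gd_of_piv (ζ := ζ) n P Q h1 h2 h4 (1 + algebraMap k R c * μ)).1 (by
      convert g2 using 1 <;> simp [e1, e2] <;> ring)
    rw [← tv_zero]; exact g3 a
  obtain ⟨c, hc⟩ := Infinite.exists_notMem_finset (insert 0 (f.roots.toFinset ∪ f.roots.toFinset.image Neg.neg))
  simp only [Finset.mem_insert, Finset.mem_union, Multiset.mem_toFinset, mem_roots f0, IsRoot.def, Finset.mem_image,
    not_or, not_exists, not_and] at hc
  have := mul_mem (key c hc.2.1 (4 * c)⁻¹) (inv_mem (key (-c) (fun e => hc.2.2 _ e (neg_neg c)) (4 * c)⁻¹))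
  rw [← xU_neg, ← xU_add] at this
  convert this using 2
  have h4 : (4 * c) ≠ 0 := mul_ne_zero (by rw [show (4 : k) = 2 * 2 by norm_num]; exact mul_ne_zero hk hk) hc.1
  have := alg_inv (R := R) h4
  simp only [map_mul, map_neg, map_ofNat] at this ⊢
  linear_combination -μ * this

end

theorem gen_finite {k : Type*} [Field k] {L : Type*} [Field L] [Algebra k L] [Finite L] (hk : Big k) {ζ : L}
    (h0 : ζ ≠ 0) (hg : Algebra.adjoin k {ζ} = ⊤) {X : Subgroup (SL2 L)} (h : Gen k ζ X) (μ : L) : xU μ ∈ X := by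
  obtain ⟨c, c0, hc⟩ : ∃ c : k, c ≠ 0 ∧ (algebraMap k L c * ζ) ^ 2 ≠ -1 := by
    by_cases e : ζ ^ 2 = -1
    · obtain ⟨c, c0, c1⟩ := hk.ex
      refine ⟨c, c0, fun e' => c1 ((algebraMap k L).injective ?_)⟩
      rw [mul_pow, e, mul_neg, neg_inj, mul_one] at e'
      rw [map_pow, e', map_one]
    · exact ⟨1, one_ne_zero, by simpa using e⟩
  set l := algebraMap k L c * ζ with hl
  have l0 : l ≠ 0 := mul_ne_zero ((_root_.map_ne_zero _).2 c0) h0
  let F := Subfield.closure ({l} : Set L)
  let lam : F := ⟨l, Subfield.subset_closure rfl⟩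
  have := Fintype.ofFinite F
  have h2 : (2 : F) ≠ 0 := fun e => hk.two ((algebraMap k L).injective (by
    have := congrArg F.subtype e
    simpa [map_ofNat] using this))
  have hgen : Subfield.closure ({lam} : Set F) = ⊤ := by
    rw [eq_top_iff]
    intro x _
    have : F ≤ (Subfield.closure ({lam} : Set F)).map F.subtype :=
      Subfield.closure_le.2 (Set.singleton_subset_iff.2 ⟨lam, Subfield.subset_closure rfl, rfl⟩)
    obtain ⟨y, hy, e⟩ := this x.2
    exact (Subtype.ext e : y = x) ▸ hy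
  have huv : l⁻¹ * l = 1 := inv_mul_cancel₀ l0
  let φ : SL2 F →* SL2 L := (dconj _ _ huv).comp (Matrix.SpecialLinearGroup.map F.subtype)
  have hφ : ∀ g, φ g ∈ X := by
    rcases Cfsg.Agent.S0801.result h2 lam (fun e => l0 (congrArg Subtype.val e)) hgen with ⟨e, -⟩ | ⟨-, e, -⟩
    · intro g
      have : ⊤ ≤ X.comap φ := by
        rw [← e, closure_le]
        rintro g (hg | hg)
        · rw [show g = xL 1 from Subtype.ext hg, SetLike.mem_coe, mem_comap]
          simp only [φ, MonoidHom.comp_apply, map_xL, dconj_xL, map_one, mul_one]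
          exact h.L c
        · rw [show g = xU lam from Subtype.ext hg, SetLike.mem_coe, mem_comap]
          simp only [φ, MonoidHom.comp_apply, map_xU, dconj_xU]
          rw [show l⁻¹ * F.subtype lam = algebraMap k L 1 by rw [map_one]; exact huv]
          exact h.U 1
      exact this trivial
    · exact absurd (by simpa using congrArg Subtype.val e) hc
  have hw : wS ∈ X := by
    have h1 := hφ (xL (-lam⁻¹))
    simp only [φ, MonoidHom.comp_apply, map_xL, dconj_xL] at h1
    rw [show l * F.subtype (-lam⁻¹) = -1 by simp [lam, l0]] at h1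
    have h2 : xU 1 ∈ X := by simpa using h.U 1
    rw [wS_eq]
    exact mul_mem (mul_mem h2 h1) h2
  have h1 := hφ (xU 1)
  simp only [φ, MonoidHom.comp_apply, map_xU, dconj_xU, map_one, mul_one] at h1
  refine h.finish hk.two hg hw (η := algebraMap k L c * l⁻¹) ?_ (h.smul hk.two hw c h1) μ
  rw [← mul_assoc, mul_comm ζ, mul_inv_cancel₀ l0]

theorem gen_field {k : Type*} [Field k] {L : Type*} [Field L] [Algebra k L] [FiniteDimensional k L] (hk : Big k)
    {ζ : L} (h0 : ζ ≠ 0) (hg : Algebra.adjoin k {ζ} = ⊤) {X : Subgroup (SL2 L)} (h : Gen k ζ X) : X = ⊤ := by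
  have hU : ∀ μ, xU μ ∈ X := fun μ => by
    rcases finite_or_infinite k with _ | _
    · have := Module.finite_of_finite k (M := L)
      exact gen_finite hk h0 hg h μ
    · exact gen_infinite hk.two hg h μ
  rw [eq_top_iff, ← upper_sup_lower]
  refine sup_le (fun g hg => ?_) fun g hg => ?_
  · obtain ⟨t, rfl⟩ := mem_upper.1 hg; exact hU t
  · obtain ⟨t, rfl⟩ := mem_lower.1 hg
    exact xL_of_xU (mul_inv_cancel₀ h0) hU (by simpa using h.L 1) t

end H20.QP
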