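import Cfsg.Agent.H20.QD1

/-! Dickson's lemma over rings, part 2: for a finite-dimensional commutative `k`-algebra `R = k[t]` with `t` a unit,
`⟨x(k), y(kt)⟩` contains `x(R)` (`gen_unit`), by induction along minimal ideals. -/

set_option autoImplicit false
set_option linter.unusedSectionVars false
set_option linter.unusedVariables false

namespace H20.QP
open Subgroup H28
open scoped commutatorElement

theorem sl2_normal {K : Type*} [Field K] {c : K} (h0 : c ≠ 0) (h1 : c ^ 2 ≠ 1) (N : Subgroup (SL2 K)) (hN : N.Normal) :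
    N = ⊤ ∨ N ≤ center (SL2 K) :=
  (r1_normal_group sl2_r1Group N hN).imp_left fun h =>
    eq_top_of_sup_nilpotent ⟨Matrix.SL2.commutator_eq_top h0 h1⟩ sl2_r1.nilpotent_left h

section
variable {R : Type*} [CommRing R] {X : Subgroup (SL2 R)}

/-- reduction modulo an ideal -/
abbrev red (I : Ideal R) : SL2 R →* SL2 (R ⧸ I) := Matrix.SpecialLinearGroup.map (Ideal.Quotient.mk I)

theorem red_eq {I : Ideal R} {g h : SL2 R} : red I g = red I h ↔ ∀ i j, g.1 i j - h.1 i j ∈ I := by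
  simp only [← Ideal.Quotient.eq]
  exact ⟨fun e i j => by rw [← map_val, ← map_val, e], fun e => sl2_ext (e _ _) (e _ _) (e _ _) (e _ _)⟩

theorem red_one {I : Ideal R} {g : SL2 R} :
    red I g = 1 ↔ g.1 0 0 - 1 ∈ I ∧ g.1 0 1 ∈ I ∧ g.1 1 0 ∈ I ∧ g.1 1 1 - 1 ∈ I := by
  rw [← map_one (red I), red_eq]
  simp [Fin.forall_fin_two, and_assoc]

theorem comm_red {I J : Ideal R} (h : ∀ a ∈ I, ∀ b ∈ J, a * b = 0) {n g : SL2 R} (hn : red I n = 1)
    (hg : red J g = 1) : Commute n g := by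
  obtain ⟨a1, a2, a3, a4⟩ := red_one.1 hn
  obtain ⟨b1, b2, b3, b4⟩ := red_one.1 hg
  apply sl2_ext <;> simp only [sl2_mul_val, Matrix.mul_apply, Fin.sum_univ_two]
  · linear_combination h _ a2 _ b3 - h _ a3 _ b2
  · linear_combination h _ a1 _ b2 + h _ a2 _ b4 - h _ a2 _ b1 - h _ a4 _ b2
  · linear_combination h _ a3 _ b1 + h _ a4 _ b3 - h _ a1 _ b3 - h _ a3 _ b4
  · linear_combination h _ a3 _ b2 - h _ a2 _ b3

theorem comm_xU {g : SL2 R} (h : Commute g (xU 1)) : g.1 1 0 = 0 ∧ g.1 1 1 = g.1 0 0 := by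
  have h1 := congrArg (fun x : SL2 R => x.1 0 0) h.eq
  have h2 := congrArg (fun x : SL2 R => x.1 0 1) h.eq
  simp [sl2_mul_val, Matrix.mul_apply, Fin.sum_univ_two] at h1 h2
  exact ⟨h1, by linear_combination -h2⟩

theorem comm_xL {g : SL2 R} {t η : R} (hη : t * η = 1) (h : Commute g (xL t)) : g.1 0 1 = 0 ∧ g.1 1 1 = g.1 0 0 := by
  have h1 := congrArg (fun x : SL2 R => x.1 0 0) h.eq
  have h2 := congrArg (fun x : SL2 R => x.1 1 0) h.eq
  simp [sl2_mul_val, Matrix.mul_apply, Fin.sum_univ_two] at h1 h2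
  exact ⟨by linear_combination η * h1 - g.1 0 1 * hη,
    by linear_combination η * h2 - (g.1 1 1 - g.1 0 0) * hη⟩

theorem commute_of_comm_xU (a b : R) : Commute (xU a) (xU b) := by
  rw [Commute, SemiconjBy, ← xU_add, ← xU_add, add_comm]
theorem commute_of_comm_xL (a b : R) : Commute (xL a) (xL b) := by
  rw [Commute, SemiconjBy, ← xL_add, ← xL_add, add_comm]

theorem sq_xU {g : SL2 R} (a : g.1 1 0 = 0) (b : g.1 1 1 = g.1 0 0) : g * g = xU ((g * g).1 0 1) := by
  have := sl2_det g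
  rw [a, b] at this
  apply sl2_ext <;> simp [Matrix.mul_apply, Fin.sum_univ_two, a, b] <;> linear_combination this
theorem sq_xL {g : SL2 R} (a : g.1 0 1 = 0) (b : g.1 1 1 = g.1 0 0) : g * g = xL ((g * g).1 1 0) := by
  have := sl2_det g
  rw [a, b] at this
  apply sl2_ext <;> simp [Matrix.mul_apply, Fin.sum_univ_two, a, b] <;> linear_combination this

theorem sq_comm {Y : Type*} [Group Y] {g y : Y} (h1 : Commute ⁅g, y⁆ g) (h2 : ⁅g, y⁆ * ⁅g, y⁆ = 1) :
    Commute (g * g) y := by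
  have e : g * y = ⁅g, y⁆ * y * g := by simp [commutatorElement_def]
  calc g * g * y = g * (⁅g, y⁆ * y * g) := by rw [mul_assoc, e]
    _ = ⁅g, y⁆ * (g * y) * g := by rw [← mul_assoc, ← mul_assoc, ← h1.eq, mul_assoc _ g y]
    _ = y * (g * g) := by rw [e, ← mul_assoc, ← mul_assoc, h2, one_mul, mul_assoc]

variable {k : Type*} [Field k] [Algebra k R] {t η : R}

theorem gen_central (h : Gen k t X) (hk : (2 : k) ≠ 0) (hg : Algebra.adjoin k {t} = ⊤) (hη : t * η = 1)
    {Y : Type*} [Group Y] (φ : SL2 R →* Y) (hU : ∀ μ, ∃ g ∈ X, φ g = φ (xU μ)) (hL : ∀ μ, ∃ g ∈ X, φ g = φ (xL μ))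
    (hc : ∀ n ∈ X, φ n = 1 → ∀ g ∈ X, Commute n g) (μ : R) : xU μ ∈ X := by
  have x1 : xU 1 ∈ X := by simpa using h.U 1
  have yt : xL t ∈ X := by simpa using h.L 1
  have i2 : algebraMap k R 2⁻¹ * 2 = 1 := by
    rw [← map_ofNat (algebraMap k R), ← map_mul, inv_mul_cancel₀ hk, map_one]
  set d := algebraMap k R 2⁻¹
  have sc : ∀ n ∈ X, φ n = 1 → n.1 0 1 = 0 ∧ n.1 1 0 = 0 ∧ n.1 1 1 = n.1 0 0 := fun n hn e =>
    ⟨(comm_xL hη (hc n hn e _ yt)).1, comm_xU (hc n hn e _ x1)⟩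
  have sq : ∀ g ∈ X, ∀ y ∈ X, Commute (φ g) (φ y) → Commute (g * g) y := fun g hg y hy e => by
    have m : ⁅g, y⁆ ∈ X := X.mul_mem (mul_mem (mul_mem hg hy) (inv_mem hg)) (inv_mem hy)
    have e' : φ ⁅g, y⁆ = 1 := by rw [map_commutatorElement]; exact e.commutator_eq
    refine sq_comm (hc _ m e' _ hg) ?_
    obtain ⟨a, b, c⟩ := sc _ m e'
    have := sl2_det ⁅g, y⁆
    rw [a, c] at this
    apply sl2_ext <;> simp [sl2_mul_val, Matrix.mul_apply, Fin.sum_univ_two, a, b, c] <;> linear_combination this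
  have lU : ∀ μ, ∃ μ', xU μ' ∈ X ∧ φ (xU μ') = φ (xU μ) := fun μ => by
    obtain ⟨g, hg, e⟩ := hU (d * d * μ)
    obtain ⟨a, b⟩ := comm_xU (sq g hg _ x1 (by rw [e]; exact (commute_of_comm_xU _ _).map φ))
    have e2 := sq_xU a b
    refine ⟨_, e2 ▸ mul_mem (mul_mem hg hg) (mul_mem hg hg), ?_⟩
    rw [← e2]
    simp only [map_mul, e]
    simp only [← map_mul, ← xU_add]
    congr 2
    linear_combination (d * 2 + 1) * μ * i2
  have lL : ∀ μ, ∃ μ', xL μ' ∈ X ∧ φ (xL μ') = φ (xL μ) := fun μ => by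
    obtain ⟨g, hg, e⟩ := hL (d * d * μ)
    obtain ⟨a, b⟩ := comm_xL hη (sq g hg _ yt (by rw [e]; exact (commute_of_comm_xL _ _).map φ))
    have e2 := sq_xL a b
    refine ⟨_, e2 ▸ mul_mem (mul_mem hg hg) (mul_mem hg hg), ?_⟩
    rw [← e2]
    simp only [map_mul, e]
    simp only [← map_mul, ← xL_add]
    congr 2
    linear_combination (d * 2 + 1) * μ * i2
  have key : ∀ p q a p' q' a' : R, tv p q a ∈ X → tv p' q' a' ∈ X → φ (tv p q a) = φ (tv p' q' a') →
      tv p q a = tv p' q' a' := fun p q a p' q' a' m m' e => by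
    obtain ⟨a1, a2, a3⟩ := sc _ (mul_mem m (inv_mem m')) (by rw [map_mul, map_inv, e, mul_inv_cancel])
    set n := tv p q a * (tv p' q' a')⁻¹ with hn
    have e1 : tv p q a = n * tv p' q' a' := by simp [hn]
    have h1 := congrArg (fun x : SL2 R => x.1 0 0) e1
    have h2 := congrArg (fun x : SL2 R => x.1 1 1) e1
    simp [sl2_mul_val, Matrix.mul_apply, Fin.sum_univ_two, a1, a2, a3] at h1 h2
    have h3 : n.1 0 0 = 1 := by linear_combination -d * (h1 + h2) + (1 - n.1 0 0) * i2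
    rw [e1, show n = 1 by apply sl2_ext <;> simp [a1, a2, a3, h3], one_mul]
  have c1 : ∀ s a : R, xL s * xU a * (xL s)⁻¹ = tv 1 s a := fun s a => by
    have := tv_L 1 0 a s
    rw [tv_zero] at this
    simpa using this
  have c2 : ∀ s a : R, xU s * xL (-a) * (xU s)⁻¹ = tv s 1 a := fun s a => by
    have := tv_U 0 1 a s
    rw [tv_zero'] at this
    simpa using this
  have hw : wS ∈ X := by
    obtain ⟨ν, m, e⟩ := lL 1
    have := key 1 ν 1 1 1 ν (c1 ν 1 ▸ (conj_mem_iff' m).2 x1) (c2 1 ν ▸ (conj_mem_iff' x1).2 (xL_neg ν ▸ inv_mem m))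
      (by rw [← c1, ← c2, xL_neg]; simp only [map_mul, map_inv, e]; simp only [← map_mul, ← map_inv]
          rw [c1, ← xL_neg, c2])
    have h1 := congrArg (fun x : SL2 R => x.1 0 1) this
    simp at h1
    rw [wS_eq, xL_neg, h1]
    exact mul_mem (mul_mem (h1 ▸ x1) (inv_mem m)) (h1 ▸ x1)
  obtain ⟨ν, m, e⟩ := lU η
  have := key 1 t (-ν) ν 1 (-t) (c1 t (-ν) ▸ (conj_mem_iff' yt).2 (xU_neg ν ▸ inv_mem m))
    (c2 ν (-t) ▸ (conj_mem_iff' m).2 (by rwa [neg_neg]))
    (by rw [← c1, ← c2, xU_neg]; simp only [map_mul, map_inv, e]; simp only [← map_mul, ← map_inv]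
        rw [c2, ← xU_neg, c1]
        congr 1
        apply sl2_ext <;> simp <;> grind)
  have h1 := congrArg (fun x : SL2 R => x.1 1 0) this
  simp at h1
  refine h.finish hk hg hw hη (?_ : xU η ∈ X) μ
  rwa [show η = ν by linear_combination -η * η * h1 + (ν * (t * η + 1) - η) * hη]

theorem exists_xU {I : Ideal R} (h2 : ∀ a : R, 2 * a = 0 → a = 0) (hI : ∀ a ∈ I, ∀ b ∈ I, a * b = 0) {N : Subgroup (SL2 R)}
    (hN : ∀ n ∈ N, red I n = 1) (hc : ∀ n ∈ N, ⁅xU (1 : R), n⁆ ∈ N) {n : SL2 R} (hn : n ∈ N) (h1 : n ≠ 1) :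
    ∃ μ ≠ 0, xU μ ∈ N := by
  have tr : ∀ n ∈ N, n.1 1 1 = 2 - n.1 0 0 := fun n hn => by
    obtain ⟨a1, a2, a3, a4⟩ := red_one.1 (hN n hn)
    linear_combination sl2_det n + hI _ a2 _ a3 - hI _ a1 _ a4
  have cm : ∀ n ∈ N, ⁅xU (1 : R), n⁆.1 0 0 = 1 + n.1 1 0 ∧ ⁅xU (1 : R), n⁆.1 0 1 = 2 - 2 * n.1 0 0 - n.1 1 0 ∧
      ⁅xU (1 : R), n⁆.1 1 0 = 0 := fun n hn => by
    obtain ⟨a1, a2, a3, a4⟩ := red_one.1 (hN n hn)
    have := sl2_det n
    have h4 := tr n hn
    rw [commutatorElement_def, ← xU_neg]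
    simp only [sl2_mul_val, sl2_inv_val, Matrix.mul_apply, Fin.sum_univ_two]
    simp [h4] at this ⊢
    have := hI _ a1 _ a3
    have := hI _ a3 _ a3
    have := hI _ a1 _ a1
    have := hI _ a2 _ a3
    grind
  have fin : ∀ n ∈ N, n ≠ 1 → n.1 1 0 = 0 → n.1 0 0 = 1 → ∃ μ ≠ 0, xU μ ∈ N := fun n hn h1 a b => by
    have e : n = xU (n.1 0 1) := by apply sl2_ext <;> simp [a, b, tr n hn]; norm_num
    exact ⟨_, fun h => h1 (by rw [e, h, xU_zero]), e ▸ hn⟩
  have fin2 : ∀ n ∈ N, n ≠ 1 → n.1 1 0 = 0 → ∃ μ ≠ 0, xU μ ∈ N := fun n hn h1 a => by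
    by_cases b : n.1 0 0 = 1
    · exact fin n hn h1 a b
    · obtain ⟨c1, c2, c3⟩ := cm n hn
      refine fin _ (hc n hn) (fun e => b ?_) c3 (by rw [c1, a, add_zero])
      rw [e, a] at c2
      have := h2 (n.1 0 0 - 1) (by simp at c2; linear_combination c2)
      linear_combination this
  by_cases a : n.1 1 0 = 0
  · exact fin2 n hn h1 a
  · obtain ⟨c1, c2, c3⟩ := cm n hn
    refine fin2 _ (hc n hn) (fun e => a ?_) c3
    rw [e] at c1
    simpa using c1

theorem ker_le {I : Ideal R} {d : R} (i2 : d * 2 = 1) (hI : ∀ c ∈ I, c ≠ 0 → ∀ a ∈ I, ∃ s, a = s * c)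
    {N : Subgroup (SL2 R)} (hc : ∀ s, ∀ n ∈ N, s * n * s⁻¹ ∈ N) {μ : R} (hμ : μ ∈ I) (h0 : μ ≠ 0) (hN : xU μ ∈ N)
    {g : SL2 R} (hg : red I g = 1) : g ∈ N := by
  have h1 : tv 0 1 μ ∈ N := by
    have := hc wS _ hN
    rw [wS_xU] at this
    rw [tv_zero']; simpa using this
  have sq : ∀ s, xU (s * s * μ) ∈ N := fun s => by
    by_cases e : s * μ = 0
    · rw [mul_assoc, e, mul_zero, xU_zero]; exact one_mem _
    · obtain ⟨v, hv⟩ := hI _ (I.mul_mem_left s hμ) e μ hμ
      have := hc (xL (-v)) _ (hc (xU s) _ h1)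
      rw [tv_U, tv_L] at this
      convert this using 1
      apply sl2_ext <;> simp
      · linear_combination s * hv
      · ring
      · linear_combination (1 - v * s) * hv
      · linear_combination s * hv
  have hU : ∀ a ∈ I, xU a ∈ N := fun a ha => by
    obtain ⟨r, rfl⟩ := hI μ hμ h0 a ha
    have := mul_mem (sq (d * (r + 1))) (inv_mem (sq (d * (r - 1))))
    rw [← xU_neg, ← xU_add] at this
    convert this using 2
    linear_combination -r * μ * (d * 2 + 1) * i2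
  have hL : ∀ a ∈ I, xL a ∈ N := fun a ha => by
    have := hc wS _ (hU _ (neg_mem ha))
    rwa [wS_xU, neg_neg] at this
  have key : ∀ g : SL2 R, red I g = 1 → g.1 1 0 ≠ 0 → g ∈ N := fun g hg hne => by
    obtain ⟨a1, a2, a3, a4⟩ := red_one.1 hg
    obtain ⟨s, hs⟩ := hI _ a3 hne _ a1
    have : g = xU s * (xL (g.1 1 0) * xU (g.1 0 1 + s - s * g.1 1 1)) * (xU s)⁻¹ := by
      have := sl2_det g
      rw [← xU_neg]
      apply sl2_ext <;> simp [Matrix.mul_apply, Fin.sum_univ_two]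
      · linear_combination hs
      · grind
      · linear_combination this - g.1 1 1 * hs
    rw [this]
    refine hc _ _ (mul_mem (hL _ a3) (hU _ ?_))
    have := sub_mem a2 (I.mul_mem_left s a4)
    convert this using 1
    ring
  by_cases a : g.1 1 0 = 0
  · have := key (xL μ * g) (by
      rw [map_mul, hg, mul_one, red_one]; simpa using hμ) (fun e => h0 (by
        have := sl2_det g
        simp [Matrix.mul_apply, Fin.sum_univ_two, a] at e this
        linear_combination g.1 1 1 * e - μ * this))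
    rwa [N.mul_mem_cancel_left (hL μ hμ)] at this
  · exact key g hg a

end

theorem gen_unit {k : Type*} [Field k] (hk : Big k) (n : ℕ) : ∀ {R : Type*} [CommRing R] [Algebra k R]
    [FiniteDimensional k R] {t η : R} {X : Subgroup (SL2 R)}, Module.finrank k R ≤ n → t * η = 1 →
    Algebra.adjoin k {t} = ⊤ → Gen k t X → ∀ μ, xU μ ∈ X := by
  induction n with
  | zero =>
    intro R _ _ _ t η X hn _ _ _ μ
    have := Module.finrank_zero_iff.1 (Nat.le_zero.1 hn)
    rw [Subsingleton.elim μ 0, xU_zero]; exact one_mem _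
  | succ n ih =>
    intro R _ _ _ t η X hn hη hg h μ
    rcases subsingleton_or_nontrivial R with _ | _
    · rw [Subsingleton.elim μ 0, xU_zero]; exact one_mem _
    have adj : ∀ J : Ideal R, Algebra.adjoin k {Ideal.Quotient.mkₐ k J t} = ⊤ := fun J => by
      rw [← Set.image_singleton, ← AlgHom.map_adjoin, hg, Algebra.map_top,
        AlgHom.range_eq_top]
      exact Ideal.Quotient.mk_surjective
    have i2 : algebraMap k R 2⁻¹ * 2 = 1 := by
      rw [← map_ofNat (algebraMap k R), ← map_mul, inv_mul_cancel₀ hk.two, map_one]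
    have : IsArtinianRing R := IsArtinianRing.of_finite k R
    obtain ⟨I, hI, -⟩ := (eq_bot_or_exists_atom_le (⊤ : Ideal R)).resolve_left top_ne_bot
    have hI' : ∀ c ∈ I, c ≠ 0 → ∀ a ∈ I, ∃ s, a = s * c := fun c hc h0 a ha => by
      have : Ideal.span {c} = I := (hI.le_iff.1 ((Ideal.span_singleton_le_iff_mem _).2 hc)).resolve_left
        (by simpa using h0)
      rw [← this, Ideal.mem_span_singleton'] at ha
      exact ha.imp fun s e => e.symm
    obtain ⟨m, hm, m0⟩ := Submodule.exists_mem_ne_zero_of_ne_bot hI.1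
    have lt : Module.finrank k (R ⧸ I) ≤ n := by
      have h1 := LinearMap.finrank_range_add_finrank_ker (Ideal.Quotient.mkₐ k I).toLinearMap
      rw [LinearMap.range_eq_top.2 Ideal.Quotient.mk_surjective, finrank_top] at h1
      have : 0 < Module.finrank k (LinearMap.ker (Ideal.Quotient.mkₐ k I).toLinearMap) :=
        Module.finrank_pos_iff_exists_ne_zero.2 ⟨⟨m, Ideal.Quotient.eq_zero_iff_mem.2 hm⟩,
          fun e => m0 (congrArg Subtype.val e)⟩
      omega
    have hη' : Ideal.Quotient.mkₐ k I t * Ideal.Quotient.mkₐ k I η = 1 := by rw [← map_mul, hη, map_one]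
    have hU := ih lt hη' (adj I) (h.map _)
    have hL := xL_of_xU hη' hU (by simpa using (h.map (Ideal.Quotient.mkₐ k I)).L 1)
    by_cases hc : ∀ n ∈ X, red I n = 1 → ∀ g ∈ X, Commute n g
    · exact gen_central h hk.two hg hη (red I) (fun μ => by rw [map_xU]; exact hU _)
        (fun μ => by rw [map_xL]; exact hL _) hc μ
    let J : Ideal R := LinearMap.ker (LinearMap.toSpanSingleton R R m)
    have mJ : ∀ r, r ∈ J ↔ r * m = 0 := fun r => Iff.rfl
    have IJ : ∀ a ∈ I, ∀ b ∈ J, a * b = 0 := fun a ha b hb => by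
      obtain ⟨s, rfl⟩ := hI' m hm m0 a ha
      rw [mul_assoc, mul_comm m, (mJ b).1 hb, mul_zero]
    have hJ : J.IsMaximal := Ideal.isMaximal_iff.2 ⟨fun e => m0 (by simpa using (mJ 1).1 e), fun J' x hle hx hx' => by
      obtain ⟨s, hs⟩ := hI' _ (I.mul_mem_left x hm) hx m hm
      have := add_mem (hle ((mJ (1 - s * x)).2 (by linear_combination hs))) (J'.mul_mem_left s hx')
      simpa using this⟩
    letI := Ideal.Quotient.field J
    have sur := gen_field hk (ζ := Ideal.Quotient.mkₐ k J t) (X := X.map (red J))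
      (left_ne_zero_of_mul_eq_one (b := Ideal.Quotient.mkₐ k J η) (by rw [← map_mul, hη, map_one])) (adj J)
      (h.map (Ideal.Quotient.mkₐ k J))
    let N := X ⊓ (red I).ker
    have hN : ∀ s, ∀ n ∈ N, s * n * s⁻¹ ∈ N := fun s n hn => by
      obtain ⟨g, hg, e⟩ := sur.ge (mem_top (red J s))
      have := (comm_red IJ hn.2 (g := g⁻¹ * s) (by rw [map_mul, map_inv, e, inv_mul_cancel])).eq
      rw [show s * n * s⁻¹ = g * n * g⁻¹ by
        calc s * n * s⁻¹ = g * (g⁻¹ * s * n) * s⁻¹ := by group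
          _ = _ := by rw [← this]; group]
      exact ⟨X.mul_mem (mul_mem hg hn.1) (inv_mem hg), MonoidHom.normal_ker _ |>.conj_mem _ hn.2 _⟩
    obtain ⟨ν, ν0, hν⟩ : ∃ ν ≠ 0, xU ν ∈ N := by
      obtain ⟨c, c0, c1⟩ := hk.ex
      rcases sl2_normal (K := R ⧸ J) (c := algebraMap k _ c) ((_root_.map_ne_zero _).2 c0)
        (fun e => c1 ((algebraMap k (R ⧸ J)).injective (by simpa using e))) (N.map (red J)) ⟨by
          rintro _ ⟨n, hn, rfl⟩ s
          obtain ⟨g, -, rfl⟩ := sur.ge (mem_top s)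
          exact ⟨_, hN g n hn, by simp⟩⟩ with e | e
      · obtain ⟨n, hn, e⟩ := e.ge (mem_top (red J (xU 1)))
        obtain ⟨a1, a2, a3, a4⟩ := red_one.1 hn.2
        have b := red_eq.1 e
        have b2 : n.1 0 1 - 1 ∈ J := by simpa using b 0 1
        have z : ∀ a ∈ I, a ∈ J → a = 0 := fun a ha ha' => by
          linear_combination IJ _ a2 _ ha' - IJ _ ha _ b2
        refine ⟨n.1 0 1, fun e => m0 (by simpa [e] using (mJ _).1 b2), ?_⟩
        suffices e : xU (n.1 0 1) = n by rwa [e]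
        apply sl2_ext
        · simpa using (sub_eq_zero.1 (z _ a1 (by simpa using b 0 0))).symm
        · simp
        · simpa [eq_comm] using z _ a3 (by simpa using b 1 0)
        · simpa using (sub_eq_zero.1 (z _ a4 (by simpa using b 1 1))).symm
      · push Not at hc
        obtain ⟨n, hn, hn', g, hg, hne⟩ := hc
        have m1 : ⁅g, n⁆ ∈ N := N.mul_mem (hN g n ⟨hn, hn'⟩) (inv_mem ⟨hn, hn'⟩)
        have m2 : red J ⁅g, n⁆ = 1 := by
          rw [map_commutatorElement, commutatorElement_eq_one_iff_mul_comm]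
          exact mem_center_iff.1 (e ⟨n, ⟨hn, hn'⟩, rfl⟩) _
        have m3 : ⁅g, n⁆ ≠ 1 := fun e => hne (commutatorElement_eq_one_iff_commute.1 e).symm
        have IJ' : I ≤ J := by
          by_contra hn
          have : I ⊓ J = ⊥ := hI.2 _ (inf_lt_left.2 hn)
          obtain ⟨a1, a2, a3, a4⟩ := red_one.1 m1.2
          obtain ⟨b1, b2, b3, b4⟩ := red_one.1 m2
          refine m3 (sl2_ext ?_ ?_ ?_ ?_)
          · simpa [sub_eq_zero] using this.le ⟨a1, b1⟩
          · simpa using this.le ⟨a2, b2⟩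
          · simpa using this.le ⟨a3, b3⟩
          · simpa [sub_eq_zero] using this.le ⟨a4, b4⟩
        exact exists_xU (I := I) (fun a ha => by linear_combination algebraMap k R 2⁻¹ * ha - a * i2)
          (fun a ha b hb => IJ a ha b (IJ' hb)) (fun n hn => hn.2)
          (fun n hn => N.mul_mem (hN _ n hn) (inv_mem hn)) m1 m3
    obtain ⟨g, hg, e⟩ := hU (Ideal.Quotient.mk I μ)
    have := ker_le i2 hI' hN (by simpa using (red_one.1 hν.2).2.1) ν0 hν (g := g⁻¹ * xU μ)
      (by rw [map_mul, map_inv, map_xU, ← e]; exact inv_mul_cancel _)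
    simpa using mul_mem hg this.1

end H20.QP
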