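import Cfsg.Agent.H28.Root2

/-! Unipotent subgroups of the unit group of a finite-dimensional algebra: `aug H = span (H - 1)`, `Un H` (`aug H`
nilpotent), `Un.nilpotent`, `Un.sup` (normalizing case), the Baer-Suzuki type theorem `un_iSup`, `NU H` (no unipotent
normal subgroup), bridge `un_iff` to `IsUnipotentOn`. -/

set_option autoImplicit false
set_option linter.unusedSectionVars false
set_option linter.unusedVariables false

namespace H20.QP
open Subgroup Cfsg H28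
open scoped commutatorElement Pointwise

section
variable (k : Type*) [Field k] {R : Type*} [Ring R] [Algebra k R]

/-- the span of `H - 1` -/
def aug (H : Subgroup Rˣ) : Submodule k R := Submodule.span k {x | ∃ g ∈ H, x = (g : R) - 1}

/-- `H` is unipotent -/
def Un (H : Subgroup Rˣ) : Prop := ∃ n, aug k H ^ n = ⊥

variable {k} {H U P A B : Subgroup Rˣ} {g : Rˣ} {N : Submodule k R}

theorem mem_aug (hg : g ∈ H) : (g : R) - 1 ∈ aug k H := Submodule.subset_span ⟨g, hg, rfl⟩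
theorem aug_le : aug k H ≤ N ↔ ∀ g ∈ H, (g : R) - 1 ∈ N :=
  Submodule.span_le.trans ⟨fun h g hg => h ⟨g, hg, rfl⟩, fun h _ ⟨g, hg, e⟩ => e ▸ h g hg⟩
theorem aug_mono (h : A ≤ B) : aug k A ≤ aug k B := aug_le.2 fun _ hg => mem_aug (h hg)
theorem aug_mul : aug k H * aug k H ≤ aug k H := by
  rw [aug, Submodule.span_mul_span, Submodule.span_le]
  rintro _ ⟨_, ⟨g, hg, rfl⟩, _, ⟨h, hh, rfl⟩, rfl⟩
  have : ((g : R) - 1) * ((h : R) - 1) = (((g * h : Rˣ) : R) - 1) - ((g : R) - 1) - ((h : R) - 1) := by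
    rw [Units.val_mul]; noncomm_ring
  change _ * _ ∈ aug k H
  rw [this]
  exact sub_mem (sub_mem (mem_aug (mul_mem hg hh)) (mem_aug hg)) (mem_aug hh)
theorem Un.mono (h : Un k B) (e : A ≤ B) : Un k A :=
  let ⟨n, hn⟩ := h; ⟨n, le_bot_iff.1 ((pow_le_pow_left' (aug_mono e) n).trans hn.le)⟩
theorem Un.of_aug (h : Un k B) (e : aug k A ≤ aug k B) : Un k A :=
  let ⟨n, hn⟩ := h; ⟨n, le_bot_iff.1 ((pow_le_pow_left' e n).trans hn.le)⟩
theorem un_of_le (e : aug k A ≤ N) {n : ℕ} (hn : N ^ n = ⊥) : Un k A :=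
  ⟨n, le_bot_iff.1 ((pow_le_pow_left' e n).trans hn.le)⟩

/-- the units congruent to `1` modulo `N` -/
def grp (N : Submodule k R) (hN : N * N ≤ N) : Subgroup Rˣ where
  carrier := {g | (g : R) - 1 ∈ N ∧ ((g⁻¹ : Rˣ) : R) - 1 ∈ N}
  one_mem' := by simp
  inv_mem' := fun h => ⟨h.2, by simpa using h.1⟩
  mul_mem' := by
    have key : ∀ x y : R, x - 1 ∈ N → y - 1 ∈ N → x * y - 1 ∈ N := fun x y hx hy => by
      have : x * y - 1 = (x - 1) * (y - 1) + (x - 1) + (y - 1) := by noncomm_ring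
      rw [this]
      exact add_mem (add_mem (hN (Submodule.mul_mem_mul hx hy)) hx) hy
    rintro a b ⟨h1, h2⟩ ⟨h3, h4⟩
    exact ⟨key _ _ h1 h3, by rw [mul_inv_rev]; exact key _ _ h4 h2⟩

theorem le_grp {hN : N * N ≤ N} : A ≤ grp N hN ↔ aug k A ≤ N :=
  ⟨fun h => aug_le.2 fun _ hg => (h hg).1, fun h _ hg => ⟨aug_le.1 h _ hg, aug_le.1 h _ (inv_mem hg)⟩⟩

theorem aug_closure_le (hN : N * N ≤ N) {s : Set Rˣ}
    (h : ∀ g ∈ s, (g : R) - 1 ∈ N ∧ ((g⁻¹ : Rˣ) : R) - 1 ∈ N) : aug k (closure s) ≤ N :=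
  (le_grp (hN := hN)).1 ((closure_le _).2 h)

theorem aug_iSup_le (hN : N * N ≤ N) {T : Set (Subgroup Rˣ)} (h : ∀ A ∈ T, aug k A ≤ N) : aug k (⨆ A ∈ T, A) ≤ N :=
  (le_grp (hN := hN)).1 (iSup₂_le fun A hA => le_grp.2 (h A hA))

theorem mul_aug_pow (hg : g ∈ H) {n : ℕ} {x : R} (hx : x ∈ aug k H ^ (n + 1)) : x * g ∈ aug k H ^ (n + 1) := by
  have : x * g = x * (g - 1) + x := by noncomm_ring
  rw [this]
  refine add_mem ?_ hx
  have h1 : aug k H ^ (n + 1) * aug k H ≤ aug k H ^ (n + 1) := by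
    rw [pow_succ, mul_assoc]; exact mul_le_mul_right aug_mul _
  exact h1 (Submodule.mul_mem_mul hx (mem_aug hg))

theorem lcs_mem (n : ℕ) : ∀ g ∈ H.lowerCentralSeries n, g ∈ H ∧ (g : R) - 1 ∈ aug k H ^ (n + 1) := by
  induction n with
  | zero => exact fun g hg => ⟨hg, by simpa using mem_aug hg⟩
  | succ n ih =>
    have hN : aug k H ^ (n + 2) * aug k H ^ (n + 2) ≤ aug k H ^ (n + 2) := by
      have h1 : ∀ m, aug k H ^ (m + 1) ≤ aug k H := fun m => by
        induction m with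
        | zero => simp
        | succ m ih => rw [pow_succ]; exact (mul_le_mul_left ih _).trans aug_mul
      refine (mul_le_mul_right (h1 _) _).trans ?_
      rw [pow_succ, mul_assoc]; exact mul_le_mul_right aug_mul _
    have key : ∀ x ∈ H.lowerCentralSeries n, ∀ y ∈ H, ((⁅x, y⁆ : Rˣ) : R) - 1 ∈ aug k H ^ (n + 2) ∧
        ((⁅y, x⁆ : Rˣ) : R) - 1 ∈ aug k H ^ (n + 2) := by
      intro x hx y hy
      obtain ⟨hxH, hx'⟩ := ih x hx
      have h1 : ((x : R) - 1) * (y - 1) - (y - 1) * (x - 1) ∈ aug k H ^ (n + 2) :=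
        sub_mem (by rw [pow_succ]; exact Submodule.mul_mem_mul hx' (mem_aug hy))
          (by rw [pow_succ']; exact Submodule.mul_mem_mul (mem_aug hy) hx')
      constructor
      · have := mul_aug_pow (inv_mem hy) (mul_aug_pow (inv_mem hxH) h1)
        convert this using 1
        have e : ((x : R) - 1) * (y - 1) - (y - 1) * (x - 1) = x * y - y * x := by noncomm_ring
        rw [e, sub_mul, sub_mul, commutatorElement_def]
        simp [mul_assoc]
      · have := mul_aug_pow (inv_mem hxH) (mul_aug_pow (inv_mem hy) (neg_mem h1))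
        convert this using 1
        have e : -(((x : R) - 1) * (y - 1) - (y - 1) * (x - 1)) = y * x - x * y := by noncomm_ring
        rw [e, sub_mul, sub_mul, commutatorElement_def]
        simp [mul_assoc]
    have : H.lowerCentralSeries (n + 1) ≤ H ⊓ grp _ hN := by
      rw [Subgroup.lowerCentralSeries_succ, commutator_le]
      intro x hx y hy
      have hxH := (ih x hx).1
      exact ⟨H.mul_mem (mul_mem (mul_mem hxH hy) (inv_mem hxH)) (inv_mem hy), (key x hx y hy).1,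
        by rw [commutatorElement_inv]; exact (key x hx y hy).2⟩
    exact fun g hg => ⟨(this hg).1, (this hg).2.1⟩

theorem Un.lcs (h : Un k H) : ∃ n, H.lowerCentralSeries n = ⊥ := by
  obtain ⟨n, hn⟩ := h
  refine ⟨n, eq_bot_iff.2 fun g hg => ?_⟩
  have := (lcs_mem (k := k) n g hg).2
  rw [pow_succ, hn, Submodule.bot_mul, Submodule.mem_bot, sub_eq_zero] at this
  exact Units.ext this

theorem Un.nilpotent (h : Un k H) : Group.IsNilpotent H := (isNilpotent_iff_lowerCentralSeries _).2 h.lcs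

theorem Un.sup (hU : Un k U) (hP : Un k P) (hn : ∀ p ∈ P, ∀ u ∈ U, p * u * p⁻¹ ∈ U) : Un k (U ⊔ P) := by
  obtain ⟨n, hn0⟩ := hU
  obtain ⟨m, hm0⟩ := hP
  set I := aug k U
  set J := aug k P
  set K : Submodule k R := 1 ⊔ J with hK
  have KK : K * K ≤ K := by
    simp only [hK, Submodule.mul_sup, Submodule.sup_mul, one_mul, mul_one]
    exact sup_le le_rfl (sup_le le_sup_right (aug_mul.trans le_sup_right))
  have memK : ∀ p ∈ P, (p : R) ∈ K := fun p hp => by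
    have : (p : R) = 1 + (p - 1) := by abel
    rw [this]
    exact Submodule.add_mem_sup (Submodule.one_le.1 le_rfl) (mem_aug hp)
  have IK : I ≤ I * K := by
    conv_lhs => rw [← mul_one I]
    exact mul_le_mul_right le_sup_left _
  have KI : K * I ≤ I * K := by
    rw [hK, Submodule.sup_mul, one_mul]
    refine sup_le IK ?_
    change aug k P * aug k U ≤ _
    rw [aug, aug, Submodule.span_mul_span, Submodule.span_le]
    rintro _ ⟨_, ⟨p, hp, rfl⟩, _, ⟨u, hu, rfl⟩, rfl⟩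
    have : ((p : R) - 1) * ((u : R) - 1) = (((p * u * p⁻¹ : Rˣ) : R) - 1) * p - (u - 1) := by
      simp only [sub_mul, mul_sub, mul_assoc, Units.val_mul, Units.inv_mul, mul_one, one_mul]
      abel
    change _ * _ ∈ I * K
    rw [this]
    exact sub_mem (Submodule.mul_mem_mul (mem_aug (hn p hp u hu)) (memK p hp)) (IK (mem_aug hu))
  set L := I * K with hL
  have LK : L * K ≤ L := by rw [hL, mul_assoc]; exact mul_le_mul_right KK _
  have KL : K * L ≤ L := by rw [hL, ← mul_assoc]; exact (mul_le_mul_left KI _).trans LK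
  have LL : L * L ≤ L := by
    calc L * L = I * (K * L) := by rw [hL, mul_assoc]
      _ ≤ I * L := mul_le_mul_right KL _
      _ ≤ L := by rw [hL, ← mul_assoc]; exact mul_le_mul_left aug_mul _
  have Lp : ∀ j, L ^ j ≤ I ^ j * K := fun j => by
    induction j with
    | zero => simp [hK]
    | succ j ih =>
      calc L ^ (j + 1) ≤ I ^ j * K * (I * K) := by rw [pow_succ]; exact mul_le_mul_left ih _
        _ = I ^ j * (K * L) := by rw [mul_assoc]
        _ ≤ I ^ j * L := mul_le_mul_right KL _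
        _ = _ := by rw [hL, pow_succ, mul_assoc]
  have JK : J ≤ K := le_sup_right
  have hp : ∀ j, (L ⊔ J) ^ (j + 1) ≤ L ⊔ J ^ (j + 1) := fun j => by
    induction j with
    | zero => simp
    | succ j ih =>
      rw [pow_succ]
      refine (mul_le_mul_left ih _).trans ?_
      have J1 : J ^ (j + 1) ≤ K := by
        clear ih
        induction j with
        | zero => simpa using JK
        | succ j ih => rw [pow_succ]; exact (mul_le_mul' ih JK).trans KK
      simp only [Submodule.mul_sup, Submodule.sup_mul]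
      refine sup_le (sup_le (LL.trans le_sup_left) (((mul_le_mul_left J1 _).trans KL).trans le_sup_left))
        (sup_le (((mul_le_mul_right JK _).trans LK).trans le_sup_left) ?_)
      rw [← pow_succ]; exact le_sup_right
  have NN : (L ⊔ J) * (L ⊔ J) ≤ L ⊔ J := by
    have := hp 1
    rw [pow_succ, pow_one, pow_succ, pow_one] at this
    exact this.trans (sup_le_sup_left aug_mul _)
  refine un_of_le (N := L ⊔ J) ((le_grp (hN := NN)).1 (sup_le (le_grp.2 (IK.trans le_sup_left))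
    (le_grp.2 le_sup_right))) (n := (m + 1) * n) ?_
  have := hp m
  rw [pow_succ J, hm0, Submodule.bot_mul, sup_bot_eq] at this
  rw [pow_mul, eq_bot_iff]
  refine (pow_le_pow_left' this n).trans ((Lp n).trans ?_)
  rw [hn0, Submodule.bot_mul]

end

section
variable {G : Type*} [Group G]

theorem exists_norm {W : Set (Subgroup G)} {U V : Subgroup G} (hV : Group.IsNilpotent V) (hUV : U ≤ V)
    (hW : ∀ A ∈ W, ∀ g ∈ V, cj g A ∈ W) {T : Set (Subgroup G)} (hT : ∀ A ∈ T, A ∈ W ∧ A ≤ U)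
    (hT' : ∀ A ∈ W, A ≤ U → A ∈ T) {B : Subgroup G} (hB : B ∈ W) (hBV : B ≤ V) (hBT : B ∉ T) :
    ∃ A ∈ W, A ≤ V ∧ A ∉ T ∧ ∀ a ∈ A, ∀ C ∈ T, cj a C ∈ T := by
  by_contra hc
  push Not at hc
  let f : ℕ → Subgroup G := fun n => Nat.rec U (fun _ X => V ⊓ normalizer (X : Set G)) n
  have fV : ∀ n, f n ≤ V := fun n => by
    cases n with
    | zero => exact hUV
    | succ n => exact inf_le_left
  have fm : ∀ n, f n ≤ f (n + 1) := fun n => le_inf (fV n) le_normalizer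
  have f0 : ∀ n, U ≤ f n := fun n => by
    induction n with
    | zero => exact le_rfl
    | succ n ih => exact ih.trans (fm n)
  have fu : ∀ n, ucs V n ≤ f n := fun n => by
    induction n with
    | zero => rw [ucs_zero]; exact bot_le
    | succ n ih =>
      intro x hx
      refine ⟨ucs_le _ _ hx, mem_normalizer_iff.2 fun y => ⟨fun hy => ?_, fun hy => ?_⟩⟩
      · have := mul_mem (ih ((mem_ucs_succ.1 hx).2 y (fV n hy))) hy
        simpa [commutatorElement_def] using this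
      · have := mul_mem (ih ((mem_ucs_succ.1 (inv_mem hx)).2 _ (fV n hy))) hy
        simpa [commutatorElement_def, mul_assoc] using this
  have fT : ∀ n, ∀ A ∈ W, A ≤ f n → A ∈ T := fun n => by
    induction n with
    | zero => exact hT'
    | succ n ih =>
      intro A hA hle
      by_contra hn
      obtain ⟨a, ha, C, hC, hne⟩ := hc A hA (hle.trans (fV (n + 1))) hn
      refine hne (ih _ (hW C (hT C hC).1 a (hle ha).1) ?_)
      have := cj_mono (g := a) ((hT C hC).2.trans (f0 n))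
      rwa [mem_normalizer_iff_cj.1 (hle ha).2] at this
  obtain ⟨n, hn⟩ := hV.nilpotent'
  refine hBT (fT n B hB (hBV.trans (le_trans ?_ (fu n))))
  rw [ucs, hn, ← MonoidHom.range_eq_map, subtype_range]

theorem cj_iSup (g : G) (T : Set (Subgroup G)) : cj g (⨆ A ∈ T, A) = ⨆ A ∈ T, cj g A := by
  simp only [cj, conjBy, Subgroup.map_iSup]

theorem cj_iSup_eq {g : G} {T : Set (Subgroup G)} (h : ∀ A ∈ T, cj g A ∈ T) (h' : ∀ A ∈ T, cj g⁻¹ A ∈ T) :
    cj g (⨆ A ∈ T, A) = ⨆ A ∈ T, A := by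
  rw [cj_iSup]
  refine le_antisymm (iSup₂_le fun A hA => le_iSup₂_of_le _ (h A hA) le_rfl) (iSup₂_le fun A hA => ?_)
  exact le_iSup₂_of_le _ (h' A hA) (by simp)

end

section
variable {k : Type*} [Field k] {R : Type*} [Ring R] [Algebra k R] [FiniteDimensional k R]

/-- Baer-Suzuki for unipotent linear groups -/
theorem un_iSup {G : Subgroup Rˣ} {W : Set (Subgroup Rˣ)} (hWG : ∀ A ∈ W, A ≤ G)
    (hWW : ∀ A ∈ W, ∀ B ∈ W, Un k (A ⊔ B)) (hc : ∀ A ∈ W, ∀ g ∈ G, cj g A ∈ W) : Un k (⨆ A ∈ W, A) := by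
  let cl : Submodule k R → Subgroup Rˣ := fun N => ⨆ A ∈ {A ∈ W | aug k A ≤ N}, A
  let 𝒯 : Set (Submodule k R) := {N | ∃ T ⊆ W, Un k (⨆ A ∈ T, A) ∧ N = aug k (⨆ A ∈ T, A)}
  let Mx : Submodule k R → Prop := fun N => N ∈ 𝒯 ∧ ∀ N' ∈ 𝒯, ¬ N < N'
  have ext : ∀ N ∈ 𝒯, ∃ N', Mx N' ∧ N ≤ N' := fun N hN => by
    obtain ⟨N', h1, h2⟩ := (set_has_maximal_iff_noetherian.2 inferInstance) {N' ∈ 𝒯 | N ≤ N'} ⟨N, hN, le_rfl⟩
    exact ⟨N', ⟨h1.1, fun N'' h e => h2 N'' ⟨h, h1.2.trans e.le⟩ e⟩, h1.2⟩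
  have clG : ∀ N, cl N ≤ G := fun N => iSup₂_le fun A hA => hWG A hA.1
  have cle : ∀ N ∈ 𝒯, aug k (cl N) = N ∧ Un k (cl N) := by
    rintro _ ⟨T, hT, hu, rfl⟩
    have h1 : aug k (cl (aug k (⨆ A ∈ T, A))) ≤ aug k (⨆ A ∈ T, A) := aug_iSup_le aug_mul fun A hA => hA.2
    exact ⟨le_antisymm h1 (aug_mono (iSup₂_le fun A hA => le_iSup₂_of_le (f := fun A _ => A) A
      ⟨hT hA, aug_mono (le_iSup₂_of_le (f := fun A _ => A) A hA le_rfl)⟩ le_rfl)), hu.of_aug h1⟩
  have clm : ∀ N N', N ≤ N' → cl N ≤ cl N' := fun N N' h =>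
    iSup₂_le fun A hA => le_iSup₂_of_le (f := fun A _ => A) A ⟨hA.1, hA.2.trans h⟩ le_rfl
  have lecl : ∀ N, ∀ A ∈ W, aug k A ≤ N → A ≤ cl N := fun N A hA h =>
    le_iSup₂_of_le (f := fun A _ => A) A ⟨hA, h⟩ le_rfl
  have uniq : ∀ N₁ N₂, Mx N₁ → Mx N₂ → N₁ = N₂ := by
    by_contra hne
    push Not at hne
    obtain ⟨D, ⟨N₁, N₂, m1, m2, ne, rfl⟩, hD⟩ := (set_has_maximal_iff_noetherian.2 inferInstance)
      {D : Submodule k R | ∃ N₁ N₂, Mx N₁ ∧ Mx N₂ ∧ N₁ ≠ N₂ ∧ D = aug k (cl (N₁ ⊓ N₂))}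
      (let ⟨N₁, N₂, a, b, c⟩ := hne; ⟨_, N₁, N₂, a, b, c, rfl⟩)
    have dle : aug k (cl (N₁ ⊓ N₂)) ≤ N₁ ⊓ N₂ := le_inf ((aug_mono (clm _ _ inf_le_left)).trans (cle _ m1.1).1.le)
      ((aug_mono (clm _ _ inf_le_right)).trans (cle _ m2.1).1.le)
    have step : ∀ N, Mx N → N₁ ⊓ N₂ < N → ∃ A ∈ W, aug k A ≤ N ∧ ¬ aug k A ≤ N₁ ⊓ N₂ ∧
        ∀ a ∈ A, ∀ u ∈ cl (N₁ ⊓ N₂), a * u * a⁻¹ ∈ cl (N₁ ⊓ N₂) := by
      intro N m hlt
      obtain ⟨B, hB, h1, h2⟩ : ∃ B ∈ W, aug k B ≤ N ∧ ¬ aug k B ≤ N₁ ⊓ N₂ := by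
        by_contra hn
        push Not at hn
        refine hlt.not_ge (((cle N m.1).1.ge.trans (aug_mono ?_)).trans dle)
        exact iSup₂_le fun A hA => lecl _ A hA.1 (hn A hA.1 hA.2)
      obtain ⟨A, hA, a1, a2, a3⟩ := exists_norm (W := W) (T := {A ∈ W | aug k A ≤ N₁ ⊓ N₂})
        (cle N m.1).2.nilpotent (clm _ _ hlt.le) (fun A hA g hg => hc A hA g (clG _ hg))
        (fun A hA => ⟨hA.1, lecl _ A hA.1 hA.2⟩) (fun A hA h => ⟨hA, (aug_mono h).trans dle⟩) hB (lecl _ B hB h1)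
        (fun h => h2 h.2)
      refine ⟨A, hA, (aug_mono a1).trans (cle N m.1).1.le, fun h => a2 ⟨hA, h⟩, fun a ha u hu => ?_⟩
      have := cj_iSup_eq (a3 a ha) (a3 a⁻¹ (inv_mem ha))
      exact this.le (conj_mem_cj hu)
    obtain ⟨A₁, w1, a1, b1, c1⟩ := step N₁ m1 (inf_lt_left.2 fun h => m1.2 _ m2.1 (lt_of_le_of_ne h ne))
    obtain ⟨A₂, w2, a2, b2, c2⟩ := step N₂ m2 (inf_lt_right.2 fun h => m2.2 _ m1.1 (lt_of_le_of_ne h ne.symm))
    have u0 : Un k (cl (N₁ ⊓ N₂)) := (cle _ m1.1).2.mono (clm _ _ inf_le_left)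
    have u3 : Un k (cl (N₁ ⊓ N₂) ⊔ (A₁ ⊔ A₂)) := by
      refine u0.sup (hWW _ w1 _ w2) fun p hp => ?_
      have : A₁ ⊔ A₂ ≤ normalizer (cl (N₁ ⊓ N₂) : Set Rˣ) := sup_le
        (fun a ha => mem_normalizer_iff.2 fun u => ⟨c1 a ha u, fun h => by
          simpa [mul_assoc] using c1 a⁻¹ (inv_mem ha) _ h⟩)
        (fun a ha => mem_normalizer_iff.2 fun u => ⟨c2 a ha u, fun h => by
          simpa [mul_assoc] using c2 a⁻¹ (inv_mem ha) _ h⟩)
      exact fun u hu => (mem_normalizer_iff.1 (this hp) u).1 hu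
    let T : Set (Subgroup Rˣ) := {A ∈ W | A ≤ cl (N₁ ⊓ N₂) ⊔ (A₁ ⊔ A₂)}
    obtain ⟨N₃, m3, h3⟩ := ext (aug k (⨆ A ∈ T, A)) ⟨T, fun A hA => hA.1, u3.mono (iSup₂_le fun A hA => hA.2), rfl⟩
    have inT : ∀ A ∈ W, A ≤ cl (N₁ ⊓ N₂) ⊔ (A₁ ⊔ A₂) → aug k A ≤ N₃ := fun A hA h =>
      (aug_mono (le_iSup₂_of_le (f := fun A _ => A) A (show A ∈ T from ⟨hA, h⟩) le_rfl)).trans h3
    have fin : ∀ N, Mx N → N₁ ⊓ N₂ ≤ N → ∀ A ∈ W, aug k A ≤ N → ¬ aug k A ≤ N₁ ⊓ N₂ → A ≤ A₁ ⊔ A₂ → N = N₃ := by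
      intro N m hle A hA h1 h2 h4
      by_contra hne
      refine hD _ ⟨N, N₃, m, m3, hne, rfl⟩ (lt_of_le_of_ne (aug_mono (iSup₂_le fun C hC => lecl _ C hC.1
        (le_inf (hC.2.trans hle) (inT C hC.1 ((lecl _ C hC.1 hC.2).trans le_sup_left))))) fun e => h2 ?_)
      exact ((aug_mono (lecl _ A hA (le_inf h1 (inT A hA (h4.trans le_sup_right))))).trans e.ge).trans dle
    exact ne ((fin N₁ m1 inf_le_left A₁ w1 a1 b1 le_sup_left).trans
      (fin N₂ m2 inf_le_right A₂ w2 a2 b2 le_sup_right).symm)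
  obtain ⟨N, m, -⟩ := ext (aug k (⨆ A ∈ (∅ : Set (Subgroup Rˣ)), A)) ⟨∅, Set.empty_subset _, ⟨1, by
    rw [pow_one, eq_bot_iff, aug_le]; simp⟩, rfl⟩
  refine (cle N m.1).2.mono (iSup₂_le fun B hB => lecl _ B hB ?_)
  obtain ⟨N', m', h⟩ := ext (aug k (⨆ A ∈ ({B} : Set (Subgroup Rˣ)), A)) ⟨{B}, by simpa using hB,
    by simpa using hWW B hB B hB, rfl⟩
  rw [uniq N N' m m']
  simpa using h

/-- no nontrivial unipotent normal subgroup -/
def NU (k : Type*) [Field k] {R : Type*} [Ring R] [Algebra k R] (H : Subgroup Rˣ) : Prop :=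
  ∀ U ≤ H, Un k U → (∀ g ∈ H, cj g U = U) → U = ⊥

theorem NU.of_norm {H N : Subgroup Rˣ} (h : NU k H) (hN : N ≤ H) (hn : ∀ g ∈ H, cj g N = N) : NU k N := by
  intro U hU hu hUn
  let W : Set (Subgroup Rˣ) := {A | ∃ g ∈ H, A = cj g U}
  have cu : ∀ g, Un k (cj g U) := fun g => by
    obtain ⟨n, hn⟩ := hu
    let φ : R →ₐ[k] R := (MulSemiringAction.toAlgHom k R (ConjAct.toConjAct g))
    refine un_of_le (N := (aug k U).map φ.toLinearMap) (aug_le.2 fun x hx => ?_) (n := n) ?_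
    · refine ⟨_, mem_aug (mem_cj.1 hx), ?_⟩
      simp [φ, ConjAct.units_smul_def, mul_sub, sub_mul, mul_assoc]
    · rw [← Submodule.map_pow, hn, Submodule.map_bot]
  have hc : ∀ A ∈ W, ∀ g ∈ H, cj g A ∈ W := by
    rintro _ ⟨x, hx, rfl⟩ g hg
    exact ⟨g * x, mul_mem hg hx, (cj_mul _ _ _).symm⟩
  have hle : ∀ A ∈ W, A ≤ N := by
    rintro _ ⟨x, hx, rfl⟩
    exact (cj_mono hU).trans (hn x hx).le
  have := h _ (iSup₂_le fun A hA => (hle A hA).trans hN) (un_iSup (G := H) (W := W) (fun A hA => (hle A hA).trans hN)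
    (fun A hA B hB => ?_) hc) fun g hg => cj_iSup_eq (fun A hA => hc A hA g hg) fun A hA => hc A hA _ (inv_mem hg)
  · exact eq_bot_iff.2 (this ▸ le_iSup₂_of_le (f := fun A _ => A) U ⟨1, one_mem _, by simp⟩ le_rfl)
  · have hBN := hle B hB
    obtain ⟨x, hx, rfl⟩ := hA
    obtain ⟨y, hy, rfl⟩ := hB
    refine (cu x).sup (cu y) fun p hp u hu => ?_
    have h1 : x⁻¹ * p * x ∈ N := by
      rw [← mem_cj, hn x hx]; exact hBN hp
    rw [mem_cj] at hu ⊢
    have := (hUn _ h1).le (conj_mem_cj hu)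
    simpa [mul_assoc] using this

end

section
variable {k : Type*} [Field k] {M : Type*} [AddCommGroup M] [Module k M]

theorem un_iff {H : Subgroup (Module.End k M)ˣ} : IsUnipotentOn H ↔ Un k H := by
  have key : IsUnipotentOn H ↔ ∃ n : ℕ, ∀ l : List (Module.End k M)ˣ, (∀ g ∈ l, g ∈ H) → l.length = n →
      (l.map fun g : (Module.End k M)ˣ => (g : Module.End k M) - 1).prod = 0 := by
    refine exists_congr fun n => forall_congr' fun l => ?_
    have : ∀ l : List (Module.End k M)ˣ, (l >>= fun a => pure (a : Module.End k M)) = l.map Units.val := fun l => by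
      induction l with
      | nil => rfl
      | cons a l ih => simpa using ih
    rw [this, List.map_map]
    rfl
  rw [key]
  refine exists_congr fun n => ?_
  rw [aug, Submodule.span_pow, Submodule.span_eq_bot]
  constructor
  · intro h x hx
    obtain ⟨f, rfl⟩ := Set.mem_pow.1 hx
    choose g hg e using fun i => (f i).2
    have := h (List.ofFn g) (by simpa [List.mem_ofFn] using hg) (by simp)
    rw [List.map_ofFn] at this
    rw [← this]
    congr 2
    exact funext e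
  · intro h l hl hn
    subst hn
    refine h _ (Set.mem_pow.2 ⟨fun i => ⟨_, l.get i, hl _ (l.get_mem i), rfl⟩, ?_⟩)
    conv_rhs => rw [← List.ofFn_get l, List.map_ofFn]
    rfl

theorem Un.exists_fixed {H : Subgroup (Module.End k M)ˣ} (h : Un k H) (hM : ∃ m : M, m ≠ 0) :
    ∃ m : M, m ≠ 0 ∧ ∀ g ∈ H, (g : Module.End k M) m = m := by
  obtain ⟨n, hn⟩ := h
  by_contra hc
  push Not at hc
  have : ∀ n, ∃ x ∈ aug k H ^ n, ∃ m : M, x m ≠ 0 := fun n => by
    induction n with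
    | zero => obtain ⟨m, hm⟩ := hM; exact ⟨1, Submodule.one_le.1 (by simp), m, hm⟩
    | succ n ih =>
      obtain ⟨x, hx, m, hm⟩ := ih
      obtain ⟨g, hg, e⟩ := hc _ hm
      exact ⟨_, by rw [pow_succ']; exact Submodule.mul_mem_mul (mem_aug hg) hx, m, by simpa [sub_eq_zero] using e⟩
  obtain ⟨x, hx, m, hm⟩ := this n
  rw [hn, Submodule.mem_bot] at hx
  exact hm (by simp [hx])

/-- vectors fixed by a normal subgroup of an irreducible group -/
theorem eq_bot_of_fixed {G U : Subgroup (Module.End k M)ˣ} (hG : IsIrreducibleFor G) (hn : ∀ g ∈ G, cj g U = U)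
    {m : M} (hm : m ≠ 0) (hf : ∀ g ∈ U, (g : Module.End k M) m = m) : U = ⊥ := by
  have mem : ∀ m, m ∈ fixedSubmodule U ↔ ∀ g ∈ U, (g : Module.End k M) m = m := fun m => by
    simp [fixedSubmodule, sub_eq_zero]
  rcases hG.2 (fixedSubmodule U) (fun g hg w hw => (mem _).2 fun u hu => by
    have h1 : g⁻¹ * u * g ∈ U := by rw [← mem_cj, hn g hg]; exact hu
    have := congrArg (g : Module.End k M) ((mem w).1 hw _ h1)
    rwa [← Module.End.mul_apply, ← Units.val_mul, ← mul_assoc, ← mul_assoc, mul_inv_cancel, one_mul] at this)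
    with e | e
  · exact absurd (e ▸ (mem m).2 hf : m ∈ (⊥ : Submodule k M)) hm
  · exact eq_bot_iff.2 fun u hu => Units.ext (LinearMap.ext fun w => (mem w).1 (e ▸ Submodule.mem_top) u hu)

theorem nu_of_irr {G : Subgroup (Module.End k M)ˣ} (hG : IsIrreducibleFor G) : NU k G := fun U _ hu hn =>
  let ⟨_, hm, hf⟩ := hu.exists_fixed hG.1
  eq_bot_of_fixed hG hn hm hf

end
end H20.QP
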