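import Cfsg.Agent.H20.QD2
import Cfsg.Agent.H20.QU

/-! Quadratic pairs, part 1: `Q k G α` (`α² = 0`, `1 + kα ⊆ G`), matrix units `MU` attached to two square-zero elements
`α, β` and the homomorphism `MU.θ : SL₂(R) → Λˣ`; `MU.lift`: its unitriangular subgroups lie in `⟨1 + kα, 1 + kβ⟩`. -/

set_option autoImplicit false
set_option linter.unusedSectionVars false
set_option linter.unusedVariables false

namespace H20.QP
open Subgroup H28
open scoped commutatorElement

universe u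

section
variable {k : Type u} [Field k] {Λ : Type*} [Ring Λ] [Algebra k Λ] {G : Subgroup Λˣ} {α β x y : Λ}

/-- `x` is (the value of) an element of `G` -/
def In (G : Subgroup Λˣ) (x : Λ) : Prop := ∃ g ∈ G, (g : Λ) = x

theorem In.mul (hx : In G x) (hy : In G y) : In G (x * y) :=
  let ⟨g, hg, e⟩ := hx; let ⟨h, hh, e'⟩ := hy; ⟨g * h, mul_mem hg hh, by rw [Units.val_mul, e, e']⟩
theorem in_val {g : Λˣ} : In G g ↔ g ∈ G := ⟨fun ⟨_, hh, e⟩ => Units.ext e ▸ hh, fun h => ⟨g, h, rfl⟩⟩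
theorem In.mono {G' : Subgroup Λˣ} (hx : In G x) (h : G ≤ G') : In G' x := let ⟨g, hg, e⟩ := hx; ⟨g, h hg, e⟩

/-- the unit `1 + α` -/
def un (α : Λ) (h : α * α = 0) : Λˣ := ⟨1 + α, 1 - α, by noncomm_ring [h], by noncomm_ring [h]⟩
@[simp] theorem un_val (h : α * α = 0) : (un α h : Λ) = 1 + α := rfl
@[simp] theorem un_inv (h : α * α = 0) : (((un α h)⁻¹ : Λˣ) : Λ) = 1 - α := rfl

/-- `α² = 0` and `1 + kα ⊆ G` -/
structure Q (k : Type u) [Field k] [Algebra k Λ] (G : Subgroup Λˣ) (α : Λ) : Prop where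
  sq : α * α = 0
  mem : ∀ c : k, In G (1 + c • α)

theorem Q.sq' (h : Q k G α) (x : Λ) : α * (α * x) = 0 := by rw [← mul_assoc, h.sq, zero_mul]
theorem Q.one (h : Q k G α) : un α h.sq ∈ G := in_val.1 (by simpa using h.mem 1)
theorem Q.mono {G' : Subgroup Λˣ} (h : Q k G α) (e : G ≤ G') : Q k G' α := ⟨h.sq, fun c => (h.mem c).mono e⟩
theorem Q.zero : Q k G (0 : Λ) := ⟨by simp, fun c => ⟨1, one_mem _, by simp⟩⟩
theorem Q.smul (h : Q k G α) (c : k) : Q k G (c • α) :=
  ⟨by simp [h.sq], fun d => by rw [smul_smul]; exact h.mem _⟩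
theorem Q.neg (h : Q k G α) : Q k G (-α) := by simpa using h.smul (-1)
theorem Q.add (h : Q k G α) (h' : Q k G β) (e : α * β = 0) (e' : β * α = 0) : Q k G (α + β) :=
  ⟨by noncomm_ring [h.sq, h'.sq, e, e'], fun c => by
    convert (h.mem c).mul (h'.mem c) using 1
    simp [mul_add, add_mul, e, add_assoc]⟩
theorem Q.sub (h : Q k G α) (h' : Q k G β) (e : α * β = 0) (e' : β * α = 0) : Q k G (α - β) := by
  simpa [sub_eq_add_neg] using h.add h'.neg (by simp [e]) (by simp [e'])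
theorem Q.conj (h : Q k G α) {g : Λˣ} (hg : g ∈ G) : Q k G (g * α * (g⁻¹ : Λˣ)) :=
  ⟨by simp [mul_assoc, h.sq'], fun c => by
    convert ((in_val.2 hg).mul (h.mem c)).mul (in_val.2 (inv_mem hg)) using 1
    simp [mul_add, add_mul]⟩
theorem Q.conj' (h : Q k G α) (h' : Q k G β) : Q k G ((1 + β) * α * (1 - β)) := h.conj h'.one
theorem Q.comm (h : Q k G α) (h' : Q k G β) (e : α * β * α = 0) (e' : β * α * β = 0) : Q k G (α * β - β * α) := by
  rw [mul_assoc] at e e'
  refine ⟨by simp [mul_sub, sub_mul, mul_assoc, h.sq', h'.sq', e, e'], fun c => ?_⟩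
  convert (((h.mem c).mul (h'.mem 1)).mul (h.mem (-c))).mul (h'.mem (-1)) using 1
  simp [mul_add, add_mul, mul_assoc, h.sq', h'.sq', h.sq, h'.sq, e, e', smul_sub]
  abel

/-- if `ζ = αβ + βα` is nilpotent on `α`, then `αβα` is quadratic again -/
theorem Q.triple (h2 : (2 : k) ≠ 0) (h : Q k G α) (h' : Q k G β) (e : α * β * α * β * α = 0) : Q k G (α * β * α) := by
  simp only [mul_assoc] at e
  have e' : ∀ x, α * (β * (α * (β * (α * x)))) = 0 := fun x => by simpa [mul_assoc] using congrArg (· * x) e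
  have key : ∀ β', Q k G β' → α * (β' * (α * (β' * α))) = 0 →
      Q k G (α * ((1 + β') * α * (1 - β')) - (1 + β') * α * (1 - β') * α) := fun β' h' e => by
    have e' : ∀ x, α * (β' * (α * (β' * (α * x)))) = 0 := fun x => by simpa [mul_assoc] using congrArg (· * x) e
    refine h.comm (h.conj' h') ?_ ?_ <;>
      simp [mul_add, add_mul, mul_sub, sub_mul, mul_assoc, h.sq', h'.sq', h.sq, h'.sq, e, e']
  have := ((key β h' e).sub (key (-β) h'.neg (by simpa using e)) ?_ ?_).smul (4⁻¹ : k)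
  · convert this using 1
    have h4 : (4 : k) ≠ 0 := by rw [show (4 : k) = 2 * 2 by norm_num]; exact mul_ne_zero h2 h2
    rw [eq_inv_smul_iff₀ h4]
    simp [mul_add, add_mul, mul_sub, sub_mul, mul_assoc, h.sq', h'.sq', h.sq, h'.sq]
    module
  all_goals simp [mul_add, add_mul, mul_sub, sub_mul, mul_assoc, h.sq', h'.sq', h.sq, h'.sq, e, e']

variable {R : Type*} [CommRing R] [Algebra k R] {ρ : R →ₗ[k] Λ} {t η : R}

/-- matrix units -/
structure MU (ρ : R →ₗ[k] Λ) (t η : R) (α β : Λ) : Prop where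
  aa : α * α = 0
  bb : β * β = 0
  mul : ∀ r s, ρ r * ρ s = ρ (r * s)
  ca : ∀ r, α * ρ r = ρ r * α
  cb : ∀ r, β * ρ r = ρ r * β
  z : ρ 1 * (α * β + β * α) = ρ t
  inv : t * η = 1

theorem MU.symm (h : MU ρ t η α β) : MU ρ t η β α := ⟨h.bb, h.aa, h.mul, h.cb, h.ca, add_comm (α * β) _ ▸ h.z, h.inv⟩
theorem MU.ca' (h : MU ρ t η α β) (r : R) (x : Λ) : α * (ρ r * x) = ρ r * (α * x) := by
  rw [← mul_assoc, h.ca, mul_assoc]
theorem MU.mul' (h : MU ρ t η α β) (r s : R) (x : Λ) : ρ r * (ρ s * x) = ρ (r * s) * x := by rw [← mul_assoc, h.mul]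
theorem MU.aa' (h : MU ρ t η α β) (x : Λ) : α * (α * x) = 0 := by rw [← mul_assoc, h.aa, zero_mul]
theorem MU.zz (h : MU ρ t η α β) (r : R) : ρ r * (α * β + β * α) = ρ (r * t) := by
  rw [← h.mul, ← h.z, h.mul', mul_one]
theorem MU.aba (h : MU ρ t η α β) (r : R) : ρ r * (α * (β * α)) = ρ (r * t) * α := by
  rw [← h.zz]; simp [mul_add, add_mul, mul_assoc, h.aa]
theorem MU.aba' (h : MU ρ t η α β) (r : R) (x : Λ) : ρ r * (α * (β * (α * x))) = ρ (r * t) * (α * x) := by
  simpa [mul_assoc] using congrArg (· * x) (h.aba r)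

/-- the element with coordinates `a, b, c, d` -/
def F (ρ : R →ₗ[k] Λ) (α β : Λ) (a b c d : R) : Λ := ρ a * (α * β) + ρ b * α + ρ c * β + ρ d * (β * α)

theorem MU.F_mul (h : MU ρ t η α β) (a b c d a' b' c' d' : R) : F ρ α β a b c d * F ρ α β a' b' c' d' =
    F ρ α β (a * a' * t + b * c') (a * b' * t + b * d' * t) (c * a' * t + d * c' * t) (c * b' + d * d' * t) := by
  simp only [F, mul_add, add_mul, mul_assoc, h.ca', h.symm.ca', h.mul', h.aa, h.bb, h.aa', h.symm.aa', h.aba, h.aba',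
    h.symm.aba, h.symm.aba', map_add, mul_zero, add_zero, zero_add]
  abel
theorem MU.one_F (h : MU ρ t η α β) (a b c d : R) : ρ 1 * F ρ α β a b c d = F ρ α β a b c d := by
  simp only [F, mul_add, h.mul', one_mul]
theorem MU.F_one (h : MU ρ t η α β) (a b c d : R) : F ρ α β a b c d * ρ 1 = F ρ α β a b c d := by
  simp only [F, add_mul, mul_assoc, h.ca, h.cb, h.ca', h.symm.ca', h.mul', mul_one]
theorem MU.F_id (h : MU ρ t η α β) : F ρ α β η 0 0 η = ρ 1 := by
  simp [F, ← mul_add, h.zz, mul_comm η, h.inv]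

/-- the homomorphism `SL₂(R) → Λˣ` -/
noncomputable def MU.θ (h : MU ρ t η α β) : SL2 R →* Λˣ :=
  MonoidHom.toHomUnits
    { toFun := fun g => 1 - ρ 1 + F ρ α β (g.1 0 0 * η) (g.1 0 1) (g.1 1 0 * η) (g.1 1 1 * η)
      map_one' := by simp [h.F_id]
      map_mul' := fun g g' => by
        have e : ∀ e x y : Λ, e * e = e → e * y = y → x * e = x → (1 - e + x) * (1 - e + y) = 1 - e + x * y :=
          fun e x y h1 h2 h3 => by noncomm_ring [h1, h2, h3]
        rw [e _ _ _ (by rw [h.mul, mul_one]) (h.one_F ..) (h.F_one ..), h.F_mul]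
        simp only [sl2_mul_val, Matrix.mul_apply, Fin.sum_univ_two]
        have := h.inv
        congr 2 <;> grind }

theorem MU.θ_val (h : MU ρ t η α β) (g : SL2 R) :
    (h.θ g : Λ) = 1 - ρ 1 + F ρ α β (g.1 0 0 * η) (g.1 0 1) (g.1 1 0 * η) (g.1 1 1 * η) := rfl
theorem MU.θ_xU (h : MU ρ t η α β) (r : R) : (h.θ (xU r) : Λ) = 1 + ρ r * α := by
  have := h.F_id
  simp only [F, map_zero, zero_mul, add_zero] at this
  simp [h.θ_val, F, ← this]
  abel
theorem MU.θ_xL (h : MU ρ t η α β) (r : R) : (h.θ (xL r) : Λ) = 1 + ρ (r * η) * β := by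
  have := h.F_id
  simp only [F, map_zero, zero_mul, add_zero] at this
  simp [h.θ_val, F, ← this]
  abel

theorem MU.one_θ (h : MU ρ t η α β) (g : SL2 R) : (1 - ρ 1) * h.θ g = 1 - ρ 1 := by
  simp [h.θ_val, mul_add, sub_mul, mul_sub, h.one_F, h.mul]
theorem MU.comm_θ (h : MU ρ t η α β) (g : SL2 R) : ρ 1 * h.θ g = h.θ g * ρ 1 := by
  simp [h.θ_val, mul_add, sub_mul, mul_sub, add_mul, h.one_F, h.F_one]

/-- the subgroup `⟨1 + kα, 1 + kβ⟩` -/
def H0 (k : Type u) [Field k] [Algebra k Λ] (α β : Λ) : Subgroup Λˣ :=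
  closure ({g : Λˣ | ∃ c : k, (g : Λ) = 1 + c • α} ∪ {g : Λˣ | ∃ c : k, (g : Λ) = 1 + c • β})

theorem H0_left (h : α * α = 0) : Q k (H0 k α β) α :=
  ⟨h, fun c => ⟨un (c • α) (by simp [h]), subset_closure (Or.inl ⟨c, rfl⟩), rfl⟩⟩
theorem H0_right (h : β * β = 0) : Q k (H0 k α β) β :=
  ⟨h, fun c => ⟨un (c • β) (by simp [h]), subset_closure (Or.inr ⟨c, rfl⟩), rfl⟩⟩
theorem H0_le (h : Q k G α) (h' : Q k G β) : H0 k α β ≤ G := (closure_le _).2 (by
  rintro g (⟨c, e⟩ | ⟨c, e⟩)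
  · exact in_val.1 (e ▸ h.mem c)
  · exact in_val.1 (e ▸ h'.mem c))
theorem inv_val {g : Λˣ} (h : α * α = 0) (e : (g : Λ) = 1 + α) : ((g⁻¹ : Λˣ) : Λ) = 1 - α := by
  rw [show g = un α h from Units.ext e, un_inv]
theorem aug_H0 (h : α * α = 0) (h' : β * β = 0) {N : Submodule k Λ} (hN : N * N ≤ N) (ha : α ∈ N) (hb : β ∈ N) :
    aug k (H0 k α β) ≤ N := aug_closure_le hN (by
  rintro g (⟨c, e⟩ | ⟨c, e⟩) <;> rw [inv_val (by simp [h, h']) e, e]
  · simpa using N.smul_mem c ha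
  · simpa using N.smul_mem c hb)

theorem aug_pow_kill (h : α * α = 0) (h' : β * β = 0) {f : Λ} {m : ℕ} (hf : f * (α * β + β * α) ^ m = 0) :
    ∀ x ∈ aug k (H0 k α β) ^ (2 * m + 1), f * x = 0 := by
  set T := Submodule.span k {α, β} with hT
  let A : Submodule k Λ := ⨆ l, T ^ l
  have AA : A * A ≤ A := by
    simp only [A, Submodule.iSup_mul, Submodule.mul_iSup, ← pow_add]
    exact iSup_le fun i => iSup_le fun j => le_iSup (fun l => T ^ l) _
  have AT : A * T ≤ T * A := by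
    simp only [A, Submodule.iSup_mul, Submodule.mul_iSup, ← pow_succ, ← pow_succ']
    rfl
  have TA : T * A ≤ A := by
    refine (mul_le_mul_left (show T ≤ A from le_iSup_of_le 1 (by simp)) _).trans AA
  have T1 : T ≤ T * A := by
    conv_lhs => rw [← mul_one T]
    exact mul_le_mul_right (le_iSup_of_le 0 (by simp)) _
  have W : aug k (H0 k α β) ≤ T * A := aug_H0 h h'
    ((mul_le_mul_right TA _).trans (by rw [mul_assoc]; exact mul_le_mul_right AA _))
    (T1 (Submodule.subset_span (by simp))) (T1 (Submodule.subset_span (by simp)))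
  have P : ∀ n, (T * A) ^ n ≤ T ^ n * A := fun n => by
    induction n with
    | zero => simpa using (le_iSup_of_le 0 (by simp) : 1 ≤ A)
    | succ n ih =>
      calc (T * A) ^ (n + 1) ≤ T ^ n * A * (T * A) := by rw [pow_succ]; exact mul_le_mul_left ih _
        _ = T ^ n * (A * T * A) := by simp only [mul_assoc]
        _ ≤ T ^ n * (T * A * A) := mul_le_mul_right (mul_le_mul_left AT _) _
        _ ≤ T ^ n * (T * A) := by rw [mul_assoc T]; exact mul_le_mul_right (mul_le_mul_right AA _) _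
        _ = _ := by rw [pow_succ, mul_assoc]
  have h1 : ∀ x, α * (α * x) = 0 := fun x => by rw [← mul_assoc, h, zero_mul]
  have h2 : ∀ x, β * (β * x) = 0 := fun x => by rw [← mul_assoc, h', zero_mul]
  have S : ∀ j, T ^ (2 * j + 1) ≤ T.map (LinearMap.mulLeft k ((α * β + β * α) ^ j)) := fun j => by
    induction j with
    | zero => simp
    | succ j ih =>
      rw [show 2 * (j + 1) + 1 = 2 * j + 1 + 1 + 1 by ring, pow_succ, pow_succ]
      refine (mul_le_mul_left (mul_le_mul_left ih _) _).trans (Submodule.mul_le.2 fun x hx z hz => ?_)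
      refine Submodule.mul_induction_on hx ?_ fun x y hx hy => by rw [add_mul]; exact add_mem hx hy
      rintro _ ⟨x, hx, rfl⟩ y hy
      obtain ⟨a, b, rfl⟩ := Submodule.mem_span_pair.1 hx
      obtain ⟨c, d, rfl⟩ := Submodule.mem_span_pair.1 hy
      obtain ⟨u, v, rfl⟩ := Submodule.mem_span_pair.1 hz
      refine ⟨_, Submodule.mem_span_pair.2 ⟨a * d * u, b * c * v, rfl⟩, ?_⟩
      simp only [LinearMap.mulLeft_apply, pow_succ, mul_assoc]
      congr 1
      simp [mul_add, add_mul, mul_assoc, h, h', h1, h2, smul_smul]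
      module
  intro x hx
  refine Submodule.mul_induction_on (((pow_le_pow_left' W _).trans ((P _).trans (mul_le_mul_left (S m) _))) hx) ?_
    fun x y hx hy => by rw [mul_add, hx, hy, add_zero]
  rintro _ ⟨x, -, rfl⟩ y -
  simp [← mul_assoc, hf]

/-- the diagonal matrix -/
def dg (u v : R) (h : u * v = 1) : SL2 R := ⟨!![u, 0; 0, v], by simp [Matrix.det_fin_two, h]⟩

theorem dg_mem {X : Subgroup (SL2 R)} (hU : ∀ r, xU r ∈ X) (hL : ∀ r, xL r ∈ X) (u v : R) (h : u * v = 1) :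
    dg u v h ∈ X := by
  have : dg u v h = xU u * xL (-v) * xU u * (xU (-1) * xL 1 * xU (-1)) := by
    apply sl2_ext <;> simp [dg, Matrix.mul_apply, Fin.sum_univ_two] <;> grind
  rw [this]
  exact mul_mem (mul_mem (mul_mem (hU _) (hL _)) (hU _)) (mul_mem (mul_mem (hU _) (hL _)) (hU _))
theorem comm_dg_U (u v s : R) (h : u * v = 1) : ⁅xU s, dg u v h⁆ = xU (s * (1 - u ^ 2)) := by
  rw [commutatorElement_def, ← xU_neg, mul_inv_eq_iff_eq_mul]
  apply sl2_ext <;> simp only [sl2_mul_val, Matrix.mul_apply, Fin.sum_univ_two] <;> simp [dg]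
  grind
theorem comm_dg_L (u v s : R) (h : u * v = 1) : ⁅xL s, dg u v h⁆ = xL (s * (1 - v ^ 2)) := by
  rw [commutatorElement_def, ← xL_neg, mul_inv_eq_iff_eq_mul]
  apply sl2_ext <;> simp only [sl2_mul_val, Matrix.mul_apply, Fin.sum_univ_two] <;> simp [dg]
  grind

theorem MU.lift [FiniteDimensional k R] (h : MU ρ t η α β) (hk : Big k) (hg : Algebra.adjoin k {t} = ⊤) {m : ℕ}
    (hm : ρ 1 * (α * β + β * α) ^ m = (α * β + β * α) ^ m) (r : R) :
    h.θ (xU r) ∈ H0 k α β ∧ h.θ (xL r) ∈ H0 k α β := by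
  let Γ : Subgroup Λˣ → Subgroup (SL2 R) := fun K =>
    { carrier := {g | ∃ y ∈ K, ρ 1 * y = ρ 1 * h.θ g}
      one_mem' := ⟨1, one_mem _, by simp⟩
      mul_mem' := by
        rintro g g' ⟨y, hy, e⟩ ⟨y', hy', e'⟩
        refine ⟨y * y', mul_mem hy hy', ?_⟩
        rw [Units.val_mul, ← mul_assoc, e, h.comm_θ, mul_assoc, e', ← mul_assoc, ← h.comm_θ, map_mul, Units.val_mul,
          mul_assoc]
      inv_mem' := by
        rintro g ⟨y, hy, e⟩
        refine ⟨y⁻¹, inv_mem hy, ?_⟩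
        rw [h.comm_θ, map_inv, Units.eq_inv_mul_iff_mul_eq, ← mul_assoc, ← h.comm_θ, ← e]
        simp }
  have cm : ∀ n, ∀ g ∈ Γ ((H0 k α β).lowerCentralSeries n), ∀ g' ∈ Γ (H0 k α β),
      ⁅g, g'⁆ ∈ Γ ((H0 k α β).lowerCentralSeries (n + 1)) := by
    rintro n g ⟨y, hy, e⟩ g' ⟨y', hy', e'⟩
    refine ⟨⁅y, y'⁆, commutator_mem_commutator hy hy', ?_⟩
    let P : Subgroup (SL2 R × Λˣ) :=
      { carrier := {p | ρ 1 * p.2 = ρ 1 * h.θ p.1}
        one_mem' := by simp
        mul_mem' := fun {p q} e e' => by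
          rw [Set.mem_setOf_eq] at *
          rw [Prod.snd_mul, Units.val_mul, ← mul_assoc, e, h.comm_θ, mul_assoc, e', ← mul_assoc, ← h.comm_θ,
            Prod.fst_mul, map_mul, Units.val_mul, mul_assoc]
        inv_mem' := fun {p} e => by
          rw [Set.mem_setOf_eq] at *
          rw [h.comm_θ, Prod.fst_inv, map_inv, Units.eq_inv_mul_iff_mul_eq, ← mul_assoc, ← h.comm_θ, ← e]
          simp }
    have a : (g, y) ∈ P := e
    have b : (g', y') ∈ P := e'
    exact P.mul_mem (mul_mem (mul_mem a b) (inv_mem a)) (inv_mem b)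
  have sm : ∀ c : k, ρ (algebraMap k R c) = c • ρ 1 := fun c => by rw [← map_smul, Algebra.algebraMap_eq_smul_one]
  have gen : Gen k t (Γ (H0 k α β)) := ⟨fun c => ?_, fun c => ?_⟩
  rotate_left
  · obtain ⟨y, hy, e⟩ := (H0_left (β := β) h.aa).mem c
    exact ⟨y, hy, by simp [e, h.θ_xU, sm, mul_add, h.mul']⟩
  · obtain ⟨y, hy, e⟩ := (H0_right (α := α) h.bb).mem c
    exact ⟨y, hy, by simp [e, h.θ_xL, mul_assoc, h.inv, sm, mul_add, h.mul']⟩
  have hU := gen_unit hk _ le_rfl h.inv hg gen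
  have hL := xL_of_xU h.inv hU (by simpa using gen.L 1)
  obtain ⟨c, c0, c1⟩ := hk.ex
  have key : ∀ n, ∀ r, xU r ∈ Γ ((H0 k α β).lowerCentralSeries n) ∧ xL r ∈ Γ ((H0 k α β).lowerCentralSeries n) := by
    intro n
    induction n with
    | zero => exact fun r => ⟨hU r, hL r⟩
    | succ n ih =>
      intro r
      have e := alg_inv (R := R) (sub_ne_zero.2 c1.symm)
      have e' : r * algebraMap k R (1 - c ^ 2)⁻¹ * (1 - algebraMap k R c ^ 2) = r := by
        simp only [map_sub, map_pow, map_one] at e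
        linear_combination r * e
      constructor
      · rw [← e', ← comm_dg_U _ _ _ (alg_inv c0)]
        exact cm n _ (ih _).1 _ (dg_mem hU hL _ _ _)
      · rw [← e', ← comm_dg_L _ _ _ ((mul_comm _ _).trans (alg_inv c0))]
        exact cm n _ (ih _).2 _ (dg_mem hU hL _ _ _)
  have fin : ∀ g ∈ Γ ((H0 k α β).lowerCentralSeries (2 * m)), h.θ g ∈ H0 k α β := by
    rintro g ⟨y, hy, e⟩
    obtain ⟨h1, h2⟩ := lcs_mem (k := k) _ y hy
    have h3 := aug_pow_kill h.aa h.bb (f := 1 - ρ 1) (by rw [sub_mul, hm, one_mul, sub_self]) _ h2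
    have h4 := h.one_θ g
    rwa [show h.θ g = y from Units.ext (by linear_combination (norm := noncomm_ring) h4 - h3 - e)]
  exact ⟨fin _ (key _ r).1, fin _ (key _ r).2⟩

theorem comm_zeta (ha : α * α = 0) : Commute α (α * β + β * α) := by
  simp [Commute, SemiconjBy, mul_add, add_mul, mul_assoc, ha, ← mul_assoc α α]

open Polynomial in
theorem exists_mu [FiniteDimensional k Λ] (ha : α * α = 0) (hb : β * β = 0) :
    ∃ (R : Type u) (_ : CommRing R) (_ : Algebra k R) (_ : FiniteDimensional k R) (ρ : R →ₗ[k] Λ) (t η : R),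
      MU ρ t η α β ∧ Algebra.adjoin k {t} = ⊤ ∧ Function.Injective ρ ∧
      ∃ m, ρ 1 * (α * β + β * α) ^ m = (α * β + β * α) ^ m := by
  set ζ := α * β + β * α with hζ
  have hi : IsIntegral k ζ := Algebra.IsIntegral.isIntegral ζ
  obtain ⟨q, e, hq⟩ := exists_eq_pow_rootMultiplicity_mul_and_not_dvd _ (minpoly.ne_zero hi) 0
  set m := rootMultiplicity 0 (minpoly k ζ)
  rw [map_zero, sub_zero] at e hq
  rw [X_dvd_iff] at hq
  let u : k[X] := -C (q.coeff 0)⁻¹ * q.divX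
  let φ := aeval (R := k) ζ
  have h1 : φ (X ^ m * (X * u)) = φ (X ^ m) := by
    have : X ^ m * (X * u) = X ^ m - C (q.coeff 0)⁻¹ * minpoly k ζ := by
      have h1 := X_mul_divX_add q
      have h2 : C (q.coeff 0)⁻¹ * C (q.coeff 0) = 1 := by rw [← map_mul, inv_mul_cancel₀ hq, map_one]
      simp only [u]
      linear_combination C (q.coeff 0)⁻¹ * e - X ^ m * C (q.coeff 0)⁻¹ * h1 + X ^ m * h2
    rw [this, map_sub, map_mul, minpoly.aeval, mul_zero, sub_zero]
  have h2 : ∀ j, φ (X ^ m * (X * u) ^ j) = φ (X ^ m) := fun j => by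
    induction j with
    | zero => simp
    | succ j ih => rw [pow_succ', ← mul_assoc, map_mul, h1, ← map_mul, ih]
  let ε : k[X] := (X * u) ^ m
  have h3 : ∀ j, φ (ε * (X * u) ^ j) = φ ε := fun j => by
    rw [show ε * (X * u) ^ j = u ^ m * (X ^ m * (X * u) ^ j) by simp only [ε]; ring, map_mul, h2, ← map_mul]
    congr 1
    simp only [ε]; ring
  let ρ₀ : k[X] →ₗ[k] Λ := φ.toLinearMap ∘ₗ LinearMap.mulLeft k ε
  let I : Ideal k[X] := Submodule.comap (LinearMap.mulLeft k[X] ε) (RingHom.ker φ)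
  let ρ : (k[X] ⧸ I) →ₗ[k] Λ := (I.restrictScalars k).liftQ ρ₀ (fun x hx => hx) ∘ₗ
    (Submodule.Quotient.restrictScalarsEquiv k I).symm.toLinearMap
  have hρ : ∀ p, ρ (Ideal.Quotient.mk I p) = φ (ε * p) := fun p => rfl
  have inj : Function.Injective ρ := (injective_iff_map_eq_zero ρ).2 fun r hr => by
    obtain ⟨p, rfl⟩ := Ideal.Quotient.mk_surjective r
    exact Ideal.Quotient.eq_zero_iff_mem.2 hr
  have cm : ∀ x, Commute x ζ → ∀ r, x * ρ r = ρ r * x := fun x hx r => by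
    obtain ⟨p, rfl⟩ := Ideal.Quotient.mk_surjective r
    exact Algebra.commute_of_mem_adjoin_singleton_of_commute (aeval_mem_adjoin_singleton k ζ) hx
  have h0 : ρ 1 = φ ε := by simpa using hρ 1
  refine ⟨k[X] ⧸ I, inferInstance, inferInstance, Module.Finite.of_injective ρ inj, ρ, Ideal.Quotient.mk I X,
    Ideal.Quotient.mk I u, ⟨ha, hb, fun r s => ?_, cm α ?_, cm β ?_, ?_, ?_⟩, ?_, inj, m, ?_⟩
  · obtain ⟨p, rfl⟩ := Ideal.Quotient.mk_surjective r
    obtain ⟨p', rfl⟩ := Ideal.Quotient.mk_surjective s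
    rw [← map_mul (Ideal.Quotient.mk I), hρ, hρ, hρ, ← map_mul, show ε * p * (ε * p') = ε * ε * (p * p') by ring, map_mul, h3, ← map_mul]
  · exact comm_zeta ha
  · rw [hζ, add_comm]; exact comm_zeta hb
  · rw [h0, hρ, map_mul, aeval_X]
  · apply inj
    rw [← map_mul, hρ, h0, ← h3 1, pow_one]
  · rw [← Ideal.Quotient.mkₐ_eq_mk k, ← Set.image_singleton, ← AlgHom.map_adjoin, adjoin_X, Algebra.map_top,
      AlgHom.range_eq_top]
    exact Ideal.Quotient.mk_surjective
  · have := h2 m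
    rw [mul_comm, map_mul, map_pow φ X, aeval_X] at this
    rwa [h0]

end
end H20.QP
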