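import Cfsg.Agent.H20.QP1

/-! Quadratic pairs, part 2: minimal quadratic elements `D G α`, the spaces `cE G α` and root subgroups `E G α`,
the partner of an opposite element, rank one pairs (`D.special`) and the commutator case. -/

set_option autoImplicit false
set_option linter.unusedSectionVars false
set_option linter.unusedVariables false

namespace H20.QP
open Subgroup H28 Cfsg LinearMap Module
open scoped commutatorElement

universe u
variable {k : Type u} [Field k] {M : Type*} [AddCommGroup M] [Module k M] [FiniteDimensional k M]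
  {G : Subgroup (End k M)ˣ} {α β γ δ τ x y α' β' : End k M} {g : (End k M)ˣ}

/-- the rank -/
noncomputable abbrev rk (α : End k M) : ℕ := finrank k (range α)

theorem zr (h : range β ≤ range α) (e : x * α = 0) : x * β = 0 := range_le_ker_iff.1 (h.trans (range_le_ker_iff.2 e))
theorem zl (h : ker α ≤ ker β) (e : α * y = 0) : β * y = 0 := range_le_ker_iff.1 ((range_le_ker_iff.2 e).trans h)
theorem rml (α y : End k M) : range (α * y) ≤ range α := range_comp_le_range _ _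
theorem kml (x α : End k M) : ker α ≤ ker (x * α) := ker_le_ker_comp _ _
theorem rk_mul_left (x α : End k M) : rk (x * α) ≤ rk α := by
  rw [rk, show range (x * α) = (range α).map x from range_comp _ _]; exact Submodule.finrank_map_le _ _
theorem rk_mul_right (α y : End k M) : rk (α * y) ≤ rk α := Submodule.finrank_mono (rml _ _)
theorem rk_mul_add (α β : End k M) : rk (β * α) + finrank k ↥(range α ⊓ ker β) = rk α := by
  have := finrank_range_add_finrank_ker (β.domRestrict (range α))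
  rw [range_domRestrict, ker_domRestrict, ← Submodule.finrank_map_subtype_eq (range α), Submodule.map_comap_subtype] at this
  rwa [rk, show range (β * α) = (range α).map β from range_comp _ _]

/-- minimal quadratic elements -/
structure D (G : Subgroup (End k M)ˣ) (α : End k M) : Prop extends Q k G α where
  ne : α ≠ 0
  min : ∀ β, Q k G β → β ≠ 0 → rk α ≤ rk β

theorem D.range_eq (h : D G α) (h' : Q k G β) (h0 : β ≠ 0) (e : range β ≤ range α) : range β = range α :=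
  Submodule.eq_of_le_of_finrank_le e (h.min β h' h0)
theorem D.ker_eq (h : D G α) (h' : Q k G β) (h0 : β ≠ 0) (e : ker α ≤ ker β) : ker α = ker β := by
  refine Submodule.eq_of_le_of_finrank_le e ?_
  have := finrank_range_add_finrank_ker α
  have := finrank_range_add_finrank_ker β
  have := h.min β h' h0
  simp only [rk] at this
  omega
theorem D.of_rk (h : D G α) (h' : Q k G β) (h0 : β ≠ 0) (e : rk β ≤ rk α) : D G β :=
  ⟨h', h0, fun γ h1 h2 => e.trans (h.min γ h1 h2)⟩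
theorem D.rk_eq (h : D G α) (h' : D G β) : rk α = rk β := le_antisymm (h.min _ h'.toQ h'.ne) (h'.min _ h.toQ h.ne)
theorem D.conj (h : D G α) (hg : g ∈ G) : D G (g * α * (g⁻¹ : (End k M)ˣ)) :=
  h.of_rk (h.toQ.conj hg) (by simpa using h.ne) ((rk_mul_right _ _).trans (rk_mul_left _ _))
theorem D.conj' (h : D G α) (h' : Q k G β) : D G ((1 + β) * α * (1 - β)) := h.conj h'.one

/-- the quadratic elements with the same action as `α` -/
def cE (G : Subgroup (End k M)ˣ) (α : End k M) : Submodule k (End k M) where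
  carrier := {β | Q k G β ∧ range β ≤ range α ⊓ ker α ∧ ker α ≤ ker β}
  zero_mem' := ⟨Q.zero, by simp, by simp⟩
  add_mem' := by
    rintro β γ ⟨a, b, c⟩ ⟨a', b', c'⟩
    refine ⟨a.add a' (range_le_ker_iff.1 ((b'.trans inf_le_right).trans c))
      (range_le_ker_iff.1 ((b.trans inf_le_right).trans c')), ?_, fun m hm => ?_⟩
    · rintro _ ⟨m, rfl⟩
      exact add_mem (b ⟨m, rfl⟩) (b' ⟨m, rfl⟩)
    · rw [mem_ker, LinearMap.add_apply, c hm, c' hm, add_zero]
  smul_mem' := by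
    rintro c β ⟨a, b, d⟩
    refine ⟨a.smul c, ?_, fun m hm => ?_⟩
    · rintro _ ⟨m, rfl⟩
      exact Submodule.smul_mem _ c (b ⟨m, rfl⟩)
    · rw [mem_ker, LinearMap.smul_apply, d hm, smul_zero]

theorem mem_cE (h : α * α = 0) : β ∈ cE G α ↔ Q k G β ∧ range β ≤ range α ∧ ker α ≤ ker β :=
  ⟨fun e => ⟨e.1, e.2.1.trans inf_le_left, e.2.2⟩,
    fun e => ⟨e.1, le_inf e.2.1 (e.2.1.trans (range_le_ker_iff.2 h)), e.2.2⟩⟩
theorem cE_q (h : β ∈ cE G α) : Q k G β := h.1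
theorem cE_r (h : β ∈ cE G α) : range β ≤ range α := h.2.1.trans inf_le_left
theorem cE_k (h : β ∈ cE G α) : ker α ≤ ker β := h.2.2
theorem cE_mul (h : β ∈ cE G α) (h' : γ ∈ cE G α) : β * γ = 0 :=
  range_le_ker_iff.1 ((h'.2.1.trans inf_le_right).trans h.2.2)
theorem Q.mem_cE (h : Q k G α) : α ∈ cE G α := (QP.mem_cE h.sq).2 ⟨h, le_rfl, le_rfl⟩
theorem cE_congr (e : range α = range β) (e' : ker α = ker β) : cE G α = cE G β := by
  ext γ; change _ ∧ _ ↔ _ ∧ _; rw [e, e']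
theorem D.of_cE (h : D G α) (h' : β ∈ cE G α) (h0 : β ≠ 0) : D G β ∧ range β = range α ∧ ker β = ker α :=
  ⟨h.of_rk h'.1 h0 (Submodule.finrank_mono (cE_r h')), h.range_eq h'.1 h0 (cE_r h'), (h.ker_eq h'.1 h0 h'.2.2).symm⟩
theorem D.cE_eq (h : D G α) (h' : β ∈ cE G α) (h0 : β ≠ 0) : cE G β = cE G α :=
  cE_congr (h.of_cE h' h0).2.1 (h.of_cE h' h0).2.2
theorem cE_conj (hg : g ∈ G) (h : β ∈ cE G α) : g * β * (g⁻¹ : (End k M)ˣ) ∈ cE G (g * α * (g⁻¹ : (End k M)ˣ)) := by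
  have e : ∀ m, ((g⁻¹ : (End k M)ˣ) : End k M) ((g : End k M) m) = m := fun m => by
    rw [← End.mul_apply, Units.inv_mul, End.one_apply]
  have e' : ∀ m, (g : End k M) m = 0 → m = 0 := fun m h => by rw [← e m, h, map_zero]
  refine ⟨h.1.conj hg, ?_, fun m hm => ?_⟩
  · rintro _ ⟨m, rfl⟩
    obtain ⟨⟨m', h1⟩, h2⟩ := h.2.1 ⟨((g⁻¹ : (End k M)ˣ) : End k M) m, rfl⟩
    exact ⟨⟨(g : End k M) m', by simpa [e] using congrArg (g : End k M) h1⟩, by
      simpa [e] using congrArg (g : End k M) h2⟩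
  · simpa using congrArg (g : End k M) (h.2.2 (e' _ hm))

/-- the root subgroup `1 + cE G α` -/
def E (G : Subgroup (End k M)ˣ) (α : End k M) : Subgroup (End k M)ˣ where
  carrier := {g | (g : End k M) - 1 ∈ cE G α}
  one_mem' := by simp
  mul_mem' := fun {a b} ha hb => by
    rw [Set.mem_setOf_eq] at *
    have := cE_mul ha hb
    convert add_mem ha hb using 1
    rw [Units.val_mul]
    linear_combination (norm := noncomm_ring) this
  inv_mem' := fun {a} ha => by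
    rw [Set.mem_setOf_eq] at *
    rw [inv_val (cE_mul ha ha) (by simp)]
    convert neg_mem ha using 1
    abel

theorem mem_E : g ∈ E G α ↔ (g : End k M) - 1 ∈ cE G α := Iff.rfl
theorem un_mem {h : β * β = 0} : un β h ∈ E G α ↔ β ∈ cE G α := by simp [mem_E]
theorem E_cases (hg : g ∈ E G α) : ∃ β, ∃ h : β ∈ cE G α, g = un β h.1.sq := ⟨_, hg, Units.ext (by simp)⟩
theorem un_eq_one {h : β * β = 0} : un β h = 1 ↔ β = 0 := by simp [Units.ext_iff]
theorem E_le : E G α ≤ G := fun g hg => by obtain ⟨β, h, rfl⟩ := E_cases hg; exact h.1.one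
theorem E_congr (h : cE G α = cE G β) : E G α = E G β := by ext g; rw [mem_E, mem_E, h]
theorem cE_of_E (h : E G α = E G β) : cE G α = cE G β := by
  ext γ
  exact ⟨fun e => (un_mem (h := e.1.sq)).1 (h ▸ un_mem.2 e), fun e => (un_mem (h := e.1.sq)).1 (h ▸ un_mem.2 e)⟩
theorem D.E_eq (h : D G α) (h' : β ∈ cE G α) (h0 : β ≠ 0) : E G β = E G α := E_congr (h.cE_eq h' h0)
theorem E_neg (h : D G α) : E G (-α) = E G α := h.E_eq (neg_mem h.mem_cE) (neg_ne_zero.2 h.ne)
theorem cj_E (hg : g ∈ G) : cj g (E G α) = E G (g * α * (g⁻¹ : (End k M)ˣ)) := by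
  ext x
  rw [mem_cj, mem_E, mem_E]
  constructor
  · intro h
    simpa [mul_sub, sub_mul, mul_assoc] using cE_conj hg h
  · intro h
    simpa [mul_sub, sub_mul, mul_assoc] using cE_conj (inv_mem hg) h
theorem finrank_cE (hg : g ∈ G) (h : cj g (E G α) = E G β) : finrank k (cE G α) ≤ finrank k (cE G β) := by
  rw [cj_E hg] at h
  rw [← cE_of_E h]
  refine LinearMap.finrank_le_finrank_of_injective (f := (mulRight k ((g⁻¹ : (End k M)ˣ) : End k M) ∘ₗ
    mulLeft k (g : End k M)).restrict fun β hβ => cE_conj hg hβ) fun a b e => Subtype.ext ?_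
  have : (g : End k M) * a * (g⁻¹ : (End k M)ˣ) = g * b * (g⁻¹ : (End k M)ˣ) := congrArg Subtype.val e
  simpa using this
theorem E_comm : IsMulCommutative (E G α) := comm_of_commute fun a ha b hb => Units.ext (by
  have h1 := cE_mul ha hb
  have h2 := cE_mul hb ha
  simp only [Units.val_mul]
  linear_combination (norm := noncomm_ring) h1 - h2)
theorem D.E_ne_bot (h : D G α) : E G α ≠ ⊥ := fun e => h.ne (un_eq_one.1 (e.le (un_mem.2 h.mem_cE) : un α h.sq = 1))

theorem D.nil (h2 : (2 : k) ≠ 0) (h : D G α) (n : ℕ) : ∀ β, Q k G β → (α * β + β * α) ^ n * α = 0 → α * β * α = 0 := by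
  have base : ∀ β, Q k G β → α * β * α * β * α = 0 → α * β * α = 0 := fun β h' e => by
    by_contra hne
    have := h.range_eq (h.toQ.triple h2 h' e) hne (by rw [mul_assoc]; exact rml _ _)
    exact hne (zr this.ge (by simpa [mul_assoc] using e))
  induction n using Nat.strong_induction_on with
  | _ n ih =>
    intro β h' e
    match n, ih, e with
    | 0, _, e => exact absurd (by simpa using e) h.ne
    | 1, _, e => simpa [add_mul, mul_assoc, h.sq] using e
    | 2, _, e => exact base β h' (by simpa [pow_two, add_mul, mul_add, mul_assoc, h.sq, h.sq', h'.sq'] using e)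
    | n + 3, ih, e =>
      refine base β h' ?_
      have := ih (n + 2) (by omega) _ (h.toQ.conj' h') (by
        have e1 : α * ((1 + β) * α * (1 - β)) + (1 + β) * α * (1 - β) * α = -(α * β + β * α) ^ 2 := by
          simp [pow_two, add_mul, mul_add, mul_sub, sub_mul, mul_assoc, h.sq, h.sq', h'.sq']
          abel
        rw [e1, neg_pow, ← pow_mul, show 2 * (n + 2) = n + 1 + (n + 3) by ring, pow_add _ (n + 1), mul_assoc,
          mul_assoc, e]
        simp)
      simpa [add_mul, mul_add, mul_sub, sub_mul, mul_assoc, h.sq, h.sq', h'.sq'] using this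

theorem D.mu (hk : Big k) (h : D G α) (h' : Q k G τ) (hne : α * τ * α ≠ 0) :
    ∃ (R : Type u) (_ : CommRing R) (_ : Algebra k R) (_ : FiniteDimensional k R) (ρ : R →ₗ[k] End k M) (t η : R)
      (H : MU ρ t η α τ), Algebra.adjoin k {t} = ⊤ ∧ Function.Injective ρ ∧ ρ 1 * α = α ∧
      (∀ r, H.θ (xU r) ∈ H0 k α τ ∧ H.θ (xL r) ∈ H0 k α τ) ∧ ∀ r, Q k G (ρ r * α) ∧ Q k G (ρ r * τ) := by
  obtain ⟨R, _, _, _, ρ, t, η, H, hg, inj, m, hm⟩ := exists_mu (k := k) h.sq h'.sq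
  have hl := H.lift hk hg hm
  have hq : ∀ r, Q k G (ρ r * α) ∧ Q k G (ρ r * τ) := fun r => by
    refine ⟨⟨by simp [mul_assoc, H.ca', H.aa], fun c => ⟨_, H0_le h.toQ h' (hl (c • r)).1, ?_⟩⟩,
      ⟨by simp [mul_assoc, H.symm.ca', H.bb], fun c => ⟨_, H0_le h.toQ h' (hl (c • r * t)).2, ?_⟩⟩⟩
    · simp [H.θ_xU]
    · simp [H.θ_xL, mul_assoc, H.inv]
  refine ⟨R, _, _, ‹_›, ρ, t, η, H, hg, inj, ?_, hl, hq⟩
  have h0 : ρ 1 * α ≠ 0 := fun e => hne (h.nil hk.two m τ h' (by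
    rw [← hm, mul_assoc, ← ((comm_zeta h.sq).pow_right m).eq, ← mul_assoc, e, zero_mul]))
  have := h.range_eq (hq 1).1 h0 (H.ca 1 ▸ rml _ _)
  have e := zr this.ge (x := 1 - ρ 1) (by simp [sub_mul, H.mul'])
  rw [sub_mul, one_mul, sub_eq_zero] at e
  exact e.symm

theorem D.partner' (hk : Big k) (h : D G α) (h' : Q k G τ) (hne : α * τ * α ≠ 0) :
    ∃ β, D G β ∧ α * β * α = α ∧ β * α * β = β ∧ range β ≤ range τ ∧ ker τ ≤ ker β ∧
      ∃ τ₁ ∈ cE G β, τ₁ ≠ 0 ∧ τ₁ * τ = 0 ∧ τ * τ₁ = 0 ∧ rk (τ - τ₁) < rk τ := by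
  obtain ⟨R, _, _, _, ρ, t, η, H, -, -, h1, -, hq⟩ := h.mu hk h' hne
  have e1 : α * (ρ η * τ) * α = α := by simp [mul_assoc, H.ca', H.aba, mul_comm η, H.inv, h1]
  have e2 : ρ η * τ * α * (ρ η * τ) = ρ η * τ := by
    simp [mul_assoc, H.ca', H.symm.ca', H.mul', H.symm.aba, mul_comm η t, H.inv]
  have h0 : ρ η * τ ≠ 0 := fun e => h.ne (by rw [← e1, e]; simp)
  have e3 : ρ 1 * τ = ρ t * (ρ η * τ) := by rw [H.mul', H.inv]
  have h3 : ρ 1 * τ ≠ 0 := fun e => h0 (by rw [← mul_one η, ← H.mul', e, mul_zero])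
  refine ⟨_, h.of_rk (hq η).2 h0 (e2 ▸ (rk_mul_right _ _).trans (rk_mul_left _ _)), e1, e2, H.cb η ▸ rml _ _, kml _ _,
    ρ 1 * τ, (mem_cE (hq η).2.sq).2 ⟨(hq 1).2, ?_, e3 ▸ kml _ _⟩, h3, by simp [mul_assoc, H.bb],
    by simp [H.symm.ca', H.bb], Submodule.finrank_lt_finrank_of_lt (lt_of_le_of_ne ?_ fun e => h3 ?_)⟩
  · rw [show ρ 1 * τ = ρ η * τ * ρ t by rw [mul_assoc, H.cb, H.mul', mul_comm η, H.inv]]
    exact rml _ _
  · rw [show τ - ρ 1 * τ = τ * (1 - ρ 1) by rw [mul_sub, mul_one, H.cb]]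
    exact rml _ _
  · exact zr e.ge (by simp [mul_sub, H.mul'])

theorem D.partner (hk : Big k) (h : D G α) (h' : D G β) (hne : α * β * α ≠ 0) :
    ∃ β' ∈ cE G β, α * β' * α = α ∧ β' * α * β' = β' := by
  obtain ⟨β', a, b, c, d, e, -⟩ := h.partner' hk h'.toQ hne
  exact ⟨β', (mem_cE h'.sq).2 ⟨a.toQ, d, e⟩, b, c⟩

theorem mid_zero (e : α * β * α = 0) (ha : x ∈ cE G α) (ha' : y ∈ cE G α) : x * (β * y) = 0 :=
  zl (cE_k ha) (by rw [← mul_assoc]; exact zr (cE_r ha') e)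

theorem D.opp_symm (hk : Big k) (h : D G α) (h' : D G β) (hne : α * β * α ≠ 0) : β * α * β ≠ 0 := fun e => by
  obtain ⟨β', a, b, c⟩ := h.partner hk h' hne
  have := mid_zero e a a
  rw [← mul_assoc, c] at this
  exact h.ne (by rw [← b, this]; simp)

theorem D.opp_of_mem (hk : Big k) (h : D G α) (h' : D G β) (hne : α * β * α ≠ 0) (ha : x ∈ cE G α) (h0 : x ≠ 0)
    (hb : y ∈ cE G β) (h1 : y ≠ 0) : x * y * x ≠ 0 := by
  have key : ∀ {α β x : End k M}, D G α → α * β * α ≠ 0 → x ∈ cE G α → x ≠ 0 → x * β * x ≠ 0 :=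
    fun h hne ha h0 e => hne (by
      rw [mul_assoc]; exact mid_zero e (h.cE_eq ha h0 ▸ h.mem_cE) (h.cE_eq ha h0 ▸ h.mem_cE))
  exact (h'.of_cE hb h1).1.opp_symm hk (h.of_cE ha h0).1
    (key h' ((h.of_cE ha h0).1.opp_symm hk h' (key h hne ha h0)) hb h1)

/-- the unipotent case -/
structure UC (G : Subgroup (End k M)ˣ) (α β : End k M) : Prop where
  a : D G α
  b : D G β
  aba : ∀ x ∈ cE G α, ∀ y ∈ cE G β, ∀ z ∈ cE G α, x * (y * z) = 0
  bab : ∀ x ∈ cE G β, ∀ y ∈ cE G α, ∀ z ∈ cE G β, x * (y * z) = 0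

theorem UC.symm (h : UC G α β) : UC G β α := ⟨h.b, h.a, h.bab, h.aba⟩

theorem D.uc (hk : Big k) (h : D G α) (h' : D G β) (e : α * β * α = 0) : UC G α β := by
  have key : ∀ {α β : End k M}, D G α → D G β → α * β * α = 0 →
      ∀ x ∈ cE G α, ∀ y ∈ cE G β, ∀ z ∈ cE G α, x * (y * z) = 0 := fun {α β} h h' e x hx y hy z hz => by
    by_cases h0 : y = 0
    · simp [h0]
    · refine mid_zero (by_contra fun hne => ?_) hx hz
      exact h.opp_of_mem hk (h'.of_cE hy h0).1 hne h.mem_cE h.ne (h'.cE_eq hy h0 ▸ h'.mem_cE) h'.ne e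
  exact ⟨h, h', key h h' e, key h' h (by_contra fun hne => h'.opp_symm hk h hne e)⟩

theorem aug_E : aug k (E G α) ≤ cE G α := aug_le.2 fun _ h => h

theorem UC.aug3 (h : UC G α β) : aug k (E G α ⊔ E G β) ^ 3 = ⊥ := by
  set A := cE G α
  set B := cE G β
  have z : ∀ {γ}, cE G γ * cE G γ = 0 := eq_bot_iff.2 (Submodule.mul_le.2 fun x hx y hy => cE_mul hx hy)
  have z' : ∀ {γ} X, cE G γ * (cE G γ * X) = 0 := fun X => by rw [← mul_assoc, z, zero_mul]
  have t : ∀ {α β}, UC G α β → cE G α * (cE G β * cE G α) = 0 := fun h => eq_bot_iff.2 (Submodule.mul_le.2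
    fun x hx y hy => Submodule.mul_induction_on hy (h.aba x hx) fun y z hy hz => by
      rw [mul_add]; exact add_mem hy hz)
  have t' : ∀ {α β}, UC G α β → ∀ X, cE G α * (cE G β * (cE G α * X)) = 0 := fun h X => by
    rw [← mul_assoc _ _ X, ← mul_assoc, t h, zero_mul]
  have NN : (A + B + A * B + B * A) * (A + B + A * B + B * A) = A * B + B * A := by
    simp only [A, B, mul_add, add_mul, mul_assoc, z, z', t h, t h.symm, t' h, t' h.symm, mul_zero, add_zero, zero_add]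
    abel
  have hN : aug k (E G α ⊔ E G β) ≤ A + B + A * B + B * A := (le_grp (hN := by
    rw [NN, add_assoc]; exact le_sup_right)).1 (sup_le (le_grp.2 (aug_E.trans (by
      rw [add_assoc, add_assoc]; exact le_sup_left))) (le_grp.2 (aug_E.trans (by
      rw [add_comm A, add_assoc, add_assoc]; exact le_sup_left))))
  refine eq_bot_iff.2 ((pow_le_pow_left' hN 3).trans (le_of_eq ?_))
  rw [pow_succ, pow_two, NN]
  simp only [A, B, mul_add, add_mul, mul_assoc, z, z', t h, t h.symm, t' h, t' h.symm, mul_zero, add_zero, zero_add]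
  rfl

theorem UC.unip (h : UC G α β) : Un k (E G α ⊔ E G β) := ⟨3, h.aug3⟩
theorem UC.class2 (h : UC G α β) : ⁅⁅E G α ⊔ E G β, E G α ⊔ E G β⁆, E G α ⊔ E G β⁆ = ⊥ :=
  eq_bot_iff.2 fun g hg => by
    have := (lcs_mem (k := k) 2 g hg).2
    rw [h.aug3, Submodule.mem_bot, sub_eq_zero] at this
    exact Units.ext this

theorem pt_rel {Λ : Type*} [Ring Λ] {α β : Λ} (ha : α * α = 0) (hb : β * β = 0) (h1 : α * β * α = α)
    (h2 : β * α * β = β) : (1 + β) * α * (1 - β) = -((1 + α) * β * (1 - α)) := by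
  linear_combination (norm := noncomm_ring) -h1 - h2

theorem D.exists_ptn (hk : Big k) (h : D G α) (h' : D G β) (hne : α * β * α ≠ 0) (ha : x ∈ cE G α) (h0 : x ≠ 0) :
    ∃ y, ∃ hy : y ∈ cE G β, y ≠ 0 ∧ x * y * x = x ∧ y * x * y = y ∧
      cj (un y hy.1.sq) (E G α) = cj (un x ha.1.sq) (E G β) := by
  have hx := (h.of_cE ha h0).1
  obtain ⟨y, hy, e1, e2⟩ := hx.partner hk h' (h.opp_of_mem hk h' hne ha h0 h'.mem_cE h'.ne)
  have y0 : y ≠ 0 := fun e => h0 (by rw [← e1, e]; simp)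
  refine ⟨y, hy, y0, e1, e2, ?_⟩
  rw [← h.E_eq ha h0, ← h'.E_eq hy y0, cj_E hy.1.one, cj_E ha.1.one, un_val, un_inv, un_val, un_inv,
    pt_rel ha.1.sq hy.1.sq e1 e2, E_neg ((h'.of_cE hy y0).1.conj' ha.1)]

open scoped IsMulCommutative in
theorem D.r1 (hk : Big k) (h : D G α) (h' : D G β) (hne : α * β * α ≠ 0) : IsRankOnePair (E G α) (E G β) := by
  have key : ∀ {α β : End k M}, D G α → D G β → α * β * α ≠ 0 → RankOneCondition (E G α) (E G β) :=
    fun h h' hne => cond_iff.2 fun a ha h1 => by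
      obtain ⟨x, hx, rfl⟩ := E_cases ha
      obtain ⟨y, hy, y0, -, -, e⟩ := h.exists_ptn hk h' hne hx fun e => h1 (un_eq_one.2 e)
      exact ⟨_, un_mem.2 hy, fun e => y0 (un_eq_one.1 e), e⟩
  refine ⟨fun e => hne ?_, by have := @E_comm _ _ _ _ _ _ G α; infer_instance,
    by have := @E_comm _ _ _ _ _ _ G β; infer_instance, key h h' hne, key h' h (h.opp_symm hk h' hne)⟩
  rw [cE_mul h.mem_cE (cE_of_E e ▸ h'.mem_cE), zero_mul]

theorem D.special (hk : Big k) (h : D G α) (h' : D G β) (hne : α * β * α ≠ 0) :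
    IsSpecialRankOnePair (E G α) (E G β) := special_iff.2 ⟨h.r1 hk h' hne, fun a ha h1 b hb _ e => by
  obtain ⟨x, hx, rfl⟩ := E_cases ha
  obtain ⟨y, hy, y0, e1, e2, e'⟩ := h.exists_ptn hk h' hne hx fun e => h1 (un_eq_one.2 e)
  rw [r1_eq_of_cj_eq (r1_symm (h.r1 hk h' hne)) hb (un_mem.2 hy) (e.trans e'.symm)]
  ext1
  simp only [Units.val_mul, un_val, un_inv]
  linear_combination (norm := noncomm_ring) -e1 - e2 - hx.1.sq + hy.1.sq⟩

theorem D.uc_of_nilpotent (hk : Big k) (h : D G α) (h' : D G β) {U : Subgroup (End k M)ˣ} (hU : Group.IsNilpotent U)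
    (h1 : E G α ≤ U) (h2 : E G β ≤ U) : UC G α β :=
  h.uc hk h' (by_contra fun hne => r1_not_nilpotent (h.r1 hk h' hne) h1 h2 hU)
theorem D.opp_of_r1 (hk : Big k) (h : D G α) (h' : D G β) (hr : IsRankOnePair (E G α) (E G β)) : α * β * α ≠ 0 :=
  fun e => r1_not_nilpotent hr le_sup_left le_sup_right (h.uc hk h' e).unip.nilpotent

theorem UC.q (h : UC G α β) (hx : x ∈ cE G α) (hy : y ∈ cE G β) : Q k G (x * y - y * x) :=
  hx.1.comm hy.1 (by rw [mul_assoc]; exact h.aba _ hx _ hy _ hx) (by rw [mul_assoc]; exact h.bab _ hy _ hx _ hy)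
theorem UC.comm_un (h : UC G α β) (hx : x ∈ cE G α) (hy : y ∈ cE G β) :
    ⁅un x hx.1.sq, un y hy.1.sq⁆ = un (x * y - y * x) (h.q hx hy).sq := by
  ext1
  simp [commutatorElement_def, mul_add, add_mul, mul_sub, sub_mul, mul_assoc, hx.1.sq, hx.1.sq', hy.1.sq, hy.1.sq',
    h.aba _ hx _ hy _ hx, h.bab _ hy _ hx _ hy]
  abel

theorem UC.rle (h : UC G α β) (hx : x ∈ cE G α) (hy : y ∈ cE G β) : range (x * y) ≤ range α ⊓ ker β :=
  le_inf ((rml _ _).trans (cE_r hx)) (range_le_ker_iff.2 (h.bab _ h.b.mem_cE _ hx _ hy))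

/-- the commutator case -/
structure CC (G : Subgroup (End k M)ˣ) (α β : End k M) : Prop extends UC G α β where
  ne : α * β - β * α ≠ 0

theorem CC.symm (h : CC G α β) : CC G β α := ⟨h.toUC.symm, fun e => h.ne (by rw [← neg_sub, e, neg_zero])⟩

theorem CC.count (h : CC G α β) : D G (α * β - β * α) ∧ range (α * β) = range α ⊓ ker β ∧
    range (α * β) ⊓ range (β * α) = ⊥ ∧ range (α * β - β * α) = range (α * β) ⊔ range (β * α) := by
  have q := h.q h.a.mem_cE h.b.mem_cE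
  have h1 := h.rle h.a.mem_cE h.b.mem_cE
  have h2 : range (α * β - β * α) ≤ range (α * β) ⊔ range (β * α) := by
    rintro _ ⟨m, rfl⟩
    exact sub_mem (Submodule.mem_sup_left ⟨m, rfl⟩) (Submodule.mem_sup_right ⟨m, rfl⟩)
  have := Submodule.finrank_mono h1
  have := Submodule.finrank_mono h2
  have := rk_mul_add α β
  have := h.a.min _ q h.ne
  have := Submodule.finrank_sup_add_finrank_inf_eq (range (α * β)) (range (β * α))
  simp only [rk] at *
  exact ⟨h.a.of_rk q h.ne (by simp only [rk]; omega), Submodule.eq_of_le_of_finrank_le h1 (by omega),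
    Submodule.finrank_eq_zero.1 (by omega), Submodule.eq_of_le_of_finrank_le h2 (by omega)⟩

theorem CC.d (h : CC G α β) : D G (α * β - β * α) := h.count.1
theorem CC.rle' (h : CC G α β) : range α ⊓ ker β ≤ range (α * β - β * α) := by
  rw [h.count.2.2.2, h.count.2.1]; exact le_sup_left
theorem CC.cE_symm (h : CC G α β) : cE G (β * α - α * β) = cE G (α * β - β * α) :=
  h.d.cE_eq (by rw [← neg_sub (α * β)]; exact neg_mem h.d.mem_cE) h.symm.ne
theorem CC.kle (h : CC G α β) (hx : x ∈ cE G α) (hy : y ∈ cE G β) : ker (α * β - β * α) ≤ ker (x * y) := by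
  intro m hm
  have h1 : α (β m) = 0 := h.count.2.2.1.le ⟨⟨m, rfl⟩, m, (sub_eq_zero.1 hm).symm⟩
  obtain ⟨m', e⟩ := h.symm.count.2.1.ge ⟨⟨m, rfl⟩, h1⟩
  have h2 : y (m - α m') = 0 := cE_k hy (by rw [mem_ker, map_sub, ← e]; simp)
  rw [map_sub, sub_eq_zero] at h2
  rw [mem_ker, End.mul_apply, h2]
  exact congrArg (· m') (h.aba _ hx _ hy _ h.a.mem_cE)
theorem range_swap : range (β * α - α * β) = range (α * β - β * α) := by rw [← neg_sub, range_neg]
theorem ker_swap : ker (β * α - α * β) = ker (α * β - β * α) := by rw [← neg_sub, ker_neg]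
theorem CC.mem (h : CC G α β) (hx : x ∈ cE G α) (hy : y ∈ cE G β) : x * y - y * x ∈ cE G (α * β - β * α) := by
  refine (mem_cE h.d.sq).2 ⟨h.q hx hy, ?_, fun m hm => ?_⟩
  · rintro _ ⟨m, rfl⟩
    exact sub_mem (h.rle' (h.rle hx hy ⟨m, rfl⟩)) (range_swap.le (h.symm.rle' (h.toUC.symm.rle hy hx ⟨m, rfl⟩)))
  · rw [mem_ker, LinearMap.sub_apply, h.kle hx hy hm, h.symm.kle hy hx (ker_swap.ge hm), sub_zero]
theorem CC.ne' (h : CC G α β) (hx : x ∈ cE G α) (x0 : x ≠ 0) (hy : y ∈ cE G β) (y0 : y ≠ 0) : x * y - y * x ≠ 0 := by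
  intro e
  rw [sub_eq_zero] at e
  obtain ⟨-, a1, a2⟩ := h.a.of_cE hx x0
  obtain ⟨-, b1, b2⟩ := h.b.of_cE hy y0
  have h0 : x * y = 0 := range_eq_bot.1 (eq_bot_iff.2 (h.count.2.2.1 ▸ le_inf (h.count.2.1 ▸ h.rle hx hy)
    (e ▸ h.symm.count.2.1 ▸ h.toUC.symm.rle hy hx)))
  have h1 : α * β = 0 := zl a2.le (zr b1.ge h0)
  have h2 : β * α = 0 := zl b2.le (zr a1.ge (e ▸ h0))
  exact h.ne (by rw [h1, h2, sub_zero])
theorem CC.act (h : CC G α β) (hx : x ∈ cE G α) : range x ≤ ker (α * β - β * α) ∧ range (α * β - β * α) ≤ ker x ∧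
    ∀ m ∈ ker (α * β - β * α), x m ∈ range (α * β - β * α) := by
  have ha := h.a.mem_cE
  have hb := h.b.mem_cE
  refine ⟨range_le_ker_iff.2 (show (α * β - β * α) * x = 0 by simp [sub_mul, mul_assoc, h.aba _ ha _ hb _ hx, cE_mul ha hx]),
    range_le_ker_iff.2 (show x * (α * β - β * α) = 0 by
      simp [mul_sub, h.aba _ hx _ hb _ ha, ← mul_assoc x α, cE_mul hx ha]),
    fun m hm => h.rle' ⟨cE_r hx ⟨m, rfl⟩, h.symm.kle hb hx (ker_swap.ge hm)⟩⟩
theorem CC.ann (h : CC G α β) (hx : x ∈ cE G α) (hδ : δ ∈ cE G (α * β - β * α)) : x * δ = 0 ∧ δ * x = 0 :=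
  ⟨range_le_ker_iff.1 ((cE_r hδ).trans (h.act hx).2.1), range_le_ker_iff.1 ((h.act hx).1.trans (cE_k hδ))⟩

theorem UC.comm_or (h : UC G α β) : ⁅E G α, E G β⁆ = ⊥ ∨ CC G α β := by
  refine or_iff_not_imp_left.2 fun hne => ⟨h, fun e => hne (commutator_eq_bot_iff.2 fun a ha b hb => ?_)⟩
  obtain ⟨x, hx, rfl⟩ := E_cases ha
  obtain ⟨y, hy, rfl⟩ := E_cases hb
  rw [← commutatorElement_eq_one_iff_commute, h.comm_un hx hy, un_eq_one]
  by_contra h1
  have x0 : x ≠ 0 := fun e => h1 (by simp [e])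
  have y0 : y ≠ 0 := fun e => h1 (by simp [e])
  have e1 := h.a.cE_eq hx x0
  have e2 := h.b.cE_eq hy y0
  exact CC.ne' ⟨⟨(h.a.of_cE hx x0).1, (h.b.of_cE hy y0).1, by rw [e1, e2]; exact h.aba, by rw [e1, e2]; exact h.bab⟩, h1⟩
    (e1 ▸ h.a.mem_cE) h.a.ne (e2 ▸ h.b.mem_cE) h.b.ne e

end H20.QP
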