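import Cfsg.Agent.H20.QP2

/-! Quadratic pairs, part 3: partners (`Pt`), the central involution, `SL₂`-subgroups, existence of opposite elements
(`D.exists_opp`), the commutator case (`CC.rc`), and the dictionary with the frozen definitions. -/

set_option autoImplicit false
set_option linter.unusedSectionVars false
set_option linter.unusedVariables false

namespace H20.QP
open Subgroup H28 Cfsg LinearMap Module
open scoped commutatorElement

universe u
variable {k : Type u} [Field k] {M : Type*} [AddCommGroup M] [Module k M] [FiniteDimensional k M]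
  {G : Subgroup (End k M)ˣ} {α β γ δ τ x y α' β' : End k M} {g σ : (End k M)ˣ}

theorem sup_ind {Γ : Type*} [Group Γ] {A B : Subgroup Γ} {P : Γ → Prop} (hA : ∀ a ∈ A, P a) (hB : ∀ b ∈ B, P b)
    (hm : ∀ x y, P x → P y → P (x * y)) {g : Γ} (hg : g ∈ A ⊔ B) : P g := by
  refine iSup_induction (T := {A, B}) ?_ (hA 1 (one_mem _)) hm (by rwa [iSup_pair])
  rintro C (rfl | rfl) <;> assumption

theorem Big.card (hk : Big k) : 3 < ENat.card k := by
  classical
  obtain ⟨c, c0, c1⟩ := hk.ex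
  rw [sq, Ne, mul_self_eq_one_iff, not_or] at c1
  have h2 : (1 : k) ≠ -1 := fun e => hk.two (by linear_combination e)
  have : ({0, 1, -1, c} : Set k).encard = 4 := by
    rw [Set.encard_insert_of_notMem (by simp [c0.symm]), Set.encard_insert_of_notMem (by simp [h2, Ne.symm c1.1]),
      Set.encard_pair (Ne.symm c1.2)]
    rfl
  rw [← Set.encard_univ]
  exact lt_of_lt_of_le (by rw [this]; decide) (Set.encard_le_encard (Set.subset_univ {0, 1, -1, c}))

theorem D.card (hk : Big k) (h : D G α) : 3 < ENat.card (E G α) :=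
  hk.card.trans_le (ENat.card_le_card_of_injective
    (f := fun c : k => (⟨un (c • α) (h.toQ.smul c).sq, un_mem.2 (Submodule.smul_mem _ c h.mem_cE)⟩ : E G α))
    fun c d e => smul_left_injective k h.ne (by simpa [Units.ext_iff] using e))

theorem D.perfect (hk : Big k) (h : D G α) (h' : D G β) (hne : α * β * α ≠ 0) :
    ⁅E G α ⊔ E G β, E G α ⊔ E G β⁆ = E G α ⊔ E G β := special_le_commutator_sup (h.special hk h' hne) E_comm (h.card hk)

/-- partners -/
structure Pt (G : Subgroup (End k M)ˣ) (α β : End k M) : Prop where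
  a : D G α
  b : D G β
  aba : α * (β * α) = α
  bab : β * (α * β) = β

theorem D.exists_pt (hk : Big k) (h : D G α) (h' : D G β) (hne : α * β * α ≠ 0) :
    ∃ β', Pt G α β' ∧ E G β' = E G β := by
  obtain ⟨y, hy, y0, e1, e2, -⟩ := h.exists_ptn hk h' hne h.mem_cE h.ne
  exact ⟨y, ⟨h, (h'.of_cE hy y0).1, by rwa [← mul_assoc], by rwa [← mul_assoc]⟩, h'.E_eq hy y0⟩

theorem Pt.symm (h : Pt G α β) : Pt G β α := ⟨h.b, h.a, h.bab, h.aba⟩
theorem Pt.aba' (h : Pt G α β) (x : End k M) : α * (β * (α * x)) = α * x := by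
  simpa [mul_assoc] using congrArg (· * x) h.aba
theorem Pt.opp (h : Pt G α β) : α * β * α ≠ 0 := by rw [mul_assoc, h.aba]; exact h.a.ne
theorem Pt.ee (h : Pt G α β) : (α * β + β * α) * (α * β + β * α) = α * β + β * α := by
  simp [mul_add, add_mul, mul_assoc, h.aba', h.symm.aba', h.a.sq', h.b.sq', h.aba, h.bab]
theorem Pt.ea (h : Pt G α β) (hx : x ∈ cE G α) : (α * β + β * α) * x = x ∧ x * (α * β + β * α) = x := by
  have h1 := zr (cE_r hx) (x := α * β + β * α - 1) (by simp [sub_mul, add_mul, mul_assoc, h.aba, h.a.sq])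
  have h2 := zl (cE_k hx) (y := α * β + β * α - 1) (by simp [mul_sub, mul_add, h.aba, h.a.sq'])
  rw [sub_mul, one_mul, sub_eq_zero] at h1
  rw [mul_sub, mul_one, sub_eq_zero] at h2
  exact ⟨h1, h2⟩

theorem Pt.mu (h : Pt G α β) : MU (toSpanSingleton k _ (α * β + β * α)) 1 1 α β := by
  have a := h.ea h.a.mem_cE
  have b := h.symm.ea h.b.mem_cE
  rw [add_comm] at b
  exact ⟨h.a.sq, h.b.sq, fun r s => by simp [-smul_add, h.ee, smul_smul, mul_comm r],
    fun r => by simp [-smul_add, a.1, a.2], fun r => by simp [-smul_add, b.1, b.2], by simp [h.ee], one_mul _⟩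

theorem D.psl2 (hk : Big k) (h : D G α) (h' : D G β) (hr : IsRankOnePair (E G α) (E G β)) :
    ∃ A₀ B₀ : Subgroup (End k M)ˣ, A₀ ≤ E G α ∧ B₀ ≤ E G β ∧
      ∃ (k₁ : Type u) (_ : Field k₁), 3 < ENat.card k₁ ∧ IsPSL2PairOver k₁ A₀ B₀ := by
  obtain ⟨y, p, e⟩ := h.exists_pt hk h' (h.opp_of_r1 hk h' hr)
  have a := p.ea p.a.mem_cE
  have b := p.symm.ea p.b.mem_cE
  rw [add_comm] at b
  have hU : ∀ c, (p.mu.θ (xU c) : End k M) = 1 + c • α := fun c => by simp [-smul_add, MU.θ_xU, a.1]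
  have hL : ∀ c, (p.mu.θ (xL c) : End k M) = 1 + c • y := fun c => by simp [-smul_add, MU.θ_xL, b.1]
  refine ⟨_, _, ?_, ?_, k, inferInstance, hk.card, psl2Pair_of_hom p.mu.θ fun hc => p.opp ?_⟩
  · rintro _ ⟨g, hg, rfl⟩
    obtain ⟨c, rfl⟩ := mem_upper.1 hg
    simpa [mem_E, hU] using Submodule.smul_mem _ c h.mem_cE
  · rintro _ ⟨g, hg, rfl⟩
    obtain ⟨c, rfl⟩ := mem_lower.1 hg
    simpa [mem_E, hL, ← e] using Submodule.smul_mem _ c p.b.mem_cE
  · have := congrArg Units.val (commutator_eq_bot_iff.1 hc _ ⟨_, xU_mem 1, rfl⟩ _ ⟨_, xL_mem 1, rfl⟩).eq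
    simp only [Units.val_mul, hU, hL, one_smul] at this
    have e : α * y = y * α := by linear_combination (norm := noncomm_ring) this
    rw [e, mul_assoc, h.sq, mul_zero]

theorem D.sl2 (hk : Big k) (h : D G α) (h' : D G β) (hne : α * β * α ≠ 0) :
    ∃ (K : Type u) (_ : Field K) (_ : Algebra k K) (lam : K), IsAlgebraic k lam ∧
      IntermediateField.adjoin k ({lam} : Set K) = ⊤ ∧ Nonempty (H0 k α β ≃* SL2 K) := by
  obtain ⟨R, _, _, _, ρ, t, η, H, hg, inj, h1, hl, hq⟩ := h.mu hk h'.toQ hne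
  have z : ∀ r, ρ r * α = 0 → r = 0 := fun r e => by
    have : ρ (r * t) = 0 := by rw [← H.zz, mul_add, ← mul_assoc, e, ← H.symm.ca', e]; simp
    have := (map_eq_zero_iff ρ inj).1 this
    linear_combination η * this - r * H.inv
  have h2 : ρ 1 * β = β := by
    have h0 : ρ 1 * β ≠ 0 := fun e => hne (by rw [← h1, ← H.ca, mul_assoc α, e]; simp)
    have e := zr (h'.range_eq (hq 1).2 h0 (H.cb 1 ▸ rml _ _)).ge (x := 1 - ρ 1) (by simp [sub_mul, H.mul'])
    rw [sub_mul, one_mul, sub_eq_zero] at e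
    exact e.symm
  have : Nontrivial R := ⟨1, 0, fun e => h.ne (by rw [← h1, e]; simp)⟩
  have : NoZeroDivisors R := ⟨fun {a b} e => or_iff_not_imp_right.2 fun hb => z _ (zr
    (h.range_eq (hq b).1 (fun e => hb (z _ e)) (H.ca b ▸ rml _ _)).ge (by rw [H.mul', e]; simp))⟩
  have : IsDomain R := NoZeroDivisors.to_isDomain R
  letI : Field R := fieldOfFiniteDimensional k R
  have hr : H.θ.range = H0 k α β := by
    refine le_antisymm ?_ (H0_le ⟨h.sq, fun c => ⟨_, ⟨xU (c • 1), rfl⟩, by simp [H.θ_xU, h1]⟩⟩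
      ⟨h'.sq, fun c => ⟨_, ⟨xL (c • t), rfl⟩, by simp [H.θ_xL, H.inv, h2]⟩⟩)
    rw [MonoidHom.range_eq_map, ← upper_sup_lower, Subgroup.map_le_iff_le_comap]
    refine sup_le (fun g hg => ?_) fun g hg => ?_
    · obtain ⟨c, rfl⟩ := mem_upper.1 hg; exact (hl c).1
    · obtain ⟨c, rfl⟩ := mem_lower.1 hg; exact (hl c).2
  have hi : Function.Injective H.θ := (injective_iff_map_eq_one H.θ).2 fun g e => ?_
  · refine ⟨R, inferInstance, inferInstance, t, Algebra.IsAlgebraic.isAlgebraic t, ?_,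
      ⟨(MulEquiv.subgroupCongr hr.symm).trans (MonoidHom.ofInjective hi).symm⟩⟩
    rw [eq_top_iff]
    exact fun r _ => IntermediateField.algebra_adjoin_le_adjoin k {t} (hg.ge trivial)
  · have e' : F ρ α β (g.1 0 0 * η) (g.1 0 1) (g.1 1 0 * η) (g.1 1 1 * η) = F ρ α β η 0 0 η := by
      have := congrArg Units.val e
      rw [H.θ_val, Units.val_one] at this
      rw [H.F_id]
      linear_combination (norm := abel1) this
    have key : ∀ a b c d a' b' c' d' r s : R,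
        F ρ α β a b c d * F ρ α β (g.1 0 0 * η) (g.1 0 1) (g.1 1 0 * η) (g.1 1 1 * η) * F ρ α β a' b' c' d' =
          F ρ α β 0 r 0 0 → F ρ α β a b c d * F ρ α β η 0 0 η * F ρ α β a' b' c' d' = F ρ α β 0 s 0 0 → r = s := by
      intro a b c d a' b' c' d' r s e1 e2
      rw [e', e2] at e1
      exact (sub_eq_zero.1 (z _ (by simpa [F, sub_mul, sub_eq_zero] using e1))).symm
    have := H.inv
    apply sl2_ext
    · exact key η 0 0 0 0 1 0 0 _ _ (by simp only [H.F_mul]; congr 1 <;> grind) (by simp [H.F_mul]; congr 1; grind)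
    · exact key η 0 0 0 0 0 0 η _ _ (by simp only [H.F_mul]; congr 1 <;> grind) (by simp [H.F_mul])
    · exact key 0 1 0 0 0 1 0 0 _ _ (by simp only [H.F_mul]; congr 1 <;> grind) (by simp [H.F_mul])
    · exact key 0 1 0 0 0 0 0 η _ _ (by simp only [H.F_mul]; congr 1 <;> grind) (by simp [H.F_mul]; congr 1; grind)

theorem mem_fixed {H : Subgroup (End k M)ˣ} {m : M} : m ∈ fixedSubmodule H ↔ ∀ g ∈ H, (g : End k M) m = m := by
  simp [Cfsg.fixedSubmodule, sub_eq_zero]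
theorem comm_le {H : Subgroup (End k M)ˣ} {W : Submodule k M} :
    commutatorSubmodule H ≤ W ↔ ∀ g ∈ H, ∀ m, (g : End k M) m - m ∈ W := by
  simp only [commutatorSubmodule, iSup_le_iff]
  exact forall₂_congr fun g _ => ⟨fun h m => h ⟨m, rfl⟩, fun h _ ⟨m, e⟩ => e ▸ h m⟩
theorem fixed_sup {A B : Subgroup (End k M)ˣ} : fixedSubmodule (A ⊔ B) = fixedSubmodule A ⊓ fixedSubmodule B := by
  ext m
  simp only [Submodule.mem_inf, mem_fixed]
  exact ⟨fun h => ⟨fun g hg => h g (mem_sup_left hg), fun g hg => h g (mem_sup_right hg)⟩, fun h g hg =>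
    sup_ind (P := fun g : (End k M)ˣ => (g : End k M) m = m) h.1 h.2 (fun x y hx hy => by simp [hx, hy]) hg⟩
theorem comm_sup {A B : Subgroup (End k M)ˣ} :
    commutatorSubmodule (A ⊔ B) = commutatorSubmodule A ⊔ commutatorSubmodule B := by
  refine le_antisymm (comm_le.2 fun g hg => sup_ind (P := fun g : (End k M)ˣ => ∀ m, (g : End k M) m - m ∈ _)
    (comm_le.1 le_sup_left) (comm_le.1 le_sup_right) (fun x y hx hy m => ?_) hg)
    (sup_le (comm_le.2 fun g hg => comm_le.1 le_rfl g (mem_sup_left hg))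
      (comm_le.2 fun g hg => comm_le.1 le_rfl g (mem_sup_right hg)))
  simpa using add_mem (hx ((y : End k M) m)) (hy m)
theorem Q.fixed (h : Q k G α) : fixedSubmodule (E G α) = ker α := by
  ext m
  rw [mem_fixed]
  exact ⟨fun e => by simpa using e _ (un_mem.2 h.mem_cE : un α h.sq ∈ _), fun e g hg => by
    simpa [sub_eq_zero] using cE_k hg e⟩
theorem Q.commS (h : Q k G α) : commutatorSubmodule (E G α) = range α := by
  refine le_antisymm (comm_le.2 fun g hg m => cE_r hg ⟨m, rfl⟩) ?_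
  rintro _ ⟨m, rfl⟩
  simpa using comm_le.1 le_rfl _ (un_mem.2 h.mem_cE : un α h.sq ∈ _) m

theorem D.invol (hk : Big k) (h : D G α) (h' : D G β) (hne : α * β * α ≠ 0) :
    (∃! i : (End k M)ˣ, i ∈ E G α ⊔ E G β ∧ i ≠ 1 ∧ i * i = 1 ∧ (∀ x ∈ E G α ⊔ E G β, i * x = x * i) ∧
      (∀ m ∈ commutatorSubmodule (E G α ⊔ E G β), (i : End k M) m = -m) ∧
      (∀ m ∈ fixedSubmodule (E G α ⊔ E G β), (i : End k M) m = m)) ∧
    IsCompl (fixedSubmodule (E G α ⊔ E G β)) (commutatorSubmodule (E G α ⊔ E G β)) := by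
  obtain ⟨y, p, e⟩ := h.exists_pt hk h' hne
  rw [← e, fixed_sup, comm_sup, h.fixed, h.commS, p.b.fixed, p.b.commS]
  have a := fun x (hx : x ∈ cE G α) => p.ea hx
  have b := fun x (hx : x ∈ cE G y) => add_comm (y * α) _ ▸ p.symm.ea hx
  have ee := p.ee
  set ε := α * y + y * α with hε
  have e1 : ∀ m ∈ range α ⊔ range y, ε m = m := fun m hm => by
    obtain ⟨_, ⟨u, rfl⟩, _, ⟨v, rfl⟩, rfl⟩ := Submodule.mem_sup.1 hm
    rw [map_add, ← End.mul_apply, ← End.mul_apply, (a _ h.mem_cE).1, (b _ p.b.mem_cE).1]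
  have e0 : ∀ m ∈ ker α ⊓ ker y, ε m = 0 := fun m hm => by
    simp [hε, mem_ker.1 hm.1, mem_ker.1 hm.2]
  have d1 : ∀ m, m - ε m ∈ ker α ⊓ ker y := fun m => ⟨by
    rw [SetLike.mem_coe, mem_ker, map_sub, ← End.mul_apply, (a _ h.mem_cE).2, sub_self], by
    rw [SetLike.mem_coe, mem_ker, map_sub, ← End.mul_apply, (b _ p.b.mem_cE).2, sub_self]⟩
  have d2 : ∀ m, ε m ∈ range α ⊔ range y := fun m => Submodule.add_mem_sup ⟨_, rfl⟩ ⟨_, rfl⟩
  let w := un α h.sq * (un y p.b.sq)⁻¹ * un α h.sq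
  have hw : w ∈ E G α ⊔ E G y := mul_mem (mul_mem (mem_sup_left (un_mem.2 h.mem_cE))
    (inv_mem (mem_sup_right (un_mem.2 p.b.mem_cE)))) (mem_sup_left (un_mem.2 h.mem_cE))
  have hi : ((w * w : (End k M)ˣ) : End k M) = 1 - (ε + ε) := by
    simp [w, hε, mul_add, add_mul, mul_sub, sub_mul, mul_assoc, p.aba', p.symm.aba', h.sq', p.b.sq', p.aba, p.bab,
      h.sq, p.b.sq]
    abel
  have cm : ∀ x : (End k M)ˣ, ε * (x - 1) = x - 1 ∧ (x - 1) * ε = x - 1 → Commute (w * w) x := fun x hx =>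
    Units.ext (by rw [Units.val_mul _ x, Units.val_mul x, hi]; linear_combination (norm := noncomm_ring) 2 • hx.2 - 2 • hx.1)
  refine ⟨⟨w * w, ⟨mul_mem hw hw, fun e => h.ne ?_, Units.ext ?_,
    commute_sup (fun x hx => cm x (a _ hx)) fun x hx => cm x (b _ hx), fun m hm => ?_, fun m hm => ?_⟩, ?_⟩,
    disjoint_iff_inf_le.2 fun m hm => ?_, codisjoint_iff_le_sup.2 fun m _ => ?_⟩
  · rw [e, Units.val_one, eq_sub_iff_add_eq, add_eq_left] at hi
    have := congrArg (· * α) hi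
    simp only [add_mul, (a _ h.mem_cE).1, zero_mul] at this
    rwa [← two_smul k, smul_eq_zero_iff_right hk.two] at this
  · rw [Units.val_mul, hi, Units.val_one]
    linear_combination (norm := noncomm_ring) 4 • ee
  · simp [-Units.val_mul, hi, e1 m hm]
  · simp [-Units.val_mul, hi, e0 m hm]
  · rintro j ⟨-, -, -, -, j1, j2⟩
    refine Units.ext (LinearMap.ext fun m => ?_)
    have := j2 _ (d1 m)
    rw [map_sub, j1 _ (d2 m)] at this
    rw [hi]
    simp only [LinearMap.sub_apply, LinearMap.add_apply, End.one_apply]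
    linear_combination (norm := abel1) this
  · exact (e1 m hm.2).symm.trans (e0 m hm.1)
  · simpa using Submodule.add_mem_sup (d1 m) (d2 m)

theorem D.comm_of_not_opp (hk : Big k) (h : D G α) {N : Subgroup (End k M)ˣ} (hNG : N ≤ G) (hN : NU k N)
    (hA : ⁅E G α, N⁆ ≤ N) (hno : ∀ n ∈ N, α * (n * α * (n⁻¹ : (End k M)ˣ)) * α = 0) : ⁅E G α, N⁆ = ⊥ := by
  let W : Set (Subgroup (End k M)ˣ) := {B | ∃ n ∈ N, B = cj n (E G α)}
  refine hN _ hA ((un_iSup (G := E G α ⊔ N) (W := W) ?_ ?_ ?_).mono (commutator_le.2 fun a ha n hn => ?_))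
    fun n hn => mem_normalizer_iff_cj.1 (normalizer_commutator_ge_right _ _ hn)
  · rintro _ ⟨n, hn, rfl⟩
    exact cj_le_of_mem (mem_sup_right hn) le_sup_left
  · rintro _ ⟨n, hn, rfl⟩ _ ⟨m, hm, rfl⟩
    rw [cj_E (hNG hn), cj_E (hNG hm)]
    refine ((h.conj (hNG hn)).uc hk (h.conj (hNG hm)) ?_).unip
    simpa [mul_assoc] using congrArg (· * ((n⁻¹ : (End k M)ˣ) : End k M)) (hno (n⁻¹ * m) (mul_mem (inv_mem hn) hm))
  · intro A hA' g hg
    refine sup_ind (P := fun g => ∀ A ∈ W, cj g A ∈ W) ?_ ?_ (fun x y hx hy A hA => cj_mul x y A ▸ hx _ (hy A hA)) hg A hA'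
    · rintro a ha _ ⟨n, hn, rfl⟩
      refine ⟨⁅a, n⁆ * n, mul_mem (hA (commutator_mem_commutator ha hn)) hn, ?_⟩
      conv_rhs => rw [← cj_of_mem ha, ← cj_mul]
      rw [← cj_mul]
      simp [commutatorElement_def]
    · rintro m hm _ ⟨n, hn, rfl⟩
      exact ⟨m * n, mul_mem hm hn, (cj_mul _ _ _).symm⟩
  · rw [commutatorElement_def, mul_assoc a, mul_assoc a]
    exact mul_mem (le_iSup₂_of_le (f := fun A _ => A) (E G α) (show _ ∈ W from ⟨1, one_mem _, by simp⟩) le_rfl ha)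
      (le_iSup₂_of_le (f := fun A _ => A) _ (show _ ∈ W from ⟨n, hn, rfl⟩) le_rfl (conj_mem_cj (inv_mem ha)))

theorem un_E : Un k (E G α) :=
  un_of_le aug_E (n := 2) (by rw [pow_two]; exact eq_bot_iff.2 (Submodule.mul_le.2 fun x hx y hy => cE_mul hx hy))

theorem D.exists_opp (hk : Big k) (hG : NU k G) (h : D G α) : ∃ β, D G β ∧ α * β * α ≠ 0 := by
  by_contra hc
  push Not at hc
  have := h.comm_of_not_opp hk le_rfl hG (commutator_le.2 fun a ha b hb =>
    G.mul_mem (mul_mem (mul_mem (E_le ha) hb) (inv_mem (E_le ha))) (inv_mem hb))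
    fun n hn => hc _ (h.conj hn)
  exact h.E_ne_bot (hG _ E_le un_E fun g hg => cj_of_comm_bot (comm_bot_symm this) hg)

/-- the set of root subgroups -/
def Sg (G : Subgroup (End k M)ˣ) : Set (Subgroup (End k M)ˣ) := {A | ∃ α, D G α ∧ A = E G α}

/-- the subgroup generated by the root subgroups -/
def G0 (G : Subgroup (End k M)ˣ) : Subgroup (End k M)ˣ := ⨆ A ∈ Sg G, A

theorem D.le_G0 (h : D G α) : E G α ≤ G0 G := le_iSup₂_of_le (f := fun A _ => A) _ (show _ ∈ Sg G from ⟨α, h, rfl⟩) le_rfl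
theorem G0_le : G0 G ≤ G := iSup₂_le (by rintro _ ⟨α, -, rfl⟩; exact E_le)
theorem Sg_cj {A : Subgroup (End k M)ˣ} (hA : A ∈ Sg G) (hg : g ∈ G) : cj g A ∈ Sg G := by
  obtain ⟨α, h, rfl⟩ := hA
  exact ⟨_, h.conj hg, cj_E hg⟩
theorem G0_cj (hg : g ∈ G) : cj g (G0 G) = G0 G :=
  cj_iSup_eq (fun A hA => Sg_cj hA hg) fun A hA => Sg_cj hA (inv_mem hg)
theorem D.cj_of_opp (hk : Big k) (h : D G α) (h' : D G β) (hne : α * β * α ≠ 0) : ∃ g ∈ G0 G, cj g (E G α) = E G β :=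
  let ⟨g, hg, e, _⟩ := r1_exists_swap (h.r1 hk h' hne); ⟨g, sup_le h.le_G0 h'.le_G0 hg, e⟩

theorem CC.cj (hk : Big k) (hG : NU k G) (h : CC G α β) : ∃ g ∈ G0 G, cj g (E G β) = E G (α * β - β * α) := by
  obtain ⟨δ, hδ, hne⟩ := h.d.exists_opp hk hG
  set γ := α * β - β * α with hγ
  obtain ⟨c, hc⟩ : ∃ c : k, (β + c • γ) * δ * (β + c • γ) ≠ 0 := by
    by_contra hc
    push Not at hc
    have h0 := hc 0
    have h1 := hc 1
    have h2 := hc (-1)
    simp only [zero_smul, add_zero, one_smul, neg_smul] at h0 h1 h2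
    refine hne ((smul_eq_zero_iff_right hk.two).1 ?_)
    rw [two_smul]
    linear_combination (norm := noncomm_ring) h1 + h2 - 2 • h0
  have hx := Submodule.smul_mem _ c h.a.mem_cE
  have e : (1 + c • α) * β * (1 - c • α) = β + c • γ := by
    simp [hγ, mul_add, add_mul, mul_sub, sub_mul, mul_assoc, h.aba _ h.a.mem_cE _ h.b.mem_cE _ h.a.mem_cE, smul_sub]
    abel
  obtain ⟨g1, m1, e1⟩ := D.cj_of_opp hk (e ▸ h.b.conj' hx.1) hδ hc
  obtain ⟨g2, m2, e2⟩ := hδ.cj_of_opp hk h.d (h.d.opp_symm hk hδ hne)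
  refine ⟨g2 * g1 * un _ hx.1.sq, mul_mem (mul_mem m2 m1) (h.a.le_G0 (un_mem.2 hx)), ?_⟩
  rw [cj_mul, cj_mul, cj_E hx.1.one, un_val, un_inv, e, e1, e2]

theorem CC.surj (hk : Big k) (hG : NU k G) (h : CC G α β) (hx : x ∈ cE G α) (x0 : x ≠ 0)
    (hδ : δ ∈ cE G (α * β - β * α)) : ∃ y ∈ cE G β, x * y - y * x = δ := by
  obtain ⟨g, hg, e⟩ := h.cj hk hG
  let f : cE G β →ₗ[k] cE G (α * β - β * α) := (mulLeft k x - mulRight k x).restrict fun y hy => h.mem hx hy
  have inj : Function.Injective f := (injective_iff_map_eq_zero f).2 fun y hy => by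
    by_contra y0
    exact h.ne' hx x0 y.2 (fun e => y0 (Subtype.ext e)) (congrArg Subtype.val hy)
  obtain ⟨y, hy⟩ := (injective_iff_surjective_of_finrank_eq_finrank (le_antisymm (finrank_cE (G0_le hg) e)
    (finrank_cE (inv_mem (G0_le hg)) (by rw [← e, cj_inv_cj])))).1 inj ⟨δ, hδ⟩
  exact ⟨y, y.2, congrArg Subtype.val hy⟩

theorem CC.comm_le (h : CC G α β) : ⁅E G α, E G β⁆ ≤ E G (α * β - β * α) := commutator_le.2 fun a ha b hb => by
  obtain ⟨x, hx, rfl⟩ := E_cases ha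
  obtain ⟨y, hy, rfl⟩ := E_cases hb
  rw [h.comm_un hx hy]
  exact un_mem.2 (h.mem hx hy)

theorem CC.clos (hk : Big k) (hG : NU k G) (h : CC G α β) {a : (End k M)ˣ} (ha : a ∈ E G α) (h1 : a ≠ 1) :
    E G (α * β - β * α) ≤ closure ((fun b => a * b * a⁻¹ * b⁻¹) '' (E G β : Set (End k M)ˣ)) := fun c hc => by
  obtain ⟨x, hx, rfl⟩ := E_cases ha
  obtain ⟨δ, hδ, rfl⟩ := E_cases hc
  obtain ⟨y, hy, rfl⟩ := h.surj hk hG hx (fun e => h1 (un_eq_one.2 e)) hδ
  exact subset_closure ⟨_, un_mem.2 hy, h.comm_un hx hy⟩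

theorem CC.comm_eq (hk : Big k) (hG : NU k G) (h : CC G α β) : ⁅E G α, E G β⁆ = E G (α * β - β * α) := by
  refine le_antisymm h.comm_le ((h.clos hk hG (un_mem.2 h.a.mem_cE : un α h.a.sq ∈ _)
    fun e => h.a.ne (un_eq_one.1 e)).trans ((closure_le _).2 ?_))
  rintro _ ⟨b, hb, rfl⟩
  exact commutator_mem_commutator (un_mem.2 h.a.mem_cE) hb

theorem CC.rc (hk : Big k) (hG : NU k G) (h : CC G α β) : RootCommutatorCase (Sg G) (E G α) (E G β) := by
  refine ⟨⟨_, h.d, h.comm_eq hk hG⟩, fun c hc x hx => commutator_eq_bot_iff.1 h.class2 c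
    (commutator_mono le_sup_left le_sup_right hc) x hx, fun a ha h1 => le_antisymm ((closure_le _).2 ?_)
    (h.comm_le.trans (h.clos hk hG ha h1)), fun b hb h1 => le_antisymm ((closure_le _).2 ?_) ?_⟩
  · rintro _ ⟨b, hb, rfl⟩
    exact commutator_mem_commutator ha hb
  · rintro _ ⟨a, ha, rfl⟩
    exact commutator_mem_commutator ha hb
  · rw [commutator_comm]
    refine h.symm.comm_le.trans ((h.symm.clos hk hG hb h1).trans ((closure_le _).2 ?_))
    rintro _ ⟨a, ha, rfl⟩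
    have := inv_mem (subset_closure (k := (fun a => a * b * a⁻¹ * b⁻¹) '' (E G α : Set (End k M)ˣ)) ⟨a, ha, rfl⟩)
    simpa [mul_assoc] using this

theorem CC.core (hk : Big k) (hG : NU k G) (h : CC G α β) :
    ((E G α ⊔ E G β : Subgroup (End k M)ˣ) : Set (End k M)ˣ) ⊆ quadraticUnipotentCore G ⁅E G α, E G β⁆ := by
  intro g hg
  refine ⟨sup_le E_le E_le hg, sup_le (normalizer_commutator_ge_left _ _) (normalizer_commutator_ge_right _ _) hg, ?_⟩
  rw [h.comm_eq hk hG, h.d.fixed, h.d.commS]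
  refine sup_ind (P := fun g : (End k M)ˣ => (∀ m, (g : End k M) m - m ∈ ker (α * β - β * α)) ∧
    (∀ m ∈ ker (α * β - β * α), (g : End k M) m - m ∈ range (α * β - β * α)) ∧
    ∀ m ∈ range (α * β - β * α), (g : End k M) m = m) (fun a ha => ?_) (fun a ha => ?_) (fun x y hx hy => ?_) hg
  · obtain ⟨a1, a2, a3⟩ := h.act ha
    exact ⟨fun m => a1 ⟨m, rfl⟩, a3, fun m hm => by simpa [sub_eq_zero] using a2 hm⟩
  · obtain ⟨a1, a2, a3⟩ := h.symm.act ha
    rw [ker_swap] at a1 a3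
    rw [range_swap] at a2 a3
    exact ⟨fun m => a1 ⟨m, rfl⟩, a3, fun m hm => by simpa [sub_eq_zero] using a2 hm⟩
  · refine ⟨fun m => by simpa using add_mem (hx.1 ((y : End k M) m)) (hy.1 m), fun m hm => ?_,
      fun m hm => by simp [hy.2.2 m hm, hx.2.2 m hm]⟩
    simpa using add_mem (hx.2.1 ((y : End k M) m) (by simpa using add_mem (hy.1 m) hm)) (hy.2.1 m hm)

theorem Sg_pair (hk : Big k) (hG : NU k G) {A B : Subgroup (End k M)ˣ} (hA : A ∈ Sg G) (hB : B ∈ Sg G) :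
    ⁅A, B⁆ = ⊥ ∨ IsRankOnePair A B ∨ RootCommutatorCase (Sg G) A B := by
  obtain ⟨α, h, rfl⟩ := hA
  obtain ⟨β, h', rfl⟩ := hB
  by_cases e : α * β * α = 0
  · exact (h.uc hk h' e).comm_or.imp_right fun c => Or.inr (c.rc hk hG)
  · exact Or.inr (Or.inl (h.r1 hk h' e))

theorem quad_iff : σ ∈ quadraticElements G ↔ Q k G ((σ : End k M) - 1) ∧ (σ : End k M) - 1 ≠ 0 :=
  ⟨fun h => ⟨⟨h.2.1.1, fun c => ⟨un (c • ((σ : End k M) - 1)) (by simp [h.2.1.1]), h.2.2 ⟨c, rfl⟩, rfl⟩⟩, h.2.1.2⟩,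
    fun h => ⟨in_val.1 (by simpa using h.1.mem 1), ⟨h.1.sq, h.2⟩, fun g ⟨c, e⟩ => in_val.1 (e ▸ h.1.mem c)⟩⟩
theorem un_quad (h : Q k G α) (h0 : α ≠ 0) : un α h.sq ∈ quadraticElements G := quad_iff.2 (by simp [h, h0])
theorem min_iff : σ ∈ minimalQuadraticElements G ↔ D G ((σ : End k M) - 1) :=
  ⟨fun h => ⟨(quad_iff.1 h.1).1, (quad_iff.1 h.1).2, fun β h1 h2 => by
    have := h.2 _ (un_quad h1 h2)
    rwa [commutatorRank, commutatorRank, un_val, add_sub_cancel_left] at this⟩,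
    fun h => ⟨quad_iff.2 ⟨h.toQ, h.ne⟩, fun τ hτ => h.min _ (quad_iff.1 hτ).1 (quad_iff.1 hτ).2⟩⟩
theorem sac_eq (h : D G ((σ : End k M) - 1)) :
    (E G ((σ : End k M) - 1) : Set (End k M)ˣ) = sameActionClass G σ ∪ {1} := by
  ext g
  constructor
  · intro hg
    refine or_iff_not_imp_right.2 fun h1 => ?_
    obtain ⟨a, b, c⟩ := h.of_cE hg fun e => h1 (Units.ext (sub_eq_zero.1 e))
    exact ⟨min_iff.2 a, c, b⟩
  · rintro (⟨a, b, c⟩ | rfl)
    · exact (mem_cE h.sq).2 ⟨(min_iff.1 a).toQ, c.le, b.ge⟩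
    · exact one_mem _
theorem sas_eq (h : D G ((σ : End k M) - 1)) : sameActionSubgroup G σ = E G ((σ : End k M) - 1) := by
  refine le_antisymm ((closure_le _).2 (sac_eq h ▸ Set.subset_union_left)) fun g hg => ?_
  rcases (sac_eq h).le hg with e | rfl
  · exact subset_closure e
  · exact one_mem _
theorem qrs_eq : quadraticRootSubgroups G = Sg G := by
  ext A
  constructor
  · rintro ⟨σ, h, rfl⟩
    exact ⟨_, min_iff.1 h, sas_eq (min_iff.1 h)⟩
  · rintro ⟨α, h, rfl⟩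
    have : D G ((un α h.sq : End k M) - 1) := by simpa using h
    exact ⟨un α h.sq, min_iff.2 this, by rw [sas_eq this]; simp⟩

end H20.QP
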