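import Cfsg.Agent.H20.QP3

/-! Quadratic pairs, part 4: classes of root subgroups (`cls`), finiteness, quasisimplicity, the cocentral subgroup `N0`
and the decomposition into quasisimple factors (`decomp`). -/

set_option autoImplicit false
set_option linter.unusedSectionVars false
set_option linter.unusedVariables false

namespace H20.QP
open Subgroup H28 Cfsg LinearMap Module
open scoped commutatorElement

section
variable {Γ : Type*} [Group Γ]

theorem cj_subgroupOf {U A : Subgroup Γ} (g : U) : cj g (A.subgroupOf U) = (cj (g : Γ) A).subgroupOf U := by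
  ext x; simp [mem_cj, mem_subgroupOf]

theorem rootSet_subgroupOf {S : Set (Subgroup Γ)} (hc : ∀ A ∈ S, IsMulCommutative A) (hne : ∀ A ∈ S, A ≠ ⊥)
    (hcj : ∀ A ∈ S, ∀ g ∈ ⨆ B ∈ S, B, cj g A ∈ S)
    (hp : ∀ A ∈ S, ∀ B ∈ S, ⁅A, B⁆ = ⊥ ∨ IsRankOnePair A B ∨ RootCommutatorCase S A B) :
    IsRootSubgroupSet ((fun A : Subgroup Γ => A.subgroupOf (⨆ B ∈ S, B)) '' S) := by
  set U := ⨆ B ∈ S, B with hU
  have le : ∀ A ∈ S, A ≤ U := fun A hA => le_iSup₂_of_le (f := fun A _ => A) A hA le_rfl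
  have mp : ∀ A ∈ S, (A.subgroupOf U).map U.subtype = A := fun A hA => map_subgroupOf_eq_of_le (le A hA)
  have inj := map_injective U.subtype_injective
  refine ⟨?_, ?_, inj ?_, ?_, ?_⟩
  · rintro _ ⟨A, hA, rfl⟩
    have := hc A hA
    infer_instance
  · rintro _ ⟨A, hA, rfl⟩ e
    exact hne A hA (by rw [← mp A hA, show A.subgroupOf U = ⊥ from e, Subgroup.map_bot])
  · rw [iSup_image, ← MonoidHom.range_eq_map, subtype_range]
    simp only [Subgroup.map_iSup]
    exact iSup_congr fun A => iSup_congr fun hA => mp A hA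
  · rintro _ ⟨A, hA, rfl⟩ g
    exact ⟨_, hcj A hA g g.2, (cj_subgroupOf g).symm⟩
  · rintro _ ⟨A, hA, rfl⟩ _ ⟨B, hB, rfl⟩
    have cm : (⁅A.subgroupOf U, B.subgroupOf U⁆).map U.subtype = ⁅A, B⁆ := by rw [map_commutator, mp A hA, mp B hB]
    refine (hp A hA B hB).imp (fun h => inj (by rw [cm, h, Subgroup.map_bot]))
      (Or.imp (r1_subgroupOf (le A hA) (le B hB)).2 fun h => ⟨⟨_, h.1, inj (by rw [cm, mp _ h.1])⟩,
        fun c hc x hx => Subtype.ext (h.2.1 _ (cm.le ⟨c, hc, rfl⟩) _ ?_), fun a ha h1 => inj ?_, fun b hb h1 => inj ?_⟩)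
    rotate_right
    · rw [← mp A hA, ← mp B hB, ← Subgroup.map_sup]
      exact ⟨x, hx, rfl⟩
    · rw [cm, ← h.2.2.1 a ha fun e => h1 (Subtype.ext e), MonoidHom.map_closure, Set.image_image]
      conv_rhs => rw [← mp B hB, coe_map, Set.image_image]
      rfl
    · rw [cm, ← h.2.2.2 b hb fun e => h1 (Subtype.ext e), MonoidHom.map_closure, Set.image_image]
      conv_rhs => rw [← mp A hA, coe_map, Set.image_image]
      rfl

theorem comm_sup_le {N B : Subgroup Γ} (hB : IsMulCommutative B) (hn : ∀ b ∈ B, cj b N = N) : ⁅N ⊔ B, N ⊔ B⁆ ≤ N := by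
  have e := coe_mul_of_right_le_normalizer_left N B fun b hb => mem_normalizer_iff_cj.2 (hn b hb)
  refine commutator_le.2 fun x hx y hy => ?_
  obtain ⟨n, h1, b, h2, rfl⟩ := e.le hx
  obtain ⟨m, h3, c, h4, rfl⟩ := e.le hy
  have := mul_mem (mul_mem (mul_mem h1 ((hn b h2).le (conj_mem_cj h3))) ((hn c h4).le (conj_mem_cj (inv_mem h1))))
    (inv_mem h3)
  convert this using 1
  have h5 := (commute_of_comm hB h2 h4).eq
  calc ⁅n * b, m * c⁆ = n * b * m * b⁻¹ * (b * c) * b⁻¹ * n⁻¹ * c⁻¹ * m⁻¹ := by simp [commutatorElement_def, mul_assoc]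
    _ = _ := by rw [h5]; group

/-- quasisimple, in terms of the ambient group -/
structure QS (H : Subgroup Γ) : Prop where
  perf : H ≤ ⁅H, H⁆
  ne : H ≠ ⊥
  key : ∀ N ≤ H, (∀ h ∈ H, cj h N = N) → H ≤ N ∨ ⁅N, H⁆ = ⊥

theorem QS.qs {H : Subgroup Γ} (h : QS H) : IsQuasisimple H := by
  refine quasisimple_of_normal (isPerfect_iff.2 (le_antisymm (commutator_le.2 fun a ha b hb =>
    H.mul_mem (mul_mem (mul_mem ha hb) (inv_mem ha)) (inv_mem hb)) h.perf)) ((nontrivial_iff_ne_bot H).2 h.ne)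
    fun N hN => (h.key (N.map H.subtype) (map_subtype_le N) fun g hg => ?_).imp (fun e => eq_top_iff.2 fun x _ => ?_)
      fun e x hx => mem_center_iff.2 fun g => Subtype.ext (comm_commute e (mem_map_of_mem H.subtype hx) g.2).symm.eq
  · exact (map_cj H.subtype ⟨g, hg⟩ N).symm.trans (by rw [cj_normal hN])
  · obtain ⟨y, hy, e⟩ := e x.2
    exact (Subtype.ext e : y = x) ▸ hy

theorem iSup_comm_bot {S T : Set (Subgroup Γ)} (h : ∀ A ∈ S, ∀ B ∈ T, ⁅A, B⁆ = ⊥) : ⁅⨆ A ∈ S, A, ⨆ B ∈ T, B⁆ = ⊥ := by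
  rw [commutator_eq_bot_iff_le_centralizer]
  refine iSup₂_le fun A hA => ?_
  rw [← le_centralizer_iff]
  exact iSup₂_le fun B hB => commutator_eq_bot_iff_le_centralizer.1 (comm_bot_symm (h A hA B hB))

end

universe u
variable {k : Type u} [Field k] {M : Type*} [AddCommGroup M] [Module k M] [FiniteDimensional k M]
  {G A B : Subgroup (End k M)ˣ} {α β γ δ τ x y α' β' : End k M} {g σ : (End k M)ˣ}

/-- the class of a root subgroup -/
def cls (G A : Subgroup (End k M)ˣ) : Set (Subgroup (End k M)ˣ) := {B | ∃ g ∈ G0 G, cj g A = B}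

theorem cls_self : A ∈ cls G A := ⟨1, one_mem _, cj_one _⟩
theorem cls_cj (hB : B ∈ cls G A) (hg : g ∈ G0 G) : cj g B ∈ cls G A := by
  obtain ⟨h, hh, rfl⟩ := hB
  exact ⟨g * h, mul_mem hg hh, cj_mul _ _ _⟩
theorem cls_trans {C : Subgroup (End k M)ˣ} (hB : B ∈ cls G A) (hC : C ∈ cls G B) : C ∈ cls G A := by
  obtain ⟨h, hh, rfl⟩ := hC
  exact cls_cj hB hh
theorem cls_symm (hB : B ∈ cls G A) : A ∈ cls G B := by
  obtain ⟨h, hh, rfl⟩ := hB
  exact ⟨h⁻¹, inv_mem hh, by simp⟩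
theorem cls_eq (hB : B ∈ cls G A) : cls G B = cls G A := Set.ext fun _ => ⟨cls_trans hB, cls_trans (cls_symm hB)⟩
theorem cls_sub (hA : A ∈ Sg G) : cls G A ⊆ Sg G := by
  rintro _ ⟨h, hh, rfl⟩
  exact Sg_cj hA (G0_le hh)
theorem cls_le (hA : A ∈ Sg G) : ⨆ B ∈ cls G A, B ≤ G0 G := biSup_mono fun _ h => cls_sub hA h

theorem comm_of_not_cls (hk : Big k) (hG : NU k G) (hA : A ∈ Sg G) (hB : B ∈ Sg G) (h : B ∉ cls G A) : ⁅A, B⁆ = ⊥ := by
  obtain ⟨α, a, rfl⟩ := hA
  obtain ⟨β, b, rfl⟩ := hB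
  refine (a.uc hk b (by_contra fun e => h (a.cj_of_opp hk b e))).comm_or.resolve_right fun c => h ?_
  exact cls_trans (E_congr c.cE_symm ▸ c.symm.cj hk hG) (cls_symm (c.cj hk hG))

theorem cls_comm (hk : Big k) (hG : NU k G) (hA : A ∈ Sg G) (hB : B ∈ Sg G) (h : cls G A ≠ cls G B) :
    ⁅⨆ C ∈ cls G A, C, ⨆ C ∈ cls G B, C⁆ = ⊥ :=
  iSup_comm_bot fun C hC C' hC' => comm_of_not_cls hk hG (cls_sub hA hC) (cls_sub hB hC') fun e =>
    h (by rw [← cls_eq hC, ← cls_eq e, cls_eq hC'])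

theorem cls_inner (hk : Big k) (hG : NU k G) (hA : A ∈ Sg G) (hB : B ∈ cls G A) {C : Subgroup (End k M)ˣ}
    (hC : C ∈ cls G A) : ∃ h ∈ ⨆ B ∈ cls G A, B, cj h B = C := by
  obtain ⟨g, hg, rfl⟩ := cls_trans (cls_symm hB) hC
  suffices ∃ h ∈ ⨆ B ∈ cls G A, B, cj h B = cj g B ∧ cj g B ∈ cls G A from this.imp fun h e => ⟨e.1, e.2.1⟩
  refine iSup_induction (P := fun g => ∀ B ∈ cls G A, ∃ h ∈ ⨆ B ∈ cls G A, B, cj h B = cj g B ∧ cj g B ∈ cls G A)
    (fun C hC c hc B hB => ?_) (fun B hB => ⟨1, one_mem _, rfl, by simpa using hB⟩) (fun x y hx hy B hB => ?_) hg B hB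
  · have m := cls_cj hB (le_iSup₂_of_le (f := fun A _ => A) C hC le_rfl hc)
    by_cases e : C ∈ cls G A
    · exact ⟨c, le_iSup₂_of_le (f := fun A _ => A) C e le_rfl hc, rfl, m⟩
    · refine ⟨1, one_mem _, ?_, m⟩
      rw [cj_one, cj_of_comm_bot (comm_of_not_cls hk hG hC (cls_sub hA hB) fun e' => e (cls_trans hB (cls_symm e'))) hc]
  · obtain ⟨h, hh, e, m⟩ := hy B hB
    obtain ⟨h', hh', e', m'⟩ := hx _ m
    exact ⟨h' * h, mul_mem hh' hh, by rw [cj_mul, cj_mul, e, e'], by rwa [cj_mul]⟩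

theorem cls_finite (hk : Big k) (hG : NU k G) : (cls G '' Sg G).Finite := by
  have : ∀ c : cls G '' Sg G, ∃ α β, Pt G α β ∧ cls G (E G α) = c ∧ cls G (E G β) = c := by
    rintro ⟨_, _, ⟨α, h, rfl⟩, rfl⟩
    obtain ⟨β, h', hne⟩ := h.exists_opp hk hG
    obtain ⟨y, p, -⟩ := h.exists_pt hk h' hne
    exact ⟨α, y, p, rfl, cls_eq (h.cj_of_opp hk p.b p.opp)⟩
  choose a b p e1 e2 using this
  refine (LinearIndependent.finite (R := k) (f := a) (linearIndependent_iff'.2 fun s c e i hi => ?_) :)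
  have := congrArg (mulRight k (b i) - mulLeft k (b i)) e
  rw [map_sum, Finset.sum_eq_single i (fun j _ hj => ?_) (fun h => absurd hi h), map_zero, map_smul,
    smul_eq_zero] at this
  · refine this.resolve_right fun e => (p i).opp ?_
    rw [show a i * b i = b i * a i from sub_eq_zero.1 e, mul_assoc, (p i).a.sq, mul_zero]
  · have := congrArg Units.val (comm_commute (comm_of_not_cls hk hG ⟨_, (p j).a, rfl⟩ ⟨_, (p i).b, rfl⟩ fun e =>
      hj (Subtype.ext (by rw [← e1, ← cls_eq e, e2]))) (un_mem.2 (p j).a.mem_cE : un _ (p j).a.sq ∈ _)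
      (un_mem.2 (p i).b.mem_cE : un _ (p i).b.sq ∈ _)).eq
    simp only [Units.val_mul, un_val] at this
    rw [map_smul, show (mulRight k (b i) - mulLeft k (b i)) (a j) = 0 by
      change a j * b i - b i * a j = 0
      linear_combination (norm := noncomm_ring) this, smul_zero]

theorem cls_norm (hg : g ∈ G0 G) : cj g (⨆ B ∈ cls G A, B) = ⨆ B ∈ cls G A, B :=
  cj_iSup_eq (fun B hB => cls_cj hB hg) fun B hB => cls_cj hB (inv_mem hg)

theorem cls_qs (hk : Big k) (hG : NU k G) (hA : A ∈ Sg G) : QS (⨆ B ∈ cls G A, B) := by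
  have le : ∀ B ∈ cls G A, B ≤ ⨆ B ∈ cls G A, B := fun B hB => le_iSup₂_of_le (f := fun A _ => A) B hB le_rfl
  have nu := (hG.of_norm G0_le fun g hg => G0_cj hg).of_norm (cls_le hA) fun g hg => cls_norm hg
  refine ⟨iSup₂_le fun B hB => ?_, fun e => ?_, fun N hN hn => or_iff_not_imp_left.2 fun hne => comm_bot_symm ?_⟩
  · obtain ⟨α, h, rfl⟩ := cls_sub hA hB
    obtain ⟨β, h', hne⟩ := h.exists_opp hk hG
    have := sup_le (le _ hB) (le _ (cls_trans hB (h.cj_of_opp hk h' hne)))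
    exact le_sup_left.trans ((h.perfect hk h' hne).ge.trans (commutator_mono this this))
  · obtain ⟨α, h, rfl⟩ := hA
    exact h.E_ne_bot (eq_bot_iff.2 (e ▸ le _ cls_self))
  · rw [commutator_eq_bot_iff_le_centralizer]
    refine iSup₂_le fun B hB => commutator_eq_bot_iff_le_centralizer.1 ?_
    obtain ⟨α, h, rfl⟩ := cls_sub hA hB
    have hNG := hN.trans ((cls_le hA).trans G0_le)
    refine h.comm_of_not_opp hk hNG (nu.of_norm hN hn) (le_normalizer_iff_commutator_le_right.1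
      fun a ha => mem_normalizer_iff_cj.2 (hn a (le _ hB ha))) fun n hn' => by_contra fun e => hne ?_
    have h1 : E G α ⊔ E G (n * α * (n⁻¹ : (End k M)ˣ)) ≤ N ⊔ E G α :=
      sup_le le_sup_right (cj_E (hNG hn') ▸ cj_le_of_mem (mem_sup_left hn') le_sup_right)
    have h2 : E G α ≤ N := le_sup_left.trans ((h.perfect hk (h.conj (hNG hn')) e).ge.trans
      ((commutator_mono h1 h1).trans (comm_sup_le E_comm fun b hb => hn b (le _ hB hb))))
    refine iSup₂_le fun C hC => ?_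
    obtain ⟨x, hx, rfl⟩ := cls_inner hk hG hA hB hC
    exact (cj_mono h2).trans (hn x hx).le

theorem cls_root (hk : Big k) (hG : NU k G) (hA : A ∈ Sg G) :
    IsRootSubgroupClass ((fun B : Subgroup (End k M)ˣ => B.subgroupOf (⨆ B ∈ cls G A, B)) '' cls G A) := by
  refine ⟨rootSet_subgroupOf (fun B hB => ?_) (fun B hB => ?_) (fun B hB g hg => cls_cj hB (cls_le hA hg))
    fun B hB C hC => ?_, ⟨_, _, cls_self, rfl⟩, ?_⟩
  · obtain ⟨α, h, rfl⟩ := cls_sub hA hB; exact E_comm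
  · obtain ⟨α, h, rfl⟩ := cls_sub hA hB; exact h.E_ne_bot
  · obtain ⟨α, h, rfl⟩ := cls_sub hA hB
    obtain ⟨β, h', rfl⟩ := cls_sub hA hC
    by_cases e : α * β * α = 0
    · exact (h.uc hk h' e).comm_or.imp_right fun c : CC G α β => Or.inr ⟨cls_trans hC (c.comm_eq hk hG ▸ c.cj hk hG), (c.rc hk hG).2⟩
    · exact Or.inr (Or.inl (h.r1 hk h' e))
  · rintro _ ⟨B, hB, rfl⟩ _ ⟨C, hC, rfl⟩
    obtain ⟨x, hx, rfl⟩ := cls_inner hk hG hA hB hC
    exact ⟨⟨x, hx⟩, (cj_subgroupOf ⟨x, hx⟩).symm⟩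

/-- the subgroup generated by the quadratic elements not opposite to any minimal one -/
def N0 (G : Subgroup (End k M)ˣ) : Subgroup (End k M)ˣ :=
  closure {g | Q k G ((g : End k M) - 1) ∧ ∀ α, D G α → α * ((g : End k M) - 1) * α = 0}

theorem N0_le : N0 G ≤ G := (closure_le _).2 fun g hg => in_val.1 (by simpa using hg.1.mem 1)
theorem un_N0 (h : Q k G τ) (h0 : ∀ α, D G α → α * τ * α = 0) : un τ h.sq ∈ N0 G := subset_closure (by simpa using ⟨h, h0⟩)
theorem N0_cj (hg : g ∈ G) : cj g (N0 G) = N0 G := by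
  have key : ∀ g ∈ G, cj g (N0 G) ≤ N0 G := fun g hg => by
    rw [cj, conjBy, N0, MonoidHom.map_closure]
    refine closure_mono ?_
    rintro _ ⟨x, ⟨h1, h2⟩, rfl⟩
    refine ⟨by simpa [mul_sub, sub_mul] using h1.conj hg, fun α h => ?_⟩
    have := congrArg (fun z => (g : End k M) * z * (g⁻¹ : (End k M)ˣ)) (h2 _ (h.conj (inv_mem hg)))
    simpa [mul_sub, sub_mul, mul_assoc] using this
  exact le_antisymm (key g hg) (by simpa using cj_mono (g := g) (key _ (inv_mem hg)))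

theorem N0_comm (hk : Big k) (hG : NU k G) : ⁅G0 G, N0 G⁆ = ⊥ := by
  have key : ∀ n ∈ N0 G, ∀ α β, D G α → D G β → β * (n * α * (n⁻¹ : (End k M)ˣ)) * β = β * α * β := by
    intro n hn
    induction hn using closure_induction with
    | one => simp
    | mul x y hx hy h1 h2 =>
      intro α β a b
      rw [← h2 α β a b, ← h1 _ β (a.conj (N0_le hy)) b]
      simp [mul_assoc]
    | inv x hx h =>
      intro α β a b
      rw [← h _ β (a.conj (inv_mem (N0_le hx))) b]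
      simp [mul_assoc]
    | mem x hx =>
      intro α β a b
      obtain ⟨τ, q, h0, rfl⟩ : ∃ τ, ∃ q : Q k G τ, (∀ α, D G α → α * τ * α = 0) ∧ x = un τ q.sq :=
        ⟨_, hx.1, hx.2, Units.ext (by simp)⟩
      have h1 : ∀ α, D G α → β * (α * τ - τ * α) * β = 0 := fun α a => by
        have := congrArg (fun z => (1 + α) * z * (1 - α)) (h0 _ (b.conj' a.toQ.neg))
        have e1 := h0 α a
        have e2 := h0 β b
        have e3 : ∀ x, α * (τ * (α * x)) = 0 := fun x => by simpa [mul_assoc] using congrArg (· * x) e1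
        have e4 : ∀ x, β * (τ * (β * x)) = 0 := fun x => by simpa [mul_assoc] using congrArg (· * x) e2
        rw [mul_assoc] at e1 e2
        simp only [← sub_eq_add_neg, sub_neg_eq_add, mul_add, add_mul, mul_sub, sub_mul, mul_assoc, a.sq, a.sq',
          one_mul, mul_one, e1, e2, e3, e4, mul_zero, zero_mul, add_zero, sub_zero, zero_add, zero_sub] at this ⊢
        linear_combination (norm := abel1) this
      have h2 := h1 α a
      have h3 := h1 _ (a.conj' q)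
      have h4 : (2 : k) • (β * (τ * α * τ) * β) = 0 := by
        rw [two_smul]
        simp only [mul_add, add_mul, mul_sub, sub_mul, mul_assoc, q.sq, q.sq', one_mul, mul_one, mul_zero, zero_mul,
          add_zero, sub_zero] at h2 h3 ⊢
        linear_combination (norm := abel1) h3 - h2
      rw [smul_eq_zero_iff_right hk.two] at h4
      rw [un_val, un_inv]
      linear_combination (norm := noncomm_ring) -h2 - h4
  rw [commutator_eq_bot_iff_le_centralizer]
  refine iSup₂_le ?_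
  rintro _ ⟨α, h, rfl⟩
  exact commutator_eq_bot_iff_le_centralizer.1 (h.comm_of_not_opp hk N0_le (hG.of_norm N0_le fun g hg => N0_cj hg)
    (le_normalizer_iff_commutator_le_right.1 fun a ha => mem_normalizer_iff_cj.2 (N0_cj (E_le ha)))
    fun n hn => by rw [key n hn α α h h, h.sq, zero_mul])

theorem Q.split {H : Subgroup (End k M)ˣ} (h : Q k G τ) (h1 : Q k H x) (hH : H ≤ G) (e : x * τ = 0) (e' : τ * x = 0) :
    ∃ q : Q k G (τ - x), un τ h.sq = un x h1.sq * un _ q.sq :=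
  ⟨h.sub (h1.mono hH) e' e, Units.ext (by simp [mul_add, add_mul, mul_sub, e, h1.sq])⟩

theorem Q_of_cE {H : Subgroup (End k M)ˣ} (h : β ∈ cE G α) (e : E G α ≤ H) : Q k H β :=
  ⟨h.1.sq, fun c => ⟨un _ (h.1.smul c).sq, e (un_mem.2 (Submodule.smul_mem _ c h)), rfl⟩⟩

theorem Q.mem_G0_N0 (hk : Big k) (h : Q k G τ) : un τ h.sq ∈ G0 G ⊔ N0 G := by
  induction hn : rk τ using Nat.strong_induction_on generalizing τ with
  | _ n ih =>
    by_cases h0 : ∀ α, D G α → α * τ * α = 0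
    · exact mem_sup_right (un_N0 h h0)
    · push Not at h0
      obtain ⟨α, a, hne⟩ := h0
      obtain ⟨β, b, -, -, -, -, x, hx, -, e1, e2, lt⟩ := a.partner' hk h hne
      obtain ⟨q, e⟩ := h.split hx.1 le_rfl e1 e2
      rw [e]
      exact mul_mem (mem_sup_left (b.le_G0 (un_mem.2 hx))) (ih _ (hn ▸ lt) q rfl)

theorem le_of_quad {H : Subgroup (End k M)ˣ} (hG : closure (quadraticElements G) = G)
    (h : ∀ τ (q : Q k G τ), un τ q.sq ∈ H) : G ≤ H := by
  rw [← hG, closure_le]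
  intro g hg
  have := h _ (quad_iff.1 hg).1
  rwa [show un _ (quad_iff.1 hg).1.sq = g from Units.ext (by simp)] at this

theorem decomp (hk : Big k) (n : ℕ) : ∀ G : Subgroup (End k M)ˣ, NU k G →
    (∀ τ, Q k G τ → τ ≠ 0 → finrank k M < rk τ + n) → ∃ 𝒢 : Set (Subgroup (End k M)ˣ), 𝒢.Finite ∧
      (∀ H ∈ 𝒢, H ≤ G ∧ QS H ∧ H ≤ closure (quadraticElements H)) ∧ (∀ H ∈ 𝒢, ∀ H' ∈ 𝒢, H ≠ H' → ⁅H, H'⁆ = ⊥) ∧
      ∀ τ, Q k G τ → τ ≠ 0 → ∃ H ∈ 𝒢, ∃ x, Q k H x ∧ x ≠ 0 ∧ x * τ = 0 ∧ τ * x = 0 ∧ rk (τ - x) < rk τ := by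
  induction n with
  | zero =>
    intro G _ h
    exact ⟨∅, Set.finite_empty, by simp, by simp, fun τ q h0 =>
      absurd (h τ q h0) (by simpa using Submodule.finrank_le _)⟩
  | succ n ih =>
    intro G hG h
    have cm := N0_comm hk hG
    obtain ⟨𝒢, f, a, b, c⟩ := ih (N0 G) (hG.of_norm N0_le fun g hg => N0_cj hg) fun τ q h0 => by
      have : ¬ ∀ β, Q k G β → β ≠ 0 → rk τ ≤ rk β := fun hm => by
        obtain ⟨β, h', hne⟩ := D.exists_opp hk hG ⟨q.mono N0_le, h0, hm⟩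
        have := congrArg Units.val (comm_commute cm (h'.le_G0 (un_mem.2 h'.mem_cE : un _ h'.sq ∈ _)) q.one).eq
        simp only [Units.val_mul, un_val] at this
        refine hne ?_
        rw [show τ * β = β * τ by linear_combination (norm := noncomm_ring) -this, mul_assoc, q.sq, mul_zero]
      push Not at this
      obtain ⟨β, h1, h2, h3⟩ := this
      have := h β h1 h2
      omega
    refine ⟨(fun c => ⨆ B ∈ c, B) '' (cls G '' Sg G) ∪ 𝒢, ((cls_finite hk hG).image _).union f, ?_, ?_, fun τ q h0 => ?_⟩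
    · rintro H (⟨_, ⟨A, hA, rfl⟩, rfl⟩ | hH)
      · refine ⟨(cls_le hA).trans G0_le, cls_qs hk hG hA, iSup₂_le fun B hB g hg => ?_⟩
        obtain ⟨α, h, rfl⟩ := cls_sub hA hB
        obtain ⟨x, hx, rfl⟩ := E_cases hg
        by_cases x0 : x = 0
        · rw [un_eq_one.2 x0]; exact one_mem _
        · exact subset_closure (un_quad (Q_of_cE hx (le_iSup₂_of_le (f := fun A _ => A) _ hB le_rfl)) x0)
      · exact ⟨(a H hH).1.trans N0_le, (a H hH).2⟩
    · rintro H (⟨_, ⟨A, hA, rfl⟩, rfl⟩ | hH) H' (⟨_, ⟨B, hB, rfl⟩, rfl⟩ | hH') hne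
      · exact cls_comm hk hG hA hB fun e => hne (by rw [e])
      · exact comm_bot_mono cm (cls_le hA) (a _ hH').1
      · exact comm_bot_symm (comm_bot_mono cm (cls_le hB) (a _ hH).1)
      · exact b H hH H' hH' hne
    · by_cases h1 : ∀ α, D G α → α * τ * α = 0
      · obtain ⟨H, hH, r⟩ := c τ ⟨q.sq, fun d => ⟨_, un_N0 (q.smul d) fun α a => by simp [h1 α a], rfl⟩⟩ h0
        exact ⟨H, Or.inr hH, r⟩
      · push Not at h1
        obtain ⟨α, a, hne⟩ := h1
        obtain ⟨β, b, -, -, -, -, x, hx, r⟩ := a.partner' hk q hne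
        exact ⟨_, Or.inl ⟨_, ⟨_, ⟨β, b, rfl⟩, rfl⟩, rfl⟩, x,
          Q_of_cE hx (le_iSup₂_of_le (f := fun A _ => A) _ cls_self le_rfl), r⟩

theorem decomp' (hk : Big k) (hG : IsQuadraticPair G) : ∃ 𝒢 : Set (Subgroup (End k M)ˣ), 𝒢.Finite ∧
    (∀ H ∈ 𝒢, H ≤ G ∧ (∀ g ∈ G, cj g H = H) ∧ QS H ∧ H ≤ closure (quadraticElements H)) ∧
    (∀ H ∈ 𝒢, ∀ H' ∈ 𝒢, H ≠ H' → ⁅H, H'⁆ = ⊥) ∧ G ≤ ⨆ H ∈ 𝒢, H ∧ ∀ τ, Q k G τ → τ ≠ 0 → ∃ H ∈ 𝒢, Q k H τ := by
  have hN := nu_of_irr hG.1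
  obtain ⟨𝒢, f, a, b, c⟩ := decomp hk (finrank k M + 1) G hN fun τ _ _ => by omega
  have gen : G ≤ ⨆ H ∈ 𝒢, H := le_of_quad hG.2 fun τ q => by
    induction hn : rk τ using Nat.strong_induction_on generalizing τ with
    | _ n ih =>
      by_cases h0 : τ = 0
      · rw [un_eq_one.2 h0]; exact one_mem _
      · obtain ⟨H, hH, x, hx, -, e1, e2, lt⟩ := c τ q h0
        obtain ⟨q', e⟩ := q.split hx (a H hH).1 e1 e2
        rw [e]
        exact mul_mem (le_iSup₂_of_le (f := fun A _ => A) H hH le_rfl hx.one) (ih _ (hn ▸ lt) _ q' rfl)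
  have nm : ∀ H ∈ 𝒢, ∀ g ∈ G, cj g H = H := fun H hH g hg =>
    iSup_induction (P := fun g => cj g H = H) (fun H' hH' x hx => by
      by_cases e : H' = H
      · exact cj_of_mem (e ▸ hx)
      · exact cj_of_comm_bot (b _ hH' _ hH e) hx) (cj_one _) (fun x y hx hy => by rw [cj_mul, hy, hx]) (gen hg)
  refine ⟨𝒢, f, fun H hH => ⟨(a H hH).1, nm H hH, (a H hH).2⟩, b, gen, fun τ q h0 => ?_⟩
  induction hn : rk τ using Nat.strong_induction_on generalizing τ with
  | _ n ih =>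
    obtain ⟨H, hH, x, hx, x0, e1, e2, lt⟩ := c τ q h0
    by_cases h1 : τ - x = 0
    · exact ⟨H, hH, (sub_eq_zero.1 h1) ▸ hx⟩
    obtain ⟨H', hH', q'⟩ := ih _ (hn ▸ lt) _ (q.sub (hx.mono (a H hH).1) e2 e1) h1 rfl
    have e3 : x * (τ - x) = 0 := by rw [mul_sub, e1, hx.sq, sub_zero]
    by_cases e : H' = H
    · exact ⟨H, hH, by simpa using hx.add (e ▸ q') e3 (by rw [sub_mul, e2, hx.sq, sub_zero])⟩
    exfalso
    set z := τ - x
    have cm : ∀ h ∈ H, (h : End k M) * z = z * h := fun h hh => by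
      have := congrArg Units.val (comm_commute (b _ hH' _ hH e) q'.one hh).eq
      simp only [Units.val_mul, un_val] at this
      linear_combination (norm := noncomm_ring) -this
    let K : Subgroup (End k M)ˣ :=
      { carrier := {g | (g : End k M) * z = z}
        one_mem' := by simp
        mul_mem' := fun {a b} ha hb => by
          rw [Set.mem_setOf_eq] at *
          rw [Units.val_mul, mul_assoc, hb, ha]
        inv_mem' := fun {a} ha => by
          rw [Set.mem_setOf_eq] at *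
          rw [Units.inv_mul_eq_iff_eq_mul, ha] }
    have key : ∀ h ∈ H, ∀ g ∈ K, h * g * h⁻¹ ∈ K := fun h hh g hg => by
      change ((h * g * h⁻¹ : (End k M)ˣ) : End k M) * z = z
      rw [Units.val_mul, Units.val_mul, mul_assoc, cm _ (inv_mem hh), mul_assoc, ← mul_assoc _ z,
        show (g : End k M) * z = z from hg, ← cm _ (inv_mem hh), Units.mul_inv_cancel_left]
    have xK : un x hx.sq ∈ K := by
      change (1 + x) * z = z
      rw [add_mul, one_mul, e3, add_zero]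
    have x1 : un x hx.sq ≠ 1 := fun e => x0 (un_eq_one.1 e)
    rcases (a H hH).2.1.key (H ⊓ K) inf_le_left (fun h hh => by
      ext g
      rw [mem_cj]
      exact ⟨fun e => by simpa [mul_assoc] using (⟨H.mul_mem (mul_mem hh e.1) (inv_mem hh), key h hh _ e.2⟩ :
          h * (h⁻¹ * g * h) * h⁻¹ ∈ H ⊓ K),
        fun e => ⟨H.mul_mem (mul_mem (inv_mem hh) e.1) hh, by simpa using key _ (inv_mem hh) _ e.2⟩⟩) with e | e
    · obtain ⟨m, hm⟩ := DFunLike.ne_iff.1 h1
      exact (a H hH).2.1.ne (eq_bot_of_fixed hG.1 (nm H hH) hm fun g hg => congrArg (· m) (e hg).2)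
    · refine x1 ((hN.of_norm (a H hH).1 (nm H hH) (zpowers (un x hx.sq)) (zpowers_le.2 hx.one)
        (un_E.mono (zpowers_le.2 (un_mem.2 hx.mem_cE))) fun g hg => cj_of_commute fun y hy => ?_).le (mem_zpowers _))
      obtain ⟨j, rfl⟩ := mem_zpowers_iff.1 hy
      exact (comm_commute e ⟨hx.one, xK⟩ hg).symm.zpow_right j

end H20.QP
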