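import Cfsg.Agent.H5.Kernel
import Cfsg.Agent.H5.Ind
import Cfsg.Agent.H5.Central
import Cfsg.Agent.H6.Extension

/-! Sums of squares of the degrees prime to `p`, compared with a subgroup of index prime to `p`
(`H20.Sq.low`, `H20.Sq.up`). -/

set_option autoImplicit false
set_option linter.unusedSectionVars false

namespace H20.Sq

open Finset Cfsg H5 H5.Cfsg
open scoped Classical

variable {G : Type*} [Group G] [Finite G]

theorem sumA (W : Subgroup G) [W.Normal] :
    ∑ η ∈ univ.filter (fun η : IrrCharacter G => W ≤ charKer (η : G → ℂ)),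
      charDegree (η : G → ℂ) ^ 2 = W.index := by
  rw [Finset.sum_subtype (p := fun η : IrrCharacter G => W ≤ charKer (η : G → ℂ)) _ (by simp),
    ← (irrQuotientEquiv W).sum_comp]
  have h := sum_sq_degrees (G := G ⧸ W)
  apply Nat.cast_injective (R := ℂ)
  rw [Subgroup.index, ← h]
  push_cast
  refine sum_congr rfl fun η _ => ?_
  rw [((irrQuotientEquiv W η).1).2.coe_charDegree, irrQuotientEquiv_apply]
  rfl

theorem low (p : ℕ) (hp : p.Prime) (N : Subgroup G) (hN : ¬ p ∣ N.index) (A : Finset (IrrCharacter N))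
    (hA : ∀ η ∈ A, ¬ p ∣ charDegree (η : N → ℂ)) :
    ∑ η ∈ A, charDegree (η : N → ℂ) ^ 2 ≤
      ∑ χ ∈ univ.filter (fun χ : IrrCharacter G => ¬ p ∣ charDegree (χ : G → ℂ)),
        charDegree (χ : G → ℂ) ^ 2 ∧
    (∑ η ∈ A, charDegree (η : N → ℂ) ^ 2 =
      ∑ χ ∈ univ.filter (fun χ : IrrCharacter G => ¬ p ∣ charDegree (χ : G → ℂ)),
        charDegree (χ : G → ℂ) ^ 2 →
      ∀ η ∈ A, ∃ χ : IrrCharacter G, ∀ x : N, (χ : G → ℂ) x = (η : N → ℂ) x) := by
  haveI := Fintype.ofFinite G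
  haveI := Fintype.ofFinite N
  set B := univ.filter (fun χ : IrrCharacter G => ¬ p ∣ charDegree (χ : G → ℂ)) with hB
  choose m hm1 hm2 using fun χ : IrrCharacter G => (χ.2.isCharacter.restrict N).exists_nat
  have hd : ∀ χ : IrrCharacter G,
      charDegree (χ : G → ℂ) = ∑ η : IrrCharacter N, m χ η * charDegree (η : N → ℂ) := by
    intro χ
    apply Nat.cast_injective (R := ℂ)
    have := congrFun (hm2 χ) 1
    simp only [Finset.sum_apply, Pi.smul_apply, smul_eq_mul, OneMemClass.coe_one] at this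
    rw [χ.2.coe_charDegree, this]
    push_cast
    exact sum_congr rfl fun η _ => by rw [η.2.coe_charDegree]
  have hi : ∀ η : IrrCharacter N, N.index * charDegree (η : N → ℂ) =
      ∑ χ : IrrCharacter G, m χ η * charDegree (χ : G → ℂ) := by
    intro η
    apply Nat.cast_injective (R := ℂ)
    have h1 := (isClassFunction_indFun N (η : N → ℂ)).apply_eq_sum_irr 1
    rw [indFun_apply_one] at h1
    push_cast
    rw [η.2.coe_charDegree, h1]
    refine sum_congr rfl fun χ _ => ?_
    rw [χ.2.coe_charDegree, frobenius_reciprocity N _ χ.2.isClassFunction,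
      η.2.isCharacter.classInner_comm (χ.2.isCharacter.restrict N), hm1]
  have hex : ∀ η : IrrCharacter N, ∃ χ : IrrCharacter G, η ∈ A → χ ∈ B ∧ 1 ≤ m χ η := by
    intro η
    by_cases h : η ∈ A
    · by_contra hc
      push Not at hc
      have : p ∣ N.index * charDegree (η : N → ℂ) := by
        rw [hi]
        refine dvd_sum fun χ _ => ?_
        by_cases h2 : p ∣ charDegree (χ : G → ℂ)
        · exact h2.mul_left _
        · have := (hc χ).2 (mem_filter.2 ⟨mem_univ _, h2⟩)
          have h0 : m χ η = 0 := by omega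
          simp [h0]
      rcases (Nat.Prime.dvd_mul hp).1 this with h3 | h3
      · exact hN h3
      · exact hA η h h3
    · exact ⟨default, fun h' => absurd h' h⟩
  choose f hf using hex
  have h1 : ∀ η ∈ A, charDegree (η : N → ℂ) ≤ charDegree (f η : G → ℂ) := by
    intro η h
    rw [hd]
    refine le_trans ?_ (single_le_sum (f := fun ξ : IrrCharacter N => m (f η) ξ * charDegree (ξ : N → ℂ))
      (fun _ _ => Nat.zero_le _) (mem_univ η))
    exact Nat.le_mul_of_pos_left _ (hf η h).2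
  have h2 : ∀ η ∈ A, charDegree (η : N → ℂ) ^ 2 ≤ charDegree (η : N → ℂ) * charDegree (f η : G → ℂ) :=
    fun η h => by rw [sq]; exact Nat.mul_le_mul_left _ (h1 η h)
  have h3 : ∑ η ∈ A, charDegree (η : N → ℂ) * charDegree (f η : G → ℂ) ≤
      ∑ χ ∈ B, charDegree (χ : G → ℂ) ^ 2 := by
    rw [← sum_fiberwise_of_maps_to (s := A) (t := B) (g := f) (fun η h => (hf η h).1)]
    refine sum_le_sum fun χ _ => ?_
    have e : ∑ η ∈ A with f η = χ, charDegree (η : N → ℂ) * charDegree (f η : G → ℂ) =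
        (∑ η ∈ A with f η = χ, charDegree (η : N → ℂ)) * charDegree (χ : G → ℂ) := by
      rw [sum_mul]
      exact sum_congr rfl fun η h => by rw [(mem_filter.1 h).2]
    rw [e, sq]
    refine Nat.mul_le_mul_right _ ?_
    conv_rhs => rw [hd]
    refine le_trans (sum_le_sum (g := fun η => m χ η * charDegree (η : N → ℂ)) fun η h => ?_)
      (sum_le_sum_of_subset (subset_univ _))
    obtain ⟨k1, k2⟩ := mem_filter.1 h
    exact Nat.le_mul_of_pos_left _ (k2 ▸ (hf η k1).2)
  refine ⟨(sum_le_sum h2).trans h3, fun he η h => ⟨f η, fun x => ?_⟩⟩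
  have h4 := (sum_eq_sum_iff_of_le h2).1 (le_antisymm (sum_le_sum h2) (h3.trans he.ge)) η h
  rw [sq] at h4
  have h5 := Nat.eq_of_mul_eq_mul_left η.2.charDegree_pos h4
  have h6 := ((f η).2.isCharacter.restrict N).sub_irr η.2 (by
    rw [hm1]
    have := (hf η h).2
    exact_mod_cast (by omega : m (f η) η ≠ 0))
  have h7 := h6.eq_zero_of_apply_one (by
    simp only [Pi.sub_apply, OneMemClass.coe_one]
    rw [← (f η).2.coe_charDegree, ← η.2.coe_charDegree, h5, sub_self])
  exact sub_eq_zero.1 (congrFun h7 x)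

theorem up (N K : Subgroup G) [K.Normal] (hKN : K ⊔ N = ⊤) (B : Finset (IrrCharacter G))
    (A : Finset (IrrCharacter N)) (hK : ∀ χ ∈ B, K ≤ charKer (χ : G → ℂ))
    (hA : ∀ χ ∈ B, ∀ η : IrrCharacter N, (∀ x : N, (χ : G → ℂ) x = (η : N → ℂ) x) → η ∈ A) :
    ∑ χ ∈ B, charDegree (χ : G → ℂ) ^ 2 ≤ ∑ η ∈ A, charDegree (η : N → ℂ) ^ 2 := by
  have hdec : ∀ g : G, ∃ k ∈ K, ∃ n ∈ N, k * n = g := by
    intro g
    have : g ∈ ((K ⊔ N : Subgroup G) : Set G) := by rw [hKN]; trivial
    rw [Subgroup.normal_mul] at this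
    exact Set.mem_mul.1 this
  have hex : ∀ χ : IrrCharacter G, ∃ η : IrrCharacter N, χ ∈ B → ∀ x : N, (χ : G → ℂ) x = (η : N → ℂ) x := by
    intro χ
    by_cases h : χ ∈ B
    · obtain ⟨χ', h1, h2⟩ := χ.2.exists_deflate K (hK χ h)
      refine ⟨⟨fun x : N => χ' (((QuotientGroup.mk' K).comp N.subtype) x), h1.comp_surjective _ ?_⟩,
        fun _ x => (h2 x).symm⟩
      intro q
      obtain ⟨g, rfl⟩ := QuotientGroup.mk'_surjective K q
      obtain ⟨k, hk, n, hn, rfl⟩ := hdec g
      refine ⟨⟨n, hn⟩, ?_⟩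
      simp [(QuotientGroup.eq_one_iff k).2 hk]
    · exact ⟨default, fun h' => absurd h' h⟩
  choose f hf using hex
  have hinj : ∀ χ ∈ B, ∀ ψ ∈ B, f χ = f ψ → χ = ψ := by
    intro χ h ψ h' e
    refine Subtype.ext (funext fun g => ?_)
    obtain ⟨k, hk, n, hn, rfl⟩ := hdec g
    rw [hK χ h hk n, hK ψ h' hk n]
    exact (hf χ h ⟨n, hn⟩).trans (e ▸ (hf ψ h' ⟨n, hn⟩).symm)
  have hsub : B.image f ⊆ A := by
    intro η h
    obtain ⟨χ, h1, rfl⟩ := mem_image.1 h
    exact hA χ h1 _ (hf χ h1)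
  refine le_trans (le_of_eq ?_) (sum_le_sum_of_subset hsub)
  rw [sum_image hinj]
  refine sum_congr rfl fun χ h => ?_
  have := hf χ h 1
  simp only [OneMemClass.coe_one] at this
  simp only [charDegree, this]

end H20.Sq
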