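import Cfsg.Agent.H20.Sr1
import Cfsg.Agent.H10.SyB

/-! Imports for the Sylow ratio rows. -/
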